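import Cfsg.Agent.H323.SuzOut
import Cfsg.Agent.CpAut.Base

/-!
# The outer involutory automorphisms of the Suzuki group: elements of order 13, subgroups of order `3⁴ 7` (helper323)
-/

set_option autoImplicit false
set_option maxRecDepth 100000
set_option exponentiation.threshold 5000

namespace Cfsg.Agent.H323.SuzOut

open Subgroup Cfsg
open Cfsg.Spor (Suz)
open Cfsg.Agent.Lib Cfsg.Agent.Lib.BitNet Cfsg.Agent.Lib.BitNetSimple
  Cfsg.Agent.SporadicRecognition.SuzOrder Cfsg.Agent.OddHalf.Table.SuzNets Cfsg.Agent.OddHalf.Table.SuzGraph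
  Cfsg.Agent.OddHalf.Table.SuzRep Cfsg.Agent.OddHalf.Table.OutSuz
open Cfsg.Agent.SporRec.SuzCl (cntP cntP_eq Fx)
open Cfsg.Agent.CpAutSuz.Fix (mem_Fx exists_fix card_three_of_fix no_fix card_Fx_seven card_Fx_thirteen
  φ_mul_apply mem_stab_pt)
open Cfsg.Agent.SporadicRecognition.SuzPhi (φ)

universe u

/-- the two types of inducing permutations -/
def Ty (P : Pm) : Prop := (DF P = ∅ ∧ (DA P).card = 792) ∨ (DF P).card = 100

theorem Ind.map_Fx {α : MulAut Suz} {P : Pm} (h : Ind α P) {v : Suz} (hv : α v = v) {p : ℕ} (hp : p ∈ Fx v) :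
    ev P p ∈ Fx v := by
  rw [mem_Fx] at hp ⊢
  exact ⟨ev_lt hp.1, by rw [h.comm hv hp.1, hp.2]⟩

theorem Ind.ev_ev {α : MulAut Suz} {P : Pm} (h : Ind α P) {p : ℕ} (hp : p < 1782) : ev P (ev P p) = p := by
  rw [← ev_mul _ _ hp, h.sq, ev_one]

theorem no13_ind {α : MulAut Suz} {P : Pm} (h : Ind α P) (ht : Ty P) {v : Suz} (hv : α v = v) : orderOf v ≠ 13 := by
  intro hv13
  have h1 := card_Fx_thirteen hv13
  rcases ht with ⟨h2, -⟩ | h2
  · obtain ⟨p, hp⟩ := Finset.card_eq_one.1 h1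
    have h3 : p ∈ Fx v := by rw [hp]; exact Finset.mem_singleton_self p
    have h4 := h.map_Fx hv h3
    rw [hp, Finset.mem_singleton] at h4
    have h5 : p ∈ DF P := mem_DF.2 ⟨(mem_Fx.1 h3).1, h4⟩
    rw [h2] at h5
    exact absurd h5 (Finset.notMem_empty p)
  · have h3 := fix_modEq (by norm_num) hv13 (DF P) (fun a ha => h.map_DF hv ha)
    have h4 : ((DF P).filter fun a => φ v a = a).card ≤ 1 := by
      rw [← h1]
      refine Finset.card_le_card fun a ha => ?_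
      rw [Finset.mem_filter] at ha
      exact mem_Fx.2 ⟨(mem_DF.1 ha.1).1, ha.2⟩
    rw [h2] at h3
    have h5 : 100 % 13 = ((DF P).filter fun a => φ v a = a).card % 13 := h3
    omega

theorem no7_ind {α : MulAut Suz} {P : Pm} (h : Ind α P) (h2 : DF P = ∅) (h3 : (DA P).card = 792) {v : Suz}
    (hv : α v = v) : orderOf v ≠ 7 := by
  intro hv7
  have h1 := card_Fx_seven hv7
  have h4 := fix_modEq (by norm_num) hv7 (DA P) (fun a ha => h.map_DA hv ha)
  have h5 : ((DA P).filter fun a => φ v a = a).card ≤ 4 := by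
    rw [← h1]
    refine Finset.card_le_card fun a ha => ?_
    rw [Finset.mem_filter] at ha
    exact mem_Fx.2 ⟨(mem_DA.1 ha.1).1, ha.2⟩
  rw [h3] at h4
  have h6 : 792 % 7 = ((DA P).filter fun a => φ v a = a).card % 7 := h4
  have h7 : ((DA P).filter fun a => φ v a = a).card = 1 := by omega
  obtain ⟨p, hp⟩ := Finset.card_eq_one.1 h7
  have h8 : p ∈ (DA P).filter fun a => φ v a = a := by rw [hp]; exact Finset.mem_singleton_self p
  rw [Finset.mem_filter] at h8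
  have hp1 := (mem_DA.1 h8.1).1
  have h9 : ev P p ∈ (DA P).filter fun a => φ v a = a := by
    rw [Finset.mem_filter, mem_DA]
    refine ⟨⟨ev_lt hp1, ?_⟩, ?_⟩
    · rw [adj_map h.mem hp1 (ev_lt hp1)]
      exact (mem_DA.1 h8.1).2
    · rw [h.comm hv hp1, h8.2]
  rw [hp, Finset.mem_singleton] at h9
  have h10 : p ∈ DF P := mem_DF.2 ⟨hp1, h9⟩
  rw [h2] at h10
  exact absurd h10 (Finset.notMem_empty p)

theorem no81_ind {α : MulAut Suz} {P : Pm} (h : Ind α P) (h2 : (DF P).card = 100) :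
    ¬ 3 ^ 4 ∣ Nat.card ↥(fixedSubgroup α) := by
  intro hd
  have hfin := finite_Suz
  have : Fact (Nat.Prime 3) := ⟨Nat.prime_three⟩
  obtain ⟨Q, hQ⟩ := Sylow.exists_subgroup_card_pow_prime (G := ↥(fixedSubgroup α)) 3 hd
  have hQ2 : Nat.card ↥(Q.map (fixedSubgroup α).subtype) = 3 ^ 4 := by
    rw [card_map_of_injective (fixedSubgroup α).subtype_injective, hQ]
  have hQp : IsPGroup 3 ↥(Q.map (fixedSubgroup α).subtype) := IsPGroup.of_card hQ2
  obtain ⟨a, ha, h3⟩ := exists_fix hQp (DF P) (m := 0) (by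
    rintro _ ⟨q, hq, rfl⟩ a ha
    exact h.map_DF (v := (q : Suz)) q.2 ha) (by rw [h2]; norm_num)
  have h4 := card_three_of_fix (Q := Q.map (fixedSubgroup α).subtype ⊓
      Cfsg.Agent.Lib.PermNetOrbit.stabL φ [a]) (hQp.to_le inf_le_left) (mem_DF.1 ha).1 inf_le_right
  rw [pow_zero, one_mul, hQ2] at h3
  have h5 := h3.trans h4
  norm_num at h5

/-! ### classification -/

theorem center_triv {u : Suz} (h : MulAut.conj u = 1) : u = 1 := Cfsg.Agent.KFacts.SuzInvol.conj_eq_one h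

theorem inner_sq {n : Suz} (h : MulAut.conj n * MulAut.conj n = 1) : n * n = 1 := by
  apply center_triv
  rw [map_mul, h]

/-- `τ` -/
theorem τ_ne {τ : MulAut Suz} (hτ : ∀ g, ψ (τ g) = T * ψ g * T⁻¹) : τ ≠ 1 := by
  rintro rfl
  have h1 := hτ w
  rw [MulAut.one_apply, ψ_w, TW] at h1
  have h2 : R ^ 6 = 1 := by
    have h3 : W = R ^ 6 * W := h1
    exact (right_eq_mul.1 h3)
  apply r6_ne
  apply ψ_injective
  rw [map_pow, ψ_r, h2, map_one]

theorem τ_sq {τ : MulAut Suz} (hτ : ∀ g, ψ (τ g) = T * ψ g * T⁻¹) : τ * τ = 1 := by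
  have hT : T * T = 1 := by rw [← pow_two, T_sq]
  ext g
  apply ψ_injective
  rw [MulAut.mul_apply, hτ, hτ, MulAut.one_apply]
  calc T * (T * ψ g * T⁻¹) * T⁻¹ = (T * T) * ψ g * (T * T)⁻¹ := by group
    _ = ψ g := by rw [hT]; group

theorem τ_x {τ : MulAut Suz} (hτ : ∀ g, ψ (τ g) = T * ψ g * T⁻¹) : τ x = x := by
  apply ψ_injective
  rw [hτ, ψ_x, TX]
  group

theorem τ_y {τ : MulAut Suz} (hτ : ∀ g, ψ (τ g) = T * ψ g * T⁻¹) : τ y = y := by
  apply ψ_injective
  rw [hτ, ψ_y, TY]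
  group

theorem τ_outer {τ : MulAut Suz} (hτ : ∀ g, ψ (τ g) = T * ψ g * T⁻¹) (n : Suz) : τ ≠ MulAut.conj n := by
  intro h
  have hnn : n * n = 1 := inner_sq (by rw [← h, τ_sq hτ])
  have hx : n * x = x * n := by
    have h1 := τ_x hτ
    rw [h, MulAut.conj_apply] at h1
    exact mul_inv_eq_iff_eq_mul.1 h1
  obtain ⟨i, rfl⟩ := cent_x n hx
  have h2 : x ^ (i * 2) = 1 := by rw [pow_mul, pow_two, hnn]
  have h3 := orderOf_dvd_of_pow_eq_one h2
  rw [order_x] at h3
  have h4 : 11 ∣ i := (Nat.Coprime.dvd_mul_right (by norm_num : Nat.Coprime 11 2)).1 h3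
  obtain ⟨j, rfl⟩ := h4
  apply τ_ne hτ
  rw [h, pow_mul, x11, one_pow, map_one]

theorem ind_τ {τ : MulAut Suz} (hτ : ∀ g, ψ (τ g) = T * ψ g * T⁻¹) : Ind τ T :=
  ⟨by rw [← pow_two, T_sq], memT, hτ⟩

theorem ind_τy {τ : MulAut Suz} (hτ : ∀ g, ψ (τ g) = T * ψ g * T⁻¹) : Ind (τ * MulAut.conj y) (T * Y) where
  sq := by
    have hY : Y * Y = 1 := by rw [← ψ_y, ← map_mul, y2, map_one]
    calc T * Y * (T * Y) = T * (Y * T) * Y := by group
      _ = (T ^ 2) * (Y * Y) := by rw [← TY, pow_two]; group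
      _ = 1 := by rw [T_sq, hY, one_mul]
  mem := mul_mem memT memY
  eq g := by
    rw [MulAut.mul_apply, hτ, MulAut.conj_apply, map_mul, map_mul, map_inv, ψ_y]
    group

/-- conjugate under inner automorphisms -/
def IC (α β : MulAut Suz) : Prop := ∃ g, α = MulAut.conj g * β * (MulAut.conj g)⁻¹

theorem IC.symm {α β : MulAut Suz} (h : IC α β) : IC β α := by
  obtain ⟨g, rfl⟩ := h
  exact ⟨g⁻¹, by rw [map_inv]; group⟩

theorem IC.trans {α β γ : MulAut Suz} (h : IC α β) (h' : IC β γ) : IC α γ := by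
  obtain ⟨g, rfl⟩ := h
  obtain ⟨k, rfl⟩ := h'
  exact ⟨g * k, by rw [map_mul]; group⟩

theorem not_ic {τ : MulAut Suz} (hτ : ∀ g, ψ (τ g) = T * ψ g * T⁻¹) : ¬ IC (τ * MulAut.conj y) τ := by
  rintro ⟨g, hg⟩
  have h := ind_τy hτ
  have hv : (τ * MulAut.conj y) (g * x * g⁻¹) = g * x * g⁻¹ := by
    rw [hg, MulAut.mul_apply, MulAut.mul_apply, ← map_inv, MulAut.conj_apply, MulAut.conj_apply]
    have e : g⁻¹ * (g * x * g⁻¹) * g⁻¹⁻¹ = x := by group
    rw [e, τ_x hτ]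
  have ho : orderOf (g * x * g⁻¹) = 11 := by
    have e : g * x * g⁻¹ = MulAut.conj g x := by rw [MulAut.conj_apply]
    rw [e, MulEquiv.orderOf_eq, order_x]
  have h3 := fix_modEq (by norm_num) ho (DF (T * Y)) (fun a ha => h.map_DF hv ha)
  rw [card_DF_TY] at h3
  have h5 : 100 % 11 = ((DF (T * Y)).filter fun a => φ (g * x * g⁻¹) a = a).card % 11 := h3
  have h6 : ((DF (T * Y)).filter fun a => φ (g * x * g⁻¹) a = a).card = 0 := by
    rw [Finset.card_eq_zero, Finset.filter_eq_empty_iff]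
    intro a ha h7
    exact no_fix (l := 11) (by norm_num) ho (mem_DF.1 ha).1 h7
  omega

theorem exists_ind {α : MulAut Suz} (h2 : α * α = 1) (ho : ¬ ∃ g, α = MulAut.conj g) : ∃ P, Ind α P ∧ Ty P := by
  obtain ⟨τ, hτ⟩ := exists_τ
  have key : ∀ β : MulAut Suz, β * β = 1 → (∀ s, β ≠ MulAut.conj s) →
      IC β Cfsg.Agent.KFacts.SuzRho.rho ∨
      IC β (Cfsg.Agent.KFacts.SuzRho.rho * MulAut.conj (PresentedGroup.of Cfsg.Spor.Suz.Gen.e)) := fun β hβ hβo =>
    Cfsg.Agent.KFacts.SuzInvol.outer hβ hβo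
  have hy2 : MulAut.conj y * MulAut.conj y = 1 := by rw [← map_mul, y2, map_one]
  have hyτ : τ * MulAut.conj y = MulAut.conj y * τ := by
    ext g
    rw [MulAut.mul_apply, MulAut.mul_apply, MulAut.conj_apply, MulAut.conj_apply, map_mul, map_mul, map_inv, τ_y hτ]
  have hs : τ * MulAut.conj y * (τ * MulAut.conj y) = 1 := by
    calc τ * MulAut.conj y * (τ * MulAut.conj y) = τ * (MulAut.conj y * τ) * MulAut.conj y := by group
      _ = (τ * τ) * (MulAut.conj y * MulAut.conj y) := by rw [← hyτ]; group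
      _ = 1 := by rw [τ_sq hτ, hy2, one_mul]
  have hso : ∀ s, τ * MulAut.conj y ≠ MulAut.conj s := by
    intro s hs
    apply τ_outer hτ (s * y⁻¹)
    rw [map_mul, map_inv, ← hs]
    group
  have hα := key α h2 (fun s hs => ho ⟨s, hs⟩)
  have h3 := key τ (τ_sq hτ) (τ_outer hτ)
  have h4 := key _ hs hso
  have hn := not_ic hτ
  have hcase : IC α τ ∨ IC α (τ * MulAut.conj y) := by
    rcases h3 with h3 | h3 <;> rcases h4 with h4 | h4
    · exact absurd (h4.trans h3.symm) hn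
    · rcases hα with hα | hα
      · exact Or.inl (hα.trans h3.symm)
      · exact Or.inr (hα.trans h4.symm)
    · rcases hα with hα | hα
      · exact Or.inr (hα.trans h4.symm)
      · exact Or.inl (hα.trans h3.symm)
    · exact absurd (h4.trans h3.symm) hn
  rcases hcase with ⟨g, rfl⟩ | ⟨g, rfl⟩
  · refine ⟨_, (ind_τ hτ).conj g, Or.inl ⟨?_, ?_⟩⟩
    · rw [← Finset.card_eq_zero, card_DF_conj, DF_T, Finset.card_empty]
    · rw [card_DA_conj (ψ_mem g), card_DA_T]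
  · refine ⟨_, (ind_τy hτ).conj g, Or.inr ?_⟩
    rw [card_DF_conj, card_DF_TY]

theorem not13 {α : MulAut Suz} (h2 : α * α = 1) (ho : ¬ ∃ g, α = MulAut.conj g) :
    ¬ 13 ∣ Nat.card ↥(fixedSubgroup α) := by
  intro hd
  have hfin := finite_Suz
  have : Fact (Nat.Prime 13) := ⟨by norm_num⟩
  obtain ⟨P, hP, hT⟩ := exists_ind h2 ho
  obtain ⟨v, hv⟩ := exists_prime_orderOf_dvd_card' 13 hd
  exact no13_ind hP hT (v := (v : Suz)) v.2 (by rw [Subgroup.orderOf_coe, hv])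

theorem not567 {α : MulAut Suz} (h2 : α * α = 1) (ho : ¬ ∃ g, α = MulAut.conj g) :
    ¬ 567 ∣ Nat.card ↥(fixedSubgroup α) := by
  intro hd
  have hfin := finite_Suz
  obtain ⟨P, hP, ⟨h3, h4⟩ | h3⟩ := exists_ind h2 ho
  · have : Fact (Nat.Prime 7) := ⟨by norm_num⟩
    obtain ⟨v, hv⟩ := exists_prime_orderOf_dvd_card' 7 ((show 7 ∣ 567 by norm_num).trans hd)
    exact no7_ind hP h3 h4 (v := (v : Suz)) v.2 (by rw [Subgroup.orderOf_coe, hv])
  · exact no81_ind hP h3 ((show 3 ^ 4 ∣ 567 by norm_num).trans hd)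

/-- transport -/
theorem transport {X : Type u} [Group X] {Y : Type*} [Group Y] (e : X ≃* Y) {n : ℕ}
    (h : ∀ β : MulAut Y, β * β = 1 → (¬ ∃ g, β = MulAut.conj g) → ¬ n ∣ Nat.card ↥(fixedSubgroup β)) {α : MulAut X}
    (h2 : α * α = 1) (ho : ¬ ∃ g, α = MulAut.conj g) : ¬ n ∣ Nat.card ↥(fixedSubgroup α) := by
  have h1 : MulAut.congr e α * MulAut.congr e α = 1 := by rw [← map_mul, h2, map_one]
  have h3 : ¬ ∃ g, MulAut.congr e α = MulAut.conj g := by
    rintro ⟨g, hg⟩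
    apply ho
    refine ⟨e.symm g, ?_⟩
    ext b
    have h4 := DFunLike.congr_fun hg (e b)
    change e (α (e.symm (e b))) = g * e b * g⁻¹ at h4
    rw [e.symm_apply_apply] at h4
    apply e.injective
    rw [h4, MulAut.conj_apply, map_mul, map_mul, map_inv, e.apply_symm_apply]
  rw [Nat.card_congr (CpAut.fixEquiv e α).toEquiv]
  exact h _ h1 h3

/-- **`13` does not divide the order of the centralizer of an outer involution of `Suz`** -/
theorem suz13 {X : Type u} [Group X] (hX : Spor.IsoSuz X) {α : MulAut X}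
    (h2 : α * α = 1) (ho : ¬ ∃ g, α = MulAut.conj g) : ¬ 13 ∣ Nat.card ↥(fixedSubgroup α) := by
  obtain ⟨e⟩ := hX
  exact transport e (fun β h h' => not13 h h') h2 ho

/-- **`567` does not divide the order of the centralizer of an outer involution of `Suz`** -/
theorem suz567 {X : Type u} [Group X] (hX : Spor.IsoSuz X) {α : MulAut X}
    (h2 : α * α = 1) (ho : ¬ ∃ g, α = MulAut.conj g) : ¬ 567 ∣ Nat.card ↥(fixedSubgroup α) := by
  obtain ⟨e⟩ := hX
  exact transport e (fun β h h' => not567 h h') h2 ho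

end Cfsg.Agent.H323.SuzOut
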