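import Cfsg.Agent.H323.DivSec
import Cfsg.Agent.GH.C2Act

/-!
# H323.DivCen: normal 2-subgroups of a perfect group with `LinB`

* `abelian_le_center` : abelian normal 2-subgroups are central;
* `card_of_not_central` : if the kernel of `f : H → S` is not central then `|S|` divides `2880`.
-/

set_option autoImplicit false

namespace Cfsg.Agent.H323.DivLin

open Module
open scoped commutatorElement

universe u v w

/-- If all commutators `[h, t]` are central in a perfect group then `t` is central. -/
theorem central_of_comm {H : Type*} [Group H] (hH : commutator H = ⊤) {t : H}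
    (ht : ∀ h : H, h * t * h⁻¹ * t⁻¹ ∈ Subgroup.center H) : t ∈ Subgroup.center H := by
  let φ : H →* Subgroup.center H :=
    { toFun := fun h => ⟨h * t * h⁻¹ * t⁻¹, ht h⟩
      map_one' := Subtype.ext (by
        change 1 * t * 1⁻¹ * t⁻¹ = 1
        group)
      map_mul' := fun a b => Subtype.ext (by
        change a * b * t * (a * b)⁻¹ * t⁻¹ = (a * t * a⁻¹ * t⁻¹) * (b * t * b⁻¹ * t⁻¹)
        have h1 := Subgroup.mem_center_iff.1 (ht b) (a * t * a⁻¹ * t⁻¹)
        rw [h1]
        have h2 := Subgroup.mem_center_iff.1 (ht b) a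
        have e : a * b * t * (a * b)⁻¹ * t⁻¹ = (a * (b * t * b⁻¹ * t⁻¹)) * (t * a⁻¹ * t⁻¹) := by group
        rw [e, h2]
        group) }
  have hker : φ.ker = ⊤ := by
    rw [eq_top_iff, ← hH, commutator_eq_closure, Subgroup.closure_le]
    rintro _ ⟨a, b, rfl⟩
    rw [SetLike.mem_coe, MonoidHom.mem_ker, map_commutatorElement, commutatorElement_eq_one_iff_mul_comm]
    apply Subtype.ext
    exact Subgroup.mem_center_iff.1 (φ b).2 _
  rw [Subgroup.mem_center_iff]
  intro h
  have h1 : φ h = 1 := (MonoidHom.mem_ker).1 (hker ▸ Subgroup.mem_top h)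
  have h2 : h * t * h⁻¹ * t⁻¹ = 1 := congrArg Subtype.val h1
  rw [mul_inv_eq_one, mul_inv_eq_iff_eq_mul] at h2
  exact h2

/-- **Abelian normal 2-subgroups are central.** -/
theorem abelian_le_center {H : Type u} [Group H] (hB : LinB H) (hH : commutator H = ⊤) (X : Subgroup H)
    (hX : X.Normal) (hXc : ∀ a ∈ X, ∀ b ∈ X, a * b = b * a) (hX2 : IsPGroup 2 X) :
    X ≤ Subgroup.center H := by
  have hinv : ∀ t ∈ X, t * t = 1 → t ∈ Subgroup.center H := by
    intro t ht htt
    by_contra htc
    apply htc
    apply central_of_comm hH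
    intro h
    have hs : h * t * h⁻¹ ∈ X := hX.conj_mem t ht h
    have hss : h * t * h⁻¹ * (h * t * h⁻¹) = 1 := by
      have e : h * t * h⁻¹ * (h * t * h⁻¹) = h * (t * t) * h⁻¹ := by group
      rw [e, htt, mul_one, mul_inv_cancel]
    have hinvt : t⁻¹ = t := inv_eq_of_mul_eq_one_left htt
    rw [hinvt]
    rcases hB.inv t (h * t * h⁻¹) htt hss (hXc t ht _ hs) htc with h1 | h1
    · exfalso
      apply htc
      have : t = h⁻¹ * (h * t * h⁻¹) * h⁻¹⁻¹ := by group
      rw [this]
      exact Subgroup.Normal.conj_mem inferInstance _ h1 h⁻¹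
    · exact h1
  have hall : ∀ n : ℕ, ∀ x ∈ X, x ^ 2 ^ n = 1 → x ∈ Subgroup.center H := by
    intro n
    induction n with
    | zero =>
      intro x _ h1
      rw [pow_zero, pow_one] at h1
      rw [h1]; exact Subgroup.one_mem _
    | succ n ih =>
      intro x hx h1
      have h2 : x * x ∈ Subgroup.center H := by
        apply ih _ (X.mul_mem hx hx)
        rw [← pow_two, ← pow_mul, ← pow_succ']
        exact h1
      apply central_of_comm hH
      intro h
      have hc : h * x * h⁻¹ ∈ X := hX.conj_mem x hx h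
      have hm : h * x * h⁻¹ * x⁻¹ ∈ X := X.mul_mem hc (X.inv_mem hx)
      apply hinv _ hm
      have h3 : h * x * h⁻¹ * x⁻¹ * (h * x * h⁻¹ * x⁻¹) = (h * (x * x) * h⁻¹) * (x * x)⁻¹ := by
        have h4 : x⁻¹ * (h * x * h⁻¹) = (h * x * h⁻¹) * x⁻¹ := hXc _ (X.inv_mem hx) _ hc
        calc h * x * h⁻¹ * x⁻¹ * (h * x * h⁻¹ * x⁻¹) = h * x * h⁻¹ * (x⁻¹ * (h * x * h⁻¹)) * x⁻¹ := by group
          _ = h * x * h⁻¹ * ((h * x * h⁻¹) * x⁻¹) * x⁻¹ := by rw [h4]
          _ = _ := by group
      rw [h3, Subgroup.mem_center_iff.1 h2 h, mul_assoc (x * x), mul_inv_cancel, mul_one, mul_inv_cancel]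
  intro x hx
  obtain ⟨n, hn⟩ := hX2 ⟨x, hx⟩
  exact hall n x hx (congrArg Subtype.val hn)

/-- No element of order 7 acts on a nondegenerate symplectic space of order at most 16. -/
theorem no_seven {Y V : Type*} [Group Y] [Group V] [Finite V] {φ : Y →* MulAut V}
    (hφ : Function.Injective φ) (hV2 : ∀ v : V, v * v = 1) (hV : Nat.card V ≤ 16)
    (B : V → Subgroup V) (hBself : ∀ a, a ∈ B a) (hBsymm : ∀ a b, b ∈ B a → a ∈ B b)
    (hBidx : ∀ a, a ≠ 1 → 2 * Nat.card (B a) = Nat.card V)
    (hBφ : ∀ y a b, b ∈ B a → φ y b ∈ B (φ y a)) {P : Subgroup Y} (hP : Nat.card P = 7) : False := by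
  classical
  have h7 : Fact (Nat.Prime 7) := ⟨by norm_num⟩
  have hPp : IsPGroup 7 P := IsPGroup.of_card (n := 1) (by rw [hP, pow_one])
  set F := GH.C2Act.fixed φ P with hF
  have hcomm : ∀ v w : V, v * w = w * v := by
    intro v w
    have h1 := hV2 (v * w)
    have hv : v⁻¹ = v := inv_eq_of_mul_eq_one_left (hV2 v)
    have hw : w⁻¹ = w := inv_eq_of_mul_eq_one_left (hV2 w)
    have h2 : (v * w)⁻¹ = v * w := inv_eq_of_mul_eq_one_left h1
    rw [mul_inv_rev, hv, hw] at h2
    exact h2.symm
  have hFne : F ≠ ⊤ := by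
    intro h
    have hP1 : P = ⊥ := by
      rw [Subgroup.eq_bot_iff_forall]
      intro g hg
      apply hφ
      rw [map_one]
      apply MulEquiv.ext
      intro v
      have : v ∈ F := by rw [h]; exact Subgroup.mem_top v
      exact this g hg
    rw [hP1, Subgroup.card_bot] at hP
    exact absurd hP (by norm_num)
  obtain ⟨n, hn⟩ := GH.C2Act.exists_pow hV2 (⊤ : Subgroup V)
  rw [Subgroup.card_top] at hn
  obtain ⟨m, hm⟩ := GH.C2Act.exists_pow hV2 F
  have hmod := GH.C2Act.card_modEq φ hPp (U := ⊤) (fun _ _ _ _ => Subgroup.mem_top _)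
  rw [top_inf_eq, ← hF, Subgroup.card_top, hn, hm] at hmod
  have hn4 : n ≤ 4 := by
    rw [hn] at hV
    by_contra h
    push Not at h
    have : 2 ^ 5 ≤ 2 ^ n := Nat.pow_le_pow_right (by norm_num) h
    omega
  have hlt : Nat.card F < Nat.card V := by
    rcases lt_or_eq_of_le (Subgroup.card_le_card_group F) with h | h
    · exact h
    · exact absurd ((Subgroup.card_eq_iff_eq_top F).1 h) hFne
  rw [hm, hn] at hlt
  have hmn : m < n := (Nat.pow_lt_pow_iff_right (by norm_num)).1 hlt
  have hcases : (n = 3 ∧ m = 0) ∨ (n = 4 ∧ m = 1) := by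
    unfold Nat.ModEq at hmod
    have hm4 : m ≤ 3 := by omega
    interval_cases n <;> interval_cases m <;> simp_all
  rcases hcases with ⟨rfl, rfl⟩ | ⟨rfl, rfl⟩
  · -- `|V| = 8`
    have hBcard : ∀ a, a ≠ 1 → Nat.card (B a) = 4 := by
      intro a ha
      have := hBidx a ha
      rw [hn] at this
      omega
    obtain ⟨a, ha⟩ : ∃ a : V, a ≠ 1 := by
      by_contra hcon
      push Not at hcon
      have : Subsingleton V := ⟨fun x y => by rw [hcon x, hcon y]⟩
      have := Nat.card_of_subsingleton (1 : V)
      omega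
    obtain ⟨c, hc⟩ : ∃ c, c ∉ B a := by
      by_contra hcon
      push Not at hcon
      have : B a = ⊤ := (Subgroup.eq_top_iff' _).2 hcon
      have h2 := hBcard a ha
      rw [this, Subgroup.card_top] at h2
      omega
    have hc1 : c ≠ 1 := by rintro rfl; exact hc (B a).one_mem
    -- a common element
    obtain ⟨d, hd1, hda, hdc⟩ : ∃ d, d ≠ 1 ∧ d ∈ B a ∧ d ∈ B c := by
      by_contra hcon
      push Not at hcon
      have hdisj : Disjoint (B a) (B c) := by
        rw [Subgroup.disjoint_def]
        intro x hx hx'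
        by_contra hx1
        exact hcon x hx1 hx hx'
      have hle := Subgroup.mul_injective_of_disjoint hdisj
      have h3 := Nat.card_le_card_of_injective _ hle
      rw [Nat.card_prod, hBcard a ha, hBcard c hc1, hn] at h3
      omega
    have hda' : d ≠ a := by
      rintro rfl
      exact hc (hBsymm _ _ hdc)
    have hcd : c ∈ B d := hBsymm _ _ hdc
    have had : a ∈ B d := hBsymm _ _ hda
    have hdd : d ∈ B d := hBself d
    have hBd := hBcard d hd1
    have hsub : (({1, a, d, a * d, c} : Finset V) : Set V) ⊆ (B d : Set V) := by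
      intro x hx
      simp only [Finset.coe_insert, Finset.coe_singleton, Set.mem_insert_iff, Set.mem_singleton_iff] at hx
      rcases hx with rfl | rfl | rfl | rfl | rfl
      · exact (B d).one_mem
      · exact had
      · exact hdd
      · exact (B d).mul_mem had hdd
      · exact hcd
    have h4 := Set.ncard_le_ncard hsub (Set.toFinite _)
    rw [Set.ncard_coe_finset] at h4
    have h5 : (B d : Set V).ncard = 4 := by rw [← hBd]; exact (Nat.card_coe_set_eq _).symm
    have hadinv : a * d ≠ 1 := by
      intro h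
      apply hda'
      have hd' : d⁻¹ = d := inv_eq_of_mul_eq_one_left (hV2 d)
      rw [mul_eq_one_iff_eq_inv, hd'] at h
      exact h.symm
    have hada : a * d ∈ B a := (B a).mul_mem (hBself a) hda
    have h6 : ({1, a, d, a * d, c} : Finset V).card = 5 := by
      rw [Finset.card_eq_of_equiv_fin]
      refine (Finset.equivFinOfCardEq ?_)
      rw [Finset.card_insert_of_notMem, Finset.card_insert_of_notMem, Finset.card_insert_of_notMem,
        Finset.card_insert_of_notMem, Finset.card_singleton]
      · simp only [Finset.mem_singleton]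
        rintro h
        exact hc (h ▸ hada)
      · simp only [Finset.mem_insert, Finset.mem_singleton]
        rintro (h | h)
        · apply ha
          have : a * d = 1 * d := by rw [one_mul]; exact h.symm
          exact mul_right_cancel this
        · exact hc (h ▸ hda)
      · simp only [Finset.mem_insert, Finset.mem_singleton]
        rintro (h | h | h)
        · exact hda' h.symm
        · apply hd1
          have : a * d = a * 1 := by rw [mul_one]; exact h.symm
          exact mul_left_cancel this
        · exact hc (h ▸ hBself a)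
      · simp only [Finset.mem_insert, Finset.mem_singleton]
        rintro (h | h | h | h)
        · exact ha h.symm
        · exact hd1 h.symm
        · exact hadinv h.symm
        · exact hc1 h.symm
    rw [h6, h5] at h4
    omega
  · -- `|V| = 16`, `|F| = 2`
    obtain ⟨g, hg, hg1⟩ : ∃ g ∈ F, g ≠ 1 := by
      by_contra hcon
      push Not at hcon
      have : F = ⊥ := (Subgroup.eq_bot_iff_forall _).2 hcon
      rw [this, Subgroup.card_bot] at hm
      omega
    have hBg : Nat.card (B g) = 8 := by
      have := hBidx g hg1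
      rw [hn] at this
      omega
    have hinv : ∀ y ∈ P, ∀ u ∈ B g, φ y u ∈ B g := by
      intro y hy u hu
      have h1 := hBφ y g u hu
      rwa [hg y hy] at h1
    have h2 := GH.C2Act.card_modEq φ hPp hinv
    rw [← hF, hBg] at h2
    have h3 : Nat.card (B g ⊓ F : Subgroup V) ≤ Nat.card F := Subgroup.card_le_of_le inf_le_right
    have h4 : (B g ⊓ F : Subgroup V) ≠ ⊥ := by
      intro h
      have : g ∈ (B g ⊓ F : Subgroup V) := ⟨hBself g, hg⟩
      rw [h, Subgroup.mem_bot] at this
      exact hg1 this
    have h5 : 1 < Nat.card (B g ⊓ F : Subgroup V) := by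
      rw [Subgroup.one_lt_card_iff_ne_bot]; exact h4
    rw [hm] at h3
    unfold Nat.ModEq at h2
    interval_cases h : Nat.card (B g ⊓ F : Subgroup V)
    omega

end Cfsg.Agent.H323.DivLin
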