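import Cfsg.Agent.H323.DivCen
import Cfsg.Agent.S1000
import Cfsg.Agent.S0254
import Cfsg.Agent.S0253

/-!
# H323.DivCenB: a noncentral kernel

If the kernel of `f : H → S` is not central then `|S|` divides `2880`, so `S` is `A₅` or `A₆`.
-/

set_option autoImplicit false

namespace Cfsg.Agent.H323.DivLin

open Module
open scoped commutatorElement

universe u v w

section symp

variable {H : Type u} [Group H]

/-- The commutation subgroup of `w`. -/
def perp (Z : Subgroup H) [Z.Normal] (hZ : Z ≤ Subgroup.center H) (W : Subgroup (H ⧸ Z)) (w : W) : Subgroup W where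
  carrier := {u | ∀ a b : H, QuotientGroup.mk' Z a = w → QuotientGroup.mk' Z b = u → a * b = b * a}
  one_mem' := by
    intro a b _ hb
    have h1 : b ∈ Z := by
      rw [← QuotientGroup.ker_mk' Z]
      exact hb
    exact Subgroup.mem_center_iff.1 (hZ h1) a
  mul_mem' := by
    intro u v hu hv a b ha hb
    obtain ⟨c, hc⟩ := QuotientGroup.mk'_surjective Z (u : H ⧸ Z)
    have h1 := hu a c ha hc
    have h2 := hv a (c⁻¹ * b) ha (by
      rw [map_mul, map_inv, hc, hb, Subgroup.coe_mul, inv_mul_cancel_left])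
    calc a * b = a * c * (c⁻¹ * b) := by group
      _ = c * (a * (c⁻¹ * b)) := by rw [h1, mul_assoc]
      _ = c * (c⁻¹ * b * a) := by rw [h2]
      _ = b * a := by group
  inv_mem' := by
    intro u hu a b ha hb
    have h1 := hu a b⁻¹ ha (by rw [map_inv, hb, Subgroup.coe_inv, inv_inv])
    calc a * b = b * (b⁻¹ * a) * b := by group
      _ = b * (a * b⁻¹) * b := by rw [h1]
      _ = b * a := by group

variable {Z : Subgroup H} [Z.Normal] {hZ : Z ≤ Subgroup.center H} {W : Subgroup (H ⧸ Z)}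

theorem mem_perp {w u : W} : u ∈ perp Z hZ W w ↔
    ∀ a b : H, QuotientGroup.mk' Z a = w → QuotientGroup.mk' Z b = u → a * b = b * a := Iff.rfl

theorem mem_perp_of {w u : W} {a b : H} (ha : QuotientGroup.mk' Z a = w) (hb : QuotientGroup.mk' Z b = u)
    (hab : a * b = b * a) : u ∈ perp Z hZ W w := by
  rw [mem_perp]
  intro a' b' ha' hb'
  have h1 : a⁻¹ * a' ∈ Z := by
    rw [← QuotientGroup.ker_mk' Z, MonoidHom.mem_ker, map_mul, map_inv, ha, ha', inv_mul_cancel]
  have h2 : b⁻¹ * b' ∈ Z := by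
    rw [← QuotientGroup.ker_mk' Z, MonoidHom.mem_ker, map_mul, map_inv, hb, hb', inv_mul_cancel]
  obtain ⟨z, hz⟩ : ∃ z, z = a⁻¹ * a' := ⟨_, rfl⟩
  obtain ⟨y, hy⟩ : ∃ y, y = b⁻¹ * b' := ⟨_, rfl⟩
  have ea : a' = a * z := by rw [hz]; group
  have eb : b' = b * y := by rw [hy]; group
  rw [← hz] at h1
  rw [← hy] at h2
  have cz : ∀ g, g * z = z * g := fun g => Subgroup.mem_center_iff.1 (hZ h1) g
  have cy : ∀ g, g * y = y * g := fun g => Subgroup.mem_center_iff.1 (hZ h2) g
  rw [ea, eb]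
  calc a * z * (b * y) = a * (z * b) * y := by group
    _ = a * (b * z) * y := by rw [cz b]
    _ = a * b * (z * y) := by group
    _ = b * a * (y * z) := by rw [hab, cy z]
    _ = b * (a * y) * z := by group
    _ = b * (y * a) * z := by rw [cy a]
    _ = b * y * (a * z) := by group

end symp

theorem sq_of_minimal {Q : Type u} [Group Q] [Finite Q] {W : Subgroup Q} (hW : W.Normal)
    (hW2 : IsPGroup 2 W) (hne : W ≠ ⊥)
    (hmin : ∀ X : Subgroup Q, X.Normal → X ≤ W → X = ⊥ ∨ X = W) : ∀ w ∈ W, w * w = 1 := by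
  have h2 : Fact (Nat.Prime 2) := ⟨Nat.prime_two⟩
  -- a subgroup of index two
  obtain ⟨n, hn⟩ := IsPGroup.iff_card.1 hW2
  have hn0 : n ≠ 0 := by
    rintro rfl
    rw [pow_zero] at hn
    exact hne (Subgroup.card_eq_one.1 hn)
  obtain ⟨m, rfl⟩ := Nat.exists_eq_succ_of_ne_zero hn0
  obtain ⟨K, hK⟩ := Sylow.exists_subgroup_card_pow_prime (G := W) 2 (n := m) (by
    rw [hn]; exact pow_dvd_pow 2 (Nat.le_succ m))
  have hKi : K.index = 2 := by
    have h1 := K.card_mul_index
    rw [hK, hn, pow_succ] at h1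
    exact Nat.eq_of_mul_eq_mul_left (by positivity) h1
  set Φ : Subgroup Q := Subgroup.closure {x | ∃ w ∈ W, x = w * w} with hΦ
  have hΦW : Φ ≤ K.map W.subtype := by
    rw [hΦ, Subgroup.closure_le]
    rintro _ ⟨w, hw, rfl⟩
    refine ⟨⟨w, hw⟩ * ⟨w, hw⟩, Subgroup.mul_self_mem_of_index_two hKi _, rfl⟩
  have hKW : K.map W.subtype ≤ W := by
    rintro _ ⟨x, -, rfl⟩
    exact x.2
  have hΦn : Φ.Normal := by
    refine ⟨fun x hx g => ?_⟩
    have hle : Φ ≤ Φ.comap (MulAut.conj g).toMonoidHom := by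
      conv_lhs => rw [hΦ]
      rw [Subgroup.closure_le]
      rintro _ ⟨w, hw, rfl⟩
      apply Subgroup.subset_closure
      exact ⟨g * w * g⁻¹, hW.conj_mem w hw g, by simp [MulAut.conj_apply]⟩
    have := hle hx
    simpa [MulAut.conj_apply] using this
  rcases hmin Φ hΦn (hΦW.trans hKW) with h | h
  · intro w hw
    have h1 : w * w ∈ Φ := Subgroup.subset_closure ⟨w, hw, rfl⟩
    rw [h, Subgroup.mem_bot] at h1
    exact h1
  · exfalso
    have h1 : Nat.card W ≤ Nat.card K := by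
      have h3 := Subgroup.card_le_of_le (h ▸ hΦW)
      rwa [Subgroup.card_map_of_injective W.subtype_injective] at h3
    rw [hn, hK, pow_succ] at h1
    have : 0 < 2 ^ m := by positivity
    omega

namespace Min

variable {S : Type w} [Group S] [IsSimpleGroup S] {H : Type u} [Group H] {f : H →* S}

theorem card_dvd_of_not_central (h : Min S H f) (hna : ∃ a b : S, a * b ≠ b * a)
    (hnc : ¬ f.ker ≤ Subgroup.center H) : Nat.card S ∣ 2880 := by
  classical
  have hfin := h.fin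
  have hperf := h.perfect hna
  have hB := h.linB
  have hk := h.isPGroup_ker hna
  set Z : Subgroup H := f.ker ⊓ Subgroup.center H with hZdef
  have hZc : Z ≤ Subgroup.center H := inf_le_right
  have hZn : Z.Normal := inferInstance
  -- a minimal normal subgroup properly containing `Z`
  have hex : ∃ n, ∃ X : Subgroup H, X.Normal ∧ Z ≤ X ∧ X ≠ Z ∧ X ≤ f.ker ∧ Nat.card X = n :=
    ⟨_, f.ker, inferInstance, inf_le_left, fun h0 => hnc (by rw [h0]; exact hZc), le_rfl, rfl⟩
  obtain ⟨M, hMn, hZM, hMZ, hMk, hMc⟩ := Nat.find_spec hex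
  have hmin : ∀ X : Subgroup H, X.Normal → Z ≤ X → X ≤ M → X = Z ∨ X = M := by
    intro X hX hZX hXM
    by_contra hcon
    push Not at hcon
    have h1 : Nat.card X < Nat.card M := by
      rcases lt_or_eq_of_le (Subgroup.card_le_of_le hXM) with h2 | h2
      · exact h2
      · exact absurd (Subgroup.eq_of_le_of_card_ge hXM h2.ge) hcon.2
    rw [hMc] at h1
    exact Nat.find_min hex h1 ⟨X, hX, hZX, hcon.1, hXM.trans hMk, rfl⟩
  have hM2 : IsPGroup 2 M := fun x => by
    obtain ⟨n, hn⟩ := hk ⟨x, hMk x.2⟩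
    have hn' := congrArg (Subtype.val : f.ker → H) hn
    exact ⟨n, Subtype.ext hn'⟩
  set π := QuotientGroup.mk' Z with hπ
  have hπs : Function.Surjective π := QuotientGroup.mk'_surjective Z
  have hπk : π.ker = Z := QuotientGroup.ker_mk' Z
  set W : Subgroup (H ⧸ Z) := M.map π with hWdef
  have hWn : W.Normal := Subgroup.Normal.map hMn π hπs
  have hlift : ∀ w ∈ W, ∀ a : H, π a = w → a ∈ M := by
    rintro _ ⟨m, hm, rfl⟩ a ha
    have h1 : a * m⁻¹ ∈ Z := by
      rw [← hπk, MonoidHom.mem_ker, map_mul, map_inv, ha, mul_inv_cancel]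
    have h2 := M.mul_mem (hZM h1) hm
    rwa [inv_mul_cancel_right] at h2
  have hW2 : IsPGroup 2 W := hM2.map π
  have hWne : W ≠ ⊥ := by
    intro h0
    apply hMZ
    apply le_antisymm _ hZM
    rw [hWdef, Subgroup.map_eq_bot_iff, hπk] at h0
    exact h0
  have hWmin : ∀ X : Subgroup (H ⧸ Z), X.Normal → X ≤ W → X = ⊥ ∨ X = W := by
    intro X hX hXW
    have h1 : (X.comap π).Normal := inferInstance
    have h2 : Z ≤ X.comap π := by
      intro z hz
      have hz1 : π z = 1 := by rw [← MonoidHom.mem_ker, hπk]; exact hz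
      change π z ∈ X
      rw [hz1]
      exact X.one_mem
    have h3 : X.comap π ≤ M := fun a ha => hlift _ (hXW ha) a rfl
    have hmc : (X.comap π).map π = X := Subgroup.map_comap_eq_self_of_surjective hπs X
    rcases hmin _ h1 h2 h3 with h4 | h4
    · left
      rw [← hmc, h4, Subgroup.map_eq_bot_iff, hπk]
    · right
      rw [← hmc, h4]
  have hsq := sq_of_minimal hWn hW2 hWne hWmin
  have hcommW : ∀ v ∈ W, ∀ w ∈ W, v * w = w * v := by
    intro v hv w hw
    have h1 := hsq _ (W.mul_mem hv hw)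
    have hvi : v⁻¹ = v := inv_eq_of_mul_eq_one_left (hsq v hv)
    have hwi : w⁻¹ = w := inv_eq_of_mul_eq_one_left (hsq w hw)
    have h2 : (v * w)⁻¹ = v * w := inv_eq_of_mul_eq_one_left h1
    rw [mul_inv_rev, hvi, hwi] at h2
    exact h2.symm
  have hsqM : ∀ m ∈ M, m * m ∈ Z := by
    intro m hm
    rw [← hπk, MonoidHom.mem_ker, map_mul]
    exact hsq _ ⟨m, hm, rfl⟩
  have hcomZ : ∀ a ∈ M, ∀ b ∈ M, ⁅a, b⁆ ∈ Z := by
    intro a ha b hb
    rw [← hπk, MonoidHom.mem_ker, map_commutatorElement, commutatorElement_eq_one_iff_mul_comm]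
    exact hcommW _ ⟨a, ha, rfl⟩ _ ⟨b, hb, rfl⟩
  have hcom2 : ∀ a ∈ M, ∀ b ∈ M, ⁅a, b⁆ * ⁅a, b⁆ = 1 := by
    intro a ha b hb
    have h1 := Subgroup.mem_center_iff.1 (hZc (hcomZ a ha b hb)) a
    have h2 := Subgroup.mem_center_iff.1 (hZc (hsqM a ha)) b
    have h3 : ⁅a * a, b⁆ = 1 := by
      rw [commutatorElement_eq_one_iff_mul_comm]; exact h2.symm
    have h4 : ⁅a * a, b⁆ = a * ⁅a, b⁆ * a⁻¹ * ⁅a, b⁆ := by
      simp only [commutatorElement_def]; group
    rw [h4, h1, mul_assoc ⁅a, b⁆ a, mul_inv_cancel, mul_one] at h3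
    exact h3
  -- an element of `M` centralizing `M` is in `Z`
  have hcen : ∀ a ∈ M, (∀ b ∈ M, a * b = b * a) → a ∈ Z := by
    intro a ha hab
    let X : Subgroup H := M ⊓ Subgroup.centralizer (M : Set H)
    have hXn : X.Normal := by
      have : (Subgroup.centralizer (M : Set H)).Normal := inferInstance
      infer_instance
    have hX2 : IsPGroup 2 X := hM2.to_le inf_le_left
    have h1 := abelian_le_center hB hperf X hXn (fun a ha b hb =>
      Subgroup.mem_centralizer_iff.1 hb.2 a ha.1) hX2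
    exact ⟨hMk ha, h1 ⟨ha, Subgroup.mem_centralizer_iff.2 fun b hb => (hab b hb).symm⟩⟩
  -- the dichotomy for commutators
  have hcc : ∀ a ∈ M, ∀ b ∈ M, ∀ c ∈ M, ⁅a, b⁆ ≠ 1 → ⁅a, c⁆ ≠ 1 → a * (b * c) = b * c * a := by
    intro a ha b hb c hc h1 h2
    have h3 : ⁅a, b⁆ = ⁅a, c⁆ := hB.zinv _ (hZc (hcomZ a ha b hb)) _ (hZc (hcomZ a ha c hc))
      (hcom2 a ha b hb) (hcom2 a ha c hc) h1 h2
    rw [← commutatorElement_eq_one_iff_mul_comm]
    have h4 : ⁅a, b * c⁆ = ⁅a, b⁆ * (b * ⁅a, c⁆ * b⁻¹) := by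
      simp only [commutatorElement_def]; group
    rw [h4, Subgroup.mem_center_iff.1 (hZc (hcomZ a ha c hc)) b, mul_assoc _ b, mul_inv_cancel,
      mul_one, ← h3]
    exact hcom2 a ha b hb
  -- the symplectic form
  let B : W → Subgroup W := perp Z hZc W
  have hBself : ∀ a, a ∈ B a := by
    intro w
    obtain ⟨a, ha⟩ := hπs (w : H ⧸ Z)
    exact mem_perp_of ha ha rfl
  have hBsymm : ∀ a b, b ∈ B a → a ∈ B b := fun a b hab c d hc hd => (hab d c hd hc).symm
  have hW1 : ∀ w : W, w * w = 1 := fun w => Subtype.ext (hsq w w.2)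
  have hBidx : ∀ a, a ≠ 1 → 2 * Nat.card (B a) = Nat.card W := by
    intro w hw
    obtain ⟨a, ha⟩ := hπs (w : H ⧸ Z)
    have haM : a ∈ M := hlift _ w.2 a ha
    have haZ : a ∉ Z := by
      intro haZ
      apply hw
      apply Subtype.ext
      rw [← ha, OneMemClass.coe_one, ← MonoidHom.mem_ker, hπk]
      exact haZ
    obtain ⟨c, hcM, hac⟩ : ∃ c ∈ M, a * c ≠ c * a := by
      by_contra hcon
      push Not at hcon
      exact haZ (hcen a haM hcon)
    have hidx : (B w).index = 2 := by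
      rw [Subgroup.index_eq_two_iff]
      refine ⟨⟨π c, c, hcM, rfl⟩, ?_⟩
      intro b
      obtain ⟨d, hd⟩ := hπs (b : H ⧸ Z)
      have hdM : d ∈ M := hlift _ b.2 d hd
      have hcB : (⟨π c, c, hcM, rfl⟩ : W) ∉ B w := fun hcB => hac (hcB a c ha rfl)
      by_cases hbB : b ∈ B w
      · right
        refine ⟨hbB, fun hbc => hcB ?_⟩
        have := (B w).mul_mem ((B w).inv_mem hbB) hbc
        rwa [inv_mul_cancel_left] at this
      · left
        refine ⟨?_, hbB⟩
        refine mem_perp_of (a := a) (b := d * c) ha (by rw [map_mul, hd]; rfl) ?_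
        apply hcc a haM d hdM c hcM
        · intro h1
          rw [commutatorElement_eq_one_iff_mul_comm] at h1
          exact hbB (mem_perp_of ha hd h1)
        · intro h1
          rw [commutatorElement_eq_one_iff_mul_comm] at h1
          exact hac h1
    rw [← (B w).card_mul_index, hidx, mul_comm]
  -- the action
  let φ : H →* MulAut W := (MulAut.conjNormal (H := W)).comp π
  have hφv : ∀ (g : H) (w : W), ((φ g w : W) : H ⧸ Z) = π g * w * (π g)⁻¹ := fun g w => rfl
  have hkerφ : φ.ker ≤ f.ker := by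
    rcases h.normal_cases φ.ker inferInstance with h1 | h1
    · exact h1
    · exfalso
      apply hMZ
      apply le_antisymm _ hZM
      intro m hm
      refine ⟨hMk hm, central_of_comm hperf fun g => ?_⟩
      have h2 : φ g = 1 := (MonoidHom.mem_ker).1 (h1 ▸ Subgroup.mem_top g)
      have h3 := hφv g ⟨π m, m, hm, rfl⟩
      rw [h2, MulAut.one_apply] at h3
      change π m = π g * π m * (π g)⁻¹ at h3
      apply hZc
      rw [← hπk, MonoidHom.mem_ker, map_mul, map_mul, map_mul, map_inv, map_inv, ← h3, mul_inv_cancel]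
  have hSdvd : Nat.card S ∣ Nat.card φ.range := by
    have h1 : Nat.card φ.range = φ.ker.index := (Subgroup.index_ker φ).symm
    have h2 : Nat.card S = f.ker.index := by
      rw [Subgroup.index_ker, MonoidHom.range_eq_top.2 h.surj, Subgroup.card_top]
    rw [h1, h2]
    exact Subgroup.index_dvd_of_le hkerφ
  have hW16 : Nat.card W ≤ 16 := by
    have h1 := GH.Rank.of_surjective (sectional_H hB.toLinA) π hπs
    have h2 := h1 W ⊥
    have e : (W ⧸ (⊥ : Subgroup W)) ≃* W := QuotientGroup.quotientBot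
    have h3 := h2 ⊤ ⟨⟨fun a b => by
      apply Subtype.ext
      apply e.injective
      rw [Subgroup.coe_mul, Subgroup.coe_mul, map_mul, map_mul]
      exact Subtype.ext (hcommW _ (e a).2 _ (e b).2)⟩⟩ (fun a _ => by
      apply e.injective
      rw [map_pow, map_one, pow_two]
      exact hW1 _)
    rw [Subgroup.card_top, Nat.card_congr e.toEquiv] at h3
    exact h3
  have h20160 : Nat.card φ.range ∣ 20160 :=
    GH.C2Act.card_dvd (φ := φ.range.subtype) φ.range.subtype_injective hW1 hW16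
  have h7 : ¬ 7 ∣ Nat.card φ.range := by
    intro hd
    have : Fact (Nat.Prime 7) := ⟨by norm_num⟩
    obtain ⟨P, hP⟩ := Sylow.exists_subgroup_card_pow_prime (G := φ.range) 7 (n := 1) (by simpa using hd)
    rw [pow_one] at hP
    refine no_seven (φ := φ.range.subtype) φ.range.subtype_injective hW1 hW16 B hBself hBsymm hBidx ?_ hP
    rintro ⟨_, g, rfl⟩ a b hab
    rw [show ((φ.range.subtype ⟨φ g, ⟨g, rfl⟩⟩ : MulAut W)) = φ g from rfl]
    intro c d hc hd
    rw [hφv] at hc hd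
    have hc' : π c = π g * a * (π g)⁻¹ := hc
    have hd' : π d = π g * b * (π g)⁻¹ := hd
    have h1 := hab (g⁻¹ * c * g) (g⁻¹ * d * g) (by
      change π (g⁻¹ * c * g) = (a : H ⧸ Z)
      rw [map_mul, map_mul, map_inv, hc']
      group) (by
      change π (g⁻¹ * d * g) = (b : H ⧸ Z)
      rw [map_mul, map_mul, map_inv, hd']
      group)
    have h2 : g * (g⁻¹ * c * g * (g⁻¹ * d * g)) * g⁻¹ = g * (g⁻¹ * d * g * (g⁻¹ * c * g)) * g⁻¹ := by rw [h1]
    have e1 : g * (g⁻¹ * c * g * (g⁻¹ * d * g)) * g⁻¹ = c * d := by group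
    have e2 : g * (g⁻¹ * d * g * (g⁻¹ * c * g)) * g⁻¹ = d * c := by group
    rwa [e1, e2] at h2
  have h2880 : Nat.card φ.range ∣ 2880 := by
    have hc : Nat.Coprime (Nat.card φ.range) 7 :=
      ((Nat.Prime.coprime_iff_not_dvd (by norm_num : Nat.Prime 7)).mpr h7).symm
    have h1 : Nat.card φ.range ∣ 7 * 2880 := by simpa using h20160
    exact hc.dvd_of_dvd_mul_left h1
  exact hSdvd.trans h2880

end Min

/-- A nonabelian simple group whose order divides `2880` is `PSL₂(5)` or `PSL₂(9)`. -/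
theorem psl_of_card_dvd {S : Type w} [Group S] [Finite S] [IsSimpleGroup S] (hna : ¬ IsMulCommutative S)
    (hd : Nat.card S ∣ 2880) : ∃ (F : Type) (_ : Field F) (_ : Fintype F),
      (Fintype.card F = 5 ∨ Fintype.card F = 9) ∧
        Nonempty (S ≃* Matrix.ProjectiveSpecialLinearGroup (Fin 2) F) := by
  have hS1 : Nat.card S ≠ 1 := by
    intro h1
    have := (Nat.card_eq_one_iff_unique.1 h1).1
    exact hna ⟨⟨fun a b => Subsingleton.elim _ _⟩⟩
  have hform : ∃ p a b : ℕ, p.Prime ∧ Nat.card S = p * 3 ^ a * 2 ^ b := by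
    rw [show 2880 = 5 * (3 ^ 2 * 2 ^ 6) by norm_num] at hd
    obtain ⟨k₁, k₂, h1, h2, h3⟩ := Nat.dvd_mul.1 hd
    obtain ⟨k₃, k₄, h4, h5, h6⟩ := Nat.dvd_mul.1 h2
    obtain ⟨a, -, rfl⟩ := (Nat.dvd_prime_pow Nat.prime_three).1 h4
    obtain ⟨b, -, rfl⟩ := (Nat.dvd_prime_pow Nat.prime_two).1 h5
    rcases (Nat.dvd_prime Nat.prime_five).1 h1 with rfl | rfl
    · rw [one_mul] at h3
      rw [← h3, ← h6]
      rcases a with _ | a
      · rcases b with _ | b
        · exfalso
          apply hS1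
          rw [← h3, ← h6]; norm_num
        · exact ⟨2, 0, b, Nat.prime_two, by rw [pow_zero, pow_succ]; ring⟩
      · exact ⟨3, a, b, Nat.prime_three, by rw [pow_succ]; ring⟩
    · exact ⟨5, a, b, Nat.prime_five, by rw [← h3, ← h6]; ring⟩
  obtain ⟨p, a, b, hp, hc⟩ := hform
  rcases SmallSimple.S1000.Consequences.known_cases (S1000.result hna p a b hp hc) with
    ⟨-, ⟨e⟩⟩ | ⟨-, ⟨e⟩⟩ | ⟨h, -⟩ | ⟨h, -⟩ | ⟨h, -⟩ | ⟨h, -⟩ | ⟨h, -⟩ | ⟨h, -⟩
  · obtain ⟨e'⟩ := S0253.psl_zmod5
    exact ⟨ZMod 5, inferInstance, inferInstance, Or.inl (ZMod.card 5), ⟨e.trans e'.symm⟩⟩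
  · obtain ⟨e'⟩ := S0254.psl_k9
    exact ⟨S0254.K9, inferInstance, S0254.k9Fintype, Or.inr S0254.card_k9, ⟨e.trans e'.symm⟩⟩
  all_goals
    rw [h] at hd
    exact absurd hd (by norm_num)

end Cfsg.Agent.H323.DivLin
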