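import Cfsg.Agent.H323.DivLin

/-!
# H323.DivDim: dimension at most 2

Elementary abelian subgroups of groups acting faithfully on a space of dimension at most 2.
-/

set_option autoImplicit false

namespace Cfsg.Agent.H323.DivLin

open Module

variable {D : Type*} [DivisionRing D] {V : Type*} [AddCommGroup V] [Module D V]
variable {H : Type*} [Group H] (ρ : H →* Module.End D V)

/-- On a line a fixed nonzero vector forces a trivial action. -/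
theorem fix_line {W : Submodule D V} (hW : finrank D W = 1) {c : H} {v : V} (hv : v ∈ W) (hv0 : v ≠ 0)
    (hc : ρ c v = v) : ∀ u ∈ W, ρ c u = u := by
  intro u hu
  have h := (finrank_eq_one_iff_of_nonzero' (⟨v, hv⟩ : W) (by
    intro h0; exact hv0 (congrArg Subtype.val h0))).1 hW ⟨u, hu⟩
  obtain ⟨d, hd⟩ := h
  have hd' : d • v = u := congrArg Subtype.val hd
  rw [← hd', map_smul, hc]

theorem map_line {W W' : Submodule D V} (hW : finrank D W = 1) {c : H} {v : V} (hv : v ∈ W)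
    (hv0 : v ≠ 0) (hc : ρ c v ∈ W') : ∀ u ∈ W, ρ c u ∈ W' := by
  intro u hu
  obtain ⟨d, hd⟩ := (finrank_eq_one_iff_of_nonzero' (⟨v, hv⟩ : W) (by
    intro h0; exact hv0 (congrArg Subtype.val h0))).1 hW ⟨u, hu⟩
  have hd' : d • v = u := congrArg Subtype.val hd
  rw [← hd', map_smul]
  exact W'.smul_mem d hc

theorem eq_one_of_forall (hρ : Function.Injective ρ) {g : H} (h : ∀ v, ρ g v = v) : g = 1 :=
  hρ (by
    rw [map_one]
    exact LinearMap.ext h)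

theorem line_exists_ne {W : Submodule D V} (hW : finrank D W = 1) : ∃ v ∈ W, v ≠ 0 := by
  have : Nontrivial W := Module.nontrivial_of_finrank_pos (R := D) (by rw [hW]; exact one_pos)
  obtain ⟨v, hv⟩ := _root_.exists_ne (0 : W)
  exact ⟨v, v.2, fun h => hv (Subtype.ext h)⟩

section

variable {p : ℕ} [hp : Fact p.Prime]

theorem zpowers_eq_of_mem {a b : H} (ha : a ^ p = 1) (hb1 : b ≠ 1) (hb : b ∈ Subgroup.zpowers a) :
    Subgroup.zpowers b = Subgroup.zpowers a := by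
  have ha1 : a ≠ 1 := by
    rintro rfl
    rw [Subgroup.zpowers_one_eq_bot, Subgroup.mem_bot] at hb
    exact hb1 hb
  have hoa : orderOf a = p := orderOf_eq_prime ha ha1
  have hbp : b ^ p = 1 := by
    obtain ⟨k, rfl⟩ := Subgroup.mem_zpowers_iff.1 hb
    rw [← zpow_natCast, ← zpow_mul, mul_comm, zpow_mul, zpow_natCast, ha, one_zpow]
  have hob : orderOf b = p := orderOf_eq_prime hbp hb1
  have hle : Subgroup.zpowers b ≤ Subgroup.zpowers a := by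
    rw [Subgroup.zpowers_le]; exact hb
  have hfin : Finite (Subgroup.zpowers a) := by
    apply Nat.finite_of_card_ne_zero
    rw [Nat.card_zpowers, hoa]
    exact hp.out.ne_zero
  exact Subgroup.eq_of_le_of_card_ge hle (by rw [Nat.card_zpowers, Nat.card_zpowers, hoa, hob])

variable [CharZero D] [Module.Finite D V]

theorem finrank_pos_of_ne_bot {W : Submodule D V} (h : W ≠ ⊥) : 0 < finrank D W := by
  rw [Module.finrank_pos_iff]
  exact (Submodule.nontrivial_iff_ne_bot).2 h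

/-- For `c` of order `p` with `0 ≠ Fix(c) ≠ V`: `Fix(c)` and `ker N_c` are lines. -/
theorem lines_of (h2 : finrank D V ≤ 2) (hρ : Function.Injective ρ) {c : H} (hc : c ^ p = 1)
    (hc1 : c ≠ 1) {v : V} (hv : v ≠ 0) (hcv : ρ c v = v) :
    finrank D (Fx ρ c) = 1 ∧ finrank D (LinearMap.ker (Nm ρ p c)) = 1 ∧
      IsCompl (Fx ρ c) (LinearMap.ker (Nm ρ p c)) := by
  have hcompl := isCompl_Fx_ker ρ hc
  have h1 : Fx ρ c ≠ ⊥ := by
    intro h0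
    have : v ∈ Fx ρ c := (mem_Fx ρ).2 hcv
    rw [h0, Submodule.mem_bot] at this
    exact hv this
  have h3 : LinearMap.ker (Nm ρ p c) ≠ ⊥ := by
    intro h0
    have h4 : Fx ρ c = ⊤ := by
      have := hcompl.sup_eq_top
      rwa [h0, sup_bot_eq] at this
    exact hc1 (eq_one_of_forall ρ hρ fun u => (mem_Fx ρ).1 (h4 ▸ Submodule.mem_top))
  have h5 := Submodule.finrank_add_eq_of_isCompl hcompl
  have h6 := finrank_pos_of_ne_bot h1
  have h7 := finrank_pos_of_ne_bot h3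
  refine ⟨by omega, by omega, hcompl⟩

/-- The two lines of a noncyclic elementary abelian group. -/
structure TwoLines (p : ℕ) (E : Subgroup H) (c₁ c₂ : H) (V₁ V₂ : Submodule D V) : Prop where
  mem₁ : c₁ ∈ E
  mem₂ : c₂ ∈ E
  ne₁ : c₁ ≠ 1
  ne₂ : c₂ ≠ 1
  fx₁ : V₁ = Fx ρ c₁
  fx₂ : V₂ = Fx ρ c₂
  rank₁ : finrank D V₁ = 1
  rank₂ : finrank D V₂ = 1
  compl : IsCompl V₁ V₂
  cases : ∀ g ∈ E, g ≠ 1 → ∀ v : V, v ≠ 0 → ρ g v = v → v ∈ V₁ ∨ v ∈ V₂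
  ker₁ : ∀ g ∈ E, (∀ v ∈ V₁, ρ g v = v) → g ∈ Subgroup.zpowers c₁
  ker₂ : ∀ g ∈ E, (∀ v ∈ V₂, ρ g v = v) → g ∈ Subgroup.zpowers c₂

omit [CharZero D] [Module.Finite D V] in
theorem Fx_invariant {g c : H} (hgc : g * c = c * g) : ∀ v ∈ Fx ρ c, ρ g v ∈ Fx ρ c := by
  intro v hv
  rw [mem_Fx] at hv ⊢
  rw [← rho_mul, ← hgc, rho_mul, hv]

omit [CharZero D] [Module.Finite D V] in
theorem fix_all_of_compl (hρ : Function.Injective ρ) {V₁ V₂ : Submodule D V} (h : IsCompl V₁ V₂)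
    {g : H} (h1 : ∀ v ∈ V₁, ρ g v = v) (h2 : ∀ v ∈ V₂, ρ g v = v) : g = 1 := by
  apply eq_one_of_forall ρ hρ
  intro v
  have : v ∈ V₁ ⊔ V₂ := by rw [h.sup_eq_top]; exact Submodule.mem_top
  obtain ⟨a, ha, b, hb, rfl⟩ := Submodule.mem_sup.1 this
  rw [map_add, h1 a ha, h2 b hb]

theorem exists_twoLines (h2 : finrank D V ≤ 2) (hρ : Function.Injective ρ) {E : Subgroup H}
    (hEc : ∀ a ∈ E, ∀ b ∈ E, a * b = b * a) (hEp : ∀ a ∈ E, a ^ p = 1) {a b : H} (ha : a ∈ E)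
    (hb : b ∈ E) (hb1 : b ≠ 1) (hab : a ∉ Subgroup.zpowers b) :
    ∃ (c₁ c₂ : H) (V₁ V₂ : Submodule D V), TwoLines ρ p E c₁ c₂ V₁ V₂ := by
  -- a nonzero vector
  obtain ⟨w, hw⟩ : ∃ w : V, ρ b w ≠ w := by
    by_contra hcon
    push Not at hcon
    exact hb1 (eq_one_of_forall ρ hρ hcon)
  have hw0 : w ≠ 0 := by
    rintro rfl
    exact hw (map_zero _)
  obtain ⟨c₁, hc₁, v₁, -, hv₁, hcv₁⟩ := exists_fixed ρ (p := p) (hEc a ha b hb) (hEp a ha) (hEp b hb) ⊤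
    (fun _ _ => Submodule.mem_top) (fun _ _ => Submodule.mem_top) (w := w) Submodule.mem_top hw0
  have hc₁E : c₁ ∈ E := by
    rcases hc₁ with rfl | ⟨i, rfl⟩
    · exact hb
    · exact E.mul_mem ha (E.pow_mem hb i)
  have hc₁1 : c₁ ≠ 1 := by
    rcases hc₁ with rfl | ⟨i, rfl⟩
    · exact hb1
    · intro h
      apply hab
      rw [mul_eq_one_iff_eq_inv] at h
      rw [h]
      exact Subgroup.inv_mem _ (Subgroup.npow_mem_zpowers b i)
  obtain ⟨hr₁, hrK, hcK⟩ := lines_of ρ h2 hρ (hEp c₁ hc₁E) hc₁1 hv₁ hcv₁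
  -- an element outside `⟨c₁⟩`
  obtain ⟨a', ha', ha'c⟩ : ∃ a' ∈ E, a' ∉ Subgroup.zpowers c₁ := by
    by_contra hcon
    push Not at hcon
    have h3 := zpowers_eq_of_mem (p := p) (hEp c₁ hc₁E) hb1 (hcon b hb)
    exact hab (h3 ▸ hcon a ha)
  have hKinv : ∀ g ∈ E, ∀ v ∈ LinearMap.ker (Nm ρ p c₁), ρ g v ∈ LinearMap.ker (Nm ρ p c₁) := by
    intro g hg v hv
    have h4 := ker_inv ρ (p := p) (c := c₁) (x := g⁻¹) ⟨1, by
      rw [pow_one, inv_inv, mul_assoc, hEc c₁ hc₁E g hg, inv_mul_cancel_left]⟩ (hEp c₁ hc₁E) v hv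
    rwa [inv_inv] at h4
  obtain ⟨u, huK, hu0⟩ := line_exists_ne hrK
  obtain ⟨c₂, hc₂, v₂, hv₂K, hv₂, hcv₂⟩ := exists_fixed ρ (p := p) (hEc c₁ hc₁E a' ha')
    (hEp c₁ hc₁E) (hEp a' ha') (LinearMap.ker (Nm ρ p c₁)) (hKinv c₁ hc₁E) (hKinv a' ha') huK hu0
  have hc₂E : c₂ ∈ E := by
    rcases hc₂ with rfl | ⟨i, rfl⟩
    · exact ha'
    · exact E.mul_mem hc₁E (E.pow_mem ha' i)
  have hnofix : ∀ v ∈ LinearMap.ker (Nm ρ p c₁), ρ c₁ v = v → v = 0 := by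
    intro v hv hv'
    by_contra hne
    exact Nm_ne_zero_of_fixed ρ (p := p) hv' hne hv
  have hc₂1 : c₂ ≠ 1 := by
    rcases hc₂ with rfl | ⟨i, hi⟩
    · intro h
      exact ha'c (h ▸ Subgroup.one_mem _)
    · intro h
      rw [h] at hi
      by_cases hai : a' ^ i = 1
      · rw [hai, mul_one] at hi
        exact hc₁1 hi.symm
      · have h5 := zpowers_eq_of_mem (p := p) (hEp a' ha') hai (Subgroup.npow_mem_zpowers a' i)
        apply ha'c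
        have h6 : a' ^ i ∈ Subgroup.zpowers c₁ := by
          have : a' ^ i = c₁⁻¹ := (eq_inv_of_mul_eq_one_right hi.symm)
          rw [this]
          exact Subgroup.inv_mem _ (Subgroup.mem_zpowers c₁)
        have h7 := zpowers_eq_of_mem (p := p) (hEp c₁ hc₁E) hai h6
        rw [← h7, h5]
        exact Subgroup.mem_zpowers a'
  have hfixK := fix_line ρ hrK hv₂K hv₂ hcv₂
  obtain ⟨hr₂, hrK₂, hcK₂⟩ := lines_of ρ h2 hρ (hEp c₂ hc₂E) hc₂1 hv₂ hcv₂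
  have hKle : LinearMap.ker (Nm ρ p c₁) ≤ Fx ρ c₂ := fun v hv => (mem_Fx ρ).2 (hfixK v hv)
  have hKeq : LinearMap.ker (Nm ρ p c₁) = Fx ρ c₂ :=
    Submodule.eq_of_le_of_finrank_eq hKle (by rw [hrK, hr₂])
  have hcompl : IsCompl (Fx ρ c₁) (Fx ρ c₂) := hKeq ▸ hcK
  have inv₁ : ∀ g ∈ E, ∀ v ∈ Fx ρ c₁, ρ g v ∈ Fx ρ c₁ := fun g hg => Fx_invariant ρ (hEc g hg c₁ hc₁E)
  have inv₂ : ∀ g ∈ E, ∀ v ∈ Fx ρ c₂, ρ g v ∈ Fx ρ c₂ := fun g hg => Fx_invariant ρ (hEc g hg c₂ hc₂E)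
  have key : ∀ (c c' : H), c ∈ E → c ≠ 1 → c' ∈ E → IsCompl (Fx ρ c) (Fx ρ c') →
      finrank D (Fx ρ c') = 1 → ∀ g ∈ E, (∀ v ∈ Fx ρ c, ρ g v = v) → g ∈ Subgroup.zpowers c := by
    intro c c' hcE hc1 hc'E hcc hrc' g hg hgv
    by_contra hgc
    obtain ⟨u', hu', hu'0⟩ := line_exists_ne hrc'
    obtain ⟨e, he, z, hz, hz0, hez⟩ := exists_fixed ρ (p := p) (hEc g hg c hcE) (hEp g hg) (hEp c hcE)
      (Fx ρ c') (Fx_invariant ρ (hEc g hg c' hc'E)) (Fx_invariant ρ (hEc c hcE c' hc'E)) hu' hu'0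
    have he1 : e = 1 := by
      refine fix_all_of_compl ρ hρ hcc (fun v hv => ?_) (fix_line ρ hrc' hz hz0 hez)
      rcases he with rfl | ⟨i, rfl⟩
      · exact (mem_Fx ρ).1 hv
      · exact fixed_mul ρ (hgv v hv) (fixed_pow ρ ((mem_Fx ρ).1 hv) i)
    rcases he with rfl | ⟨i, rfl⟩
    · exact hc1 he1
    · apply hgc
      rw [mul_eq_one_iff_eq_inv] at he1
      rw [he1]
      exact Subgroup.inv_mem _ (Subgroup.npow_mem_zpowers c i)
  refine ⟨c₁, c₂, Fx ρ c₁, Fx ρ c₂, hc₁E, hc₂E, hc₁1, hc₂1, rfl, rfl, hr₁, hr₂, hcompl, ?_,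
    key c₁ c₂ hc₁E hc₁1 hc₂E hcompl hr₂, key c₂ c₁ hc₂E hc₂1 hc₁E hcompl.symm hr₁⟩
  intro g hg hg1 v hv hgv
  have hv' : v ∈ Fx ρ c₁ ⊔ Fx ρ c₂ := by rw [hcompl.sup_eq_top]; exact Submodule.mem_top
  obtain ⟨x, hx, y, hy, rfl⟩ := Submodule.mem_sup.1 hv'
  rw [map_add] at hgv
  have h8 : ρ g x - x = y - ρ g y := by
    rw [sub_eq_sub_iff_add_eq_add, hgv, add_comm]
  have h9 : ρ g x - x ∈ Fx ρ c₁ := Submodule.sub_mem _ (inv₁ g hg x hx) hx
  have h10 : ρ g x - x ∈ Fx ρ c₂ := h8 ▸ Submodule.sub_mem _ hy (inv₂ g hg y hy)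
  have h11 : ρ g x - x = 0 := Submodule.disjoint_def.1 hcompl.disjoint _ h9 h10
  have h12 : ρ g x = x := sub_eq_zero.1 h11
  have h13 : ρ g y = y := (sub_eq_zero.1 (h8 ▸ h11)).symm
  by_cases hx0 : x = 0
  · right; rw [hx0, zero_add]; exact hy
  · by_cases hy0 : y = 0
    · left; rw [hy0, add_zero]; exact hx
    · exact (hg1 (fix_all_of_compl ρ hρ hcompl (fix_line ρ hr₁ hx hx0 h12)
        (fix_line ρ hr₂ hy hy0 h13))).elim

end

end Cfsg.Agent.H323.DivLin
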