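import Mathlib

/-!
# H323.DivLin: finite groups acting linearly on vector spaces over division rings of characteristic 0

Elementary facts: fixed vectors of elements of prime order, elementary abelian groups (for S3259).
-/

set_option autoImplicit false

namespace Cfsg.Agent.H323.DivLin

open Finset

section powers

variable {H : Type*} [Group H] {p : ℕ} [hp : Fact p.Prime]

/-- powers with exponents in `ZMod p` -/
theorem pow_val_mul {c : H} (hc : c ^ p = 1) (i j : ZMod p) : c ^ (i * j).val = (c ^ i.val) ^ j.val := by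
  rw [ZMod.val_mul, ← pow_mul]
  exact (pow_mod_orderOf_aux hc _)
where
  pow_mod_orderOf_aux {c : H} (hc : c ^ p = 1) (n : ℕ) : c ^ (n % p) = c ^ n := by
    conv_rhs => rw [← Nat.mod_add_div n p, pow_add, pow_mul, hc, one_pow, mul_one]

omit hp in
theorem pow_mod_eq {c : H} (hc : c ^ p = 1) (n : ℕ) : c ^ (n % p) = c ^ n := by
  conv_rhs => rw [← Nat.mod_add_div n p, pow_add, pow_mul, hc, one_pow, mul_one]

theorem pow_val_add {c : H} (hc : c ^ p = 1) (i j : ZMod p) :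
    c ^ (i + j).val = c ^ i.val * c ^ j.val := by
  rw [ZMod.val_add, pow_mod_eq hc, pow_add]

end powers

variable {D : Type*} [DivisionRing D] {V : Type*} [AddCommGroup V] [Module D V]
variable {H : Type*} [Group H] (ρ : H →* Module.End D V)

/-- The fixed vectors of `g`. -/
def Fx (g : H) : Submodule D V := LinearMap.eqLocus (ρ g) LinearMap.id

@[simp] theorem mem_Fx {g : H} {v : V} : v ∈ Fx ρ g ↔ ρ g v = v := by
  unfold Fx
  rw [LinearMap.mem_eqLocus]
  rfl

theorem rho_mul (g h : H) (v : V) : ρ (g * h) v = ρ g (ρ h v) := by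
  rw [map_mul]; rfl

theorem rho_one (v : V) : ρ 1 v = v := by
  rw [map_one]; rfl

theorem rho_inv_apply (g : H) (v : V) : ρ g⁻¹ (ρ g v) = v := by
  rw [← rho_mul, inv_mul_cancel, rho_one]

theorem rho_apply_inv (g : H) (v : V) : ρ g (ρ g⁻¹ v) = v := by
  rw [← rho_mul, mul_inv_cancel, rho_one]

theorem rho_injective (g : H) : Function.Injective (ρ g) := fun v w h => by
  rw [← rho_inv_apply ρ g v, h, rho_inv_apply]

theorem rho_ne_zero {g : H} {v : V} (h : v ≠ 0) : ρ g v ≠ 0 := fun h0 =>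
  h (rho_injective ρ g (by rw [h0, map_zero]))

theorem fixed_inv {g : H} {v : V} (h : ρ g v = v) : ρ g⁻¹ v = v := by
  conv_lhs => rw [← h]
  exact rho_inv_apply ρ g v

theorem fixed_mul {g h : H} {v : V} (hg : ρ g v = v) (hh : ρ h v = v) : ρ (g * h) v = v := by
  rw [rho_mul, hh, hg]

theorem fixed_pow {g : H} {v : V} (h : ρ g v = v) (n : ℕ) : ρ (g ^ n) v = v := by
  induction n with
  | zero => rw [pow_zero, rho_one]
  | succ n ih => rw [pow_succ, rho_mul, h, ih]

theorem fixed_zpow {g : H} {v : V} (h : ρ g v = v) (n : ℤ) : ρ (g ^ n) v = v := by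
  cases n with
  | ofNat n => rw [Int.ofNat_eq_natCast, zpow_natCast]; exact fixed_pow ρ h n
  | negSucc n => rw [zpow_negSucc]; exact fixed_inv ρ (fixed_pow ρ h _)

theorem fixed_conj {g x : H} {v : V} (h : ρ g v = v) : ρ (x * g * x⁻¹) (ρ x v) = ρ x v := by
  rw [rho_mul, rho_mul, rho_inv_apply, h]

/-- The pointwise stabilizer of a vector as a subgroup. -/
def stab (v : V) : Subgroup H where
  carrier := {g | ρ g v = v}
  mul_mem' := fun ha hb => fixed_mul ρ ha hb
  one_mem' := rho_one ρ v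
  inv_mem' := fun ha => fixed_inv ρ ha

@[simp] theorem mem_stab {v : V} {g : H} : g ∈ stab ρ v ↔ ρ g v = v := Iff.rfl

/-- The norm (sum over the powers) of an element of order dividing `p`. -/
noncomputable def Nm (p : ℕ) [NeZero p] (c : H) : Module.End D V := ∑ i : ZMod p, ρ (c ^ i.val)

variable {p : ℕ} [hp : Fact p.Prime]

theorem Nm_apply (c : H) (v : V) : Nm ρ p c v = ∑ i : ZMod p, ρ (c ^ i.val) v := by
  unfold Nm
  rw [LinearMap.sum_apply]

theorem Nm_of_fixed {c : H} {v : V} (h : ρ c v = v) : Nm ρ p c v = (p : D) • v := by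
  rw [Nm_apply, Finset.sum_congr rfl fun i _ => fixed_pow ρ h _, Finset.sum_const, Finset.card_univ,
    ZMod.card, Nat.cast_smul_eq_nsmul]

theorem fixed_Nm {c : H} (hc : c ^ p = 1) (v : V) : ρ c (Nm ρ p c v) = Nm ρ p c v := by
  rw [Nm_apply, map_sum]
  have h1 : ∀ i : ZMod p, ρ c (ρ (c ^ i.val) v) = ρ (c ^ (i + 1).val) v := fun i => by
    rw [pow_val_add hc, ← rho_mul]
    congr 2
    by_cases hp1 : p = 1
    · exact absurd hp1 hp.out.one_lt.ne'
    · have : Fact (1 < p) := ⟨hp.out.one_lt⟩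
      rw [ZMod.val_one, pow_one, (Commute.pow_self c i.val).eq]
  rw [Finset.sum_congr rfl fun i _ => h1 i]
  exact Fintype.sum_equiv (Equiv.addRight (1 : ZMod p)) _ _ fun i => rfl

/-- **The key identity** : `∑ N_{a bⁱ} = p + (N_a - 1) N_b`; here in the form: if `N_b w = 0` then
`∑_i N_{a bⁱ} w = p w`. -/
theorem sum_Nm {a b : H} (hab : a * b = b * a) (hb : b ^ p = 1) {w : V}
    (h0 : Nm ρ p b w = 0) : ∑ i : ZMod p, Nm ρ p (a * b ^ i.val) w = (p : D) • w := by
  have hcom : Commute a b := hab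
  have h1 : ∀ i : ZMod p, Nm ρ p (a * b ^ i.val) w
      = ∑ j : ZMod p, ρ (a ^ j.val) (ρ (b ^ (i * j).val) w) := fun i => by
    rw [Nm_apply]
    refine Finset.sum_congr rfl fun j _ => ?_
    rw [(hcom.pow_right i.val).mul_pow, rho_mul, pow_val_mul hb]
  rw [Finset.sum_congr rfl fun i _ => h1 i, Finset.sum_comm]
  have h2 : ∀ j : ZMod p, ∑ i : ZMod p, ρ (a ^ j.val) (ρ (b ^ (i * j).val) w)
      = if j = 0 then (p : D) • w else 0 := fun j => by
    split_ifs with hj
    · subst hj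
      have : ∀ i : ZMod p, ρ (a ^ (0 : ZMod p).val) (ρ (b ^ (i * 0).val) w) = w := fun i => by
        rw [mul_zero, ZMod.val_zero, pow_zero, pow_zero, rho_one, rho_one]
      rw [Finset.sum_congr rfl fun i _ => this i, Finset.sum_const, Finset.card_univ, ZMod.card,
        Nat.cast_smul_eq_nsmul]
    · rw [← map_sum]
      have : ∑ i : ZMod p, ρ (b ^ (i * j).val) w = Nm ρ p b w := by
        rw [Nm_apply]
        exact Fintype.sum_equiv (Equiv.mulRight₀ j hj) _ _ fun i => rfl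
      rw [this, h0, map_zero]
  rw [Finset.sum_congr rfl fun j _ => h2 j, Finset.sum_ite_eq' Finset.univ (0 : ZMod p)]
  simp

variable [CharZero D]

theorem Nm_ne_zero_of_fixed {c : H} {v : V} (h : ρ c v = v) (hv : v ≠ 0) : Nm ρ p c v ≠ 0 := by
  rw [Nm_of_fixed ρ h]
  exact smul_ne_zero (Nat.cast_ne_zero.2 hp.out.ne_zero) hv

/-- In an invariant subspace `W ≠ 0`, one of the elements `b`, `a bⁱ` has a nonzero fixed vector. -/
theorem exists_fixed {a b : H} (hab : a * b = b * a) (ha : a ^ p = 1) (hb : b ^ p = 1)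
    (W : Submodule D V) (hWa : ∀ v ∈ W, ρ a v ∈ W) (hWb : ∀ v ∈ W, ρ b v ∈ W) {w : V} (hw : w ∈ W)
    (hw0 : w ≠ 0) : ∃ c : H, (c = b ∨ ∃ i : ℕ, c = a * b ^ i) ∧ ∃ v ∈ W, v ≠ 0 ∧ ρ c v = v := by
  have hWpow : ∀ (g : H), (∀ v ∈ W, ρ g v ∈ W) → ∀ n : ℕ, ∀ v ∈ W, ρ (g ^ n) v ∈ W := by
    intro g hg n
    induction n with
    | zero => intro v hv; rw [pow_zero, rho_one]; exact hv
    | succ n ih => intro v hv; rw [pow_succ, rho_mul]; exact ih _ (hg v hv)
  have hWN : ∀ (g : H), (∀ v ∈ W, ρ g v ∈ W) → ∀ v ∈ W, Nm ρ p g v ∈ W := by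
    intro g hg v hv
    rw [Nm_apply]
    exact W.sum_mem fun i _ => hWpow g hg _ v hv
  by_cases h0 : Nm ρ p b w = 0
  · have hs := sum_Nm ρ (p := p) hab hb h0
    have hne : (p : D) • w ≠ 0 := smul_ne_zero (Nat.cast_ne_zero.2 hp.out.ne_zero) hw0
    rw [← hs] at hne
    obtain ⟨i, _, hi⟩ := Finset.exists_ne_zero_of_sum_ne_zero hne
    have hc : (a * b ^ i.val) ^ p = 1 := by
      have hcom : Commute a b := hab
      rw [(hcom.pow_right i.val).mul_pow, ha, one_mul, ← pow_mul, mul_comm, pow_mul, hb, one_pow]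
    refine ⟨a * b ^ i.val, Or.inr ⟨_, rfl⟩, Nm ρ p (a * b ^ i.val) w, ?_, hi, fixed_Nm ρ hc w⟩
    refine hWN _ (fun v hv => ?_) w hw
    rw [rho_mul]
    exact hWa _ (hWpow b hWb _ v hv)
  · exact ⟨b, Or.inl rfl, Nm ρ p b w, hWN b hWb w hw, h0, fixed_Nm ρ hb w⟩

/-- `V = Fix(c) ⊕ ker N_c`. -/
theorem isCompl_Fx_ker {c : H} (hc : c ^ p = 1) :
    IsCompl (Fx ρ c) (LinearMap.ker (Nm ρ p c)) := by
  constructor
  · rw [Submodule.disjoint_def]
    intro v hv hv'
    by_contra hne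
    exact Nm_ne_zero_of_fixed ρ (p := p) ((mem_Fx ρ).1 hv) hne hv'
  · rw [codisjoint_iff, Submodule.eq_top_iff']
    intro v
    rw [Submodule.mem_sup]
    refine ⟨(p : D)⁻¹ • Nm ρ p c v, Submodule.smul_mem _ _ ((mem_Fx ρ).2 (fixed_Nm ρ hc v)),
      v - (p : D)⁻¹ • Nm ρ p c v, ?_, by abel⟩
    rw [LinearMap.mem_ker, map_sub, map_smul, Nm_of_fixed ρ (fixed_Nm ρ hc v), smul_smul,
      inv_mul_cancel₀ (Nat.cast_ne_zero.2 hp.out.ne_zero), one_smul, sub_self]

theorem ker_inv {c x : H} (hx : ∃ k : ℕ, x * c * x⁻¹ = c ^ k) (hcp : c ^ p = 1) :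
    ∀ v ∈ LinearMap.ker (Nm ρ p c), ρ x⁻¹ v ∈ LinearMap.ker (Nm ρ p c) := by
  obtain ⟨k, hk⟩ := hx
  intro v hv
  rw [LinearMap.mem_ker] at hv ⊢
  -- `N_c (x⁻¹ v)` is the image under `x⁻¹` of `∑ ρ(c^{ki}) v`
  by_cases hk0 : (k : ZMod p) = 0
  · -- then `c = 1`
    have hk1 : c ^ k = 1 := by
      rw [(ZMod.natCast_eq_zero_iff k p)] at hk0
      obtain ⟨m, rfl⟩ := hk0
      rw [pow_mul, hcp, one_pow]
    have hc1 : c = 1 := by
      rw [hk1] at hk
      have := congrArg (fun y => x⁻¹ * y * x) hk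
      simpa [mul_assoc] using this
    subst hc1
    have hv0 : v = 0 := by
      by_contra hne
      exact Nm_ne_zero_of_fixed ρ (p := p) (rho_one ρ v) hne hv
    rw [hv0, map_zero, map_zero]
  · have h1 : ρ x (Nm ρ p c (ρ x⁻¹ v)) = 0 := by
      rw [Nm_apply, map_sum]
      have h2 : ∀ i : ZMod p, ρ x (ρ (c ^ i.val) (ρ x⁻¹ v)) = ρ (c ^ (i * (k : ZMod p)).val) v := by
        intro i
        rw [← rho_mul, ← rho_mul, ← conj_pow, hk, ← pow_mul, ZMod.val_mul, ZMod.val_natCast,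
          pow_mod_eq hcp]
        congr 1
        have : c ^ (k * i.val) = c ^ (i.val * (k % p)) := by
          rw [mul_comm k, pow_mul, pow_mul, ← pow_mod_eq (p := p) (c := c ^ i.val) ?_ k]
          rw [← pow_mul, mul_comm, pow_mul, hcp, one_pow]
        rw [this]
      rw [Finset.sum_congr rfl fun i _ => h2 i]
      have h3 : ∑ i : ZMod p, ρ (c ^ (i * (k : ZMod p)).val) v = Nm ρ p c v := by
        rw [Nm_apply]
        exact Fintype.sum_equiv (Equiv.mulRight₀ (k : ZMod p) hk0) _ _ fun i => rfl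
      rw [h3, hv]
    exact rho_injective ρ x (by rw [h1, map_zero])

end Cfsg.Agent.H323.DivLin
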