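import Mathlib
import Cfsg.Agent.H323.DivLin

/-!
# H323.DivLow: the lower bound for `dim_ℚ E`

Let `y` be of prime order `q`, `z₀` central with `z₀^(2^a) = -1` and `x` with `x y x⁻¹ = y^c`, the powers
`c^j`, `j < r`, being different modulo `q`. Then `r (q-1) 2^a ≤ (dim_E V)² dim_ℚ E`.
-/

set_option autoImplicit false

namespace Cfsg.Agent.H323.DivLin

open Module Polynomial

universe u v w

variable {E : Type u} [DivisionRing E] [Algebra ℚ E] [Module.Finite ℚ E]
variable {V : Type w} [AddCommGroup V] [Module E V] [Module ℚ V] [IsScalarTower ℚ E V] [Module.Finite E V]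

omit [Module.Finite ℚ E] [Module.Finite E V] in
theorem aeval_mul_apply (w : Module.End E V) (f g : ℚ[X]) (v : V) :
    aeval w (f * g) v = aeval w f (aeval w g v) := by
  rw [map_mul]; rfl

omit [Module.Finite ℚ E] [Module.Finite E V] in
theorem aeval_comm_apply (w : Module.End E V) (f g : ℚ[X]) (v : V) :
    aeval w f (aeval w g v) = aeval w g (aeval w f v) := by
  rw [← aeval_mul_apply, mul_comm, aeval_mul_apply]

omit [Module.Finite ℚ E] [Module.Finite E V] in
theorem aeval_X_pow_apply (w : Module.End E V) (n : ℕ) (v : V) :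
    aeval w (X ^ n : ℚ[X]) v = (w ^ n) v := by
  rw [map_pow, aeval_X]

omit [Module.Finite ℚ E] [Module.Finite E V] in
/-- The cyclotomic polynomial kills `W`. -/
theorem aeval_cyclotomic {w : Module.End E V} {W : Submodule E V} {N : ℕ} (hN : 0 < N)
    (hW : ∀ v ∈ W, w v ∈ W) (hwN : ∀ v, (w ^ N) v = v)
    (hl : ∀ l : ℕ, l.Prime → l ∣ N → ∀ v ∈ W, (w ^ (N / l)) v = v → v = 0) :
    ∀ v ∈ W, aeval w (cyclotomic N ℚ) v = 0 := by
  have hWp : ∀ f : ℚ[X], ∀ v ∈ W, aeval w f v ∈ W := by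
    intro f v hv
    induction f using Polynomial.induction_on' with
    | add f g hf hg => rw [map_add, LinearMap.add_apply]; exact W.add_mem hf hg
    | monomial n a =>
      rw [aeval_monomial]
      have h1 : ∀ n : ℕ, (w ^ n) v ∈ W := by
        intro n
        induction n with
        | zero => simpa using hv
        | succ n ih => rw [pow_succ', Module.End.mul_apply]; exact hW _ ih
      rw [Module.End.mul_apply]
      have h2 : algebraMap ℚ (Module.End E V) a ((w ^ n) v) = (algebraMap ℚ E a) • (w ^ n) v := by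
        rw [Module.algebraMap_end_apply, algebraMap_smul]
      rw [h2]
      exact W.smul_mem _ (h1 n)
  -- injectivity of the other factors
  have hinj : ∀ d ∈ N.properDivisors, ∀ v ∈ W, aeval w (cyclotomic d ℚ) v = 0 → v = 0 := by
    intro d hd v hv h0
    rw [Nat.mem_properDivisors] at hd
    obtain ⟨⟨e, he⟩, hlt⟩ := hd
    have he1 : e ≠ 1 := by
      rintro rfl
      rw [mul_one] at he
      omega
    obtain ⟨l, hlp, t, ht⟩ := Nat.exists_prime_and_dvd he1
    have hNl : N / l = d * t := by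
      rw [he, ht]
      rw [show d * (l * t) = l * (d * t) by ring]
      exact Nat.mul_div_cancel_left _ hlp.pos
    apply hl l hlp ⟨d * t, by rw [he, ht]; ring⟩ v hv
    rw [hNl]
    have h1 : cyclotomic d ℚ ∣ X ^ (d * t) - 1 := by
      refine (cyclotomic.dvd_X_pow_sub_one d ℚ).trans ?_
      rw [pow_mul]
      simpa using sub_dvd_pow_sub_pow (X ^ d : ℚ[X]) 1 t
    obtain ⟨g, hg⟩ := h1
    have h2 : aeval w (X ^ (d * t) - 1 : ℚ[X]) v = 0 := by
      rw [hg, mul_comm, aeval_mul_apply, h0, map_zero]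
    rw [map_sub, LinearMap.sub_apply, aeval_X_pow_apply, map_one, Module.End.one_apply, sub_eq_zero] at h2
    exact h2
  have hprod : ∀ s : Finset ℕ, s ⊆ N.properDivisors → ∀ v ∈ W,
      aeval w (∏ d ∈ s, cyclotomic d ℚ) v = 0 → v = 0 := by
    classical
    intro s
    induction s using Finset.induction_on with
    | empty =>
      intro _ v _ h0
      rwa [Finset.prod_empty, map_one, Module.End.one_apply] at h0
    | insert d s hds ih =>
      intro hs v hv h0
      rw [Finset.prod_insert hds, aeval_mul_apply] at h0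
      apply ih (fun x hx => hs (Finset.mem_insert_of_mem hx)) v hv
      exact hinj d (hs (Finset.mem_insert_self _ _)) _ (hWp _ v hv) h0
  intro v hv
  apply hprod _ (Finset.Subset.refl _) _ (hWp _ v hv)
  rw [← aeval_mul_apply]
  have h1 : (∏ d ∈ N.properDivisors, cyclotomic d ℚ) * cyclotomic N ℚ = X ^ N - 1 := by
    rw [← prod_cyclotomic_eq_X_pow_sub_one hN ℚ, ← Nat.insert_self_properDivisors hN.ne',
      Finset.prod_insert Nat.self_notMem_properDivisors, mul_comm]
  rw [h1, map_sub, LinearMap.sub_apply, aeval_X_pow_apply, map_one, Module.End.one_apply, hwN, sub_self]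

omit [Module.Finite ℚ E] [Module.Finite E V] in
theorem aeval_inj {w : Module.End E V} {W : Submodule E V} {N : ℕ} (hN : 0 < N)
    (hcyc : ∀ v ∈ W, aeval w (cyclotomic N ℚ) v = 0) {f : ℚ[X]} (hf : ¬ cyclotomic N ℚ ∣ f) :
    ∀ v ∈ W, aeval w f v = 0 → v = 0 := by
  intro v hv h0
  have hirr := cyclotomic.irreducible_rat hN
  obtain ⟨a, b, hab⟩ := (EuclideanDomain.dvd_or_coprime _ f hirr).resolve_left hf
  have h1 : aeval w (a * cyclotomic N ℚ + b * f) v = v := by
    rw [hab, map_one, Module.End.one_apply]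
  rw [map_add, LinearMap.add_apply, aeval_mul_apply, aeval_mul_apply, hcyc v hv, h0, map_zero, map_zero,
    add_zero] at h1
  exact h1.symm

section main

variable {H : Type v} [Group H] (ρ : H →* Module.End E V)

omit [Module.Finite ℚ E] [Module.Finite E V] in
theorem rho_pow_apply (w : H) (n : ℕ) (v : V) : (ρ w ^ n) v = ρ (w ^ n) v := by rw [map_pow]

omit [Module.Finite ℚ E] [Module.Finite E V] in
/-- **Independence.** -/
theorem indep {W : Submodule E V} {N : ℕ} (hN : 0 < N) {w x y : H} {n₁ : ℕ} (hy : y = w ^ n₁)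
    (hcyc : ∀ v ∈ W, aeval (ρ w) (cyclotomic N ℚ) v = 0)
    (hWw : ∀ v ∈ W, ρ w v ∈ W) (hWx : ∀ v ∈ W, ρ x v ∈ W) (hW0 : W ≠ ⊥)
    {c : ℕ} (hx : x * y * x⁻¹ = y ^ c) {r : ℕ}
    (hc : ∀ i j, i < r → j < r → i ≠ j → ∀ v ∈ W, ρ (y ^ c ^ i) v = ρ (y ^ c ^ j) v → v = 0) :
    ∀ (s : Finset ℕ), (∀ j ∈ s, j < r) → ∀ a : ℕ → ℚ[X],
      (∀ v ∈ W, ∑ j ∈ s, aeval (ρ w) (a j) (ρ (x ^ j) v) = 0) → ∀ j ∈ s, cyclotomic N ℚ ∣ a j := by
  classical
  have hconj : ∀ j : ℕ, x ^ j * y = y ^ c ^ j * x ^ j := by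
    intro j
    induction j with
    | zero => simp
    | succ j ih =>
      have h1 : ∀ n : ℕ, x * y ^ n = y ^ (c * n) * x := by
        intro n
        have h2 : x * y ^ n * x⁻¹ = y ^ (c * n) := by rw [← conj_pow, hx, pow_mul]
        rw [← h2]; group
      calc x ^ (j + 1) * y = x * (x ^ j * y) := by rw [pow_succ', mul_assoc]
        _ = x * y ^ c ^ j * x ^ j := by rw [ih, mul_assoc]
        _ = y ^ (c * c ^ j) * x * x ^ j := by rw [h1]
        _ = y ^ c ^ (j + 1) * x ^ (j + 1) := by rw [← pow_succ', mul_assoc, ← pow_succ']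
  have hWxj : ∀ j : ℕ, ∀ v ∈ W, ρ (x ^ j) v ∈ W := by
    intro j
    induction j with
    | zero => intro v hv; simpa using hv
    | succ j ih => intro v hv; rw [pow_succ', rho_mul]; exact hWx _ (ih v hv)
  have hWy : ∀ v ∈ W, ρ y v ∈ W := by
    have h1 : ∀ n : ℕ, ∀ v ∈ W, ρ (w ^ n) v ∈ W := by
      intro n
      induction n with
      | zero => intro v hv; simpa using hv
      | succ n ih => intro v hv; rw [pow_succ', rho_mul]; exact hWw _ (ih v hv)
    rw [hy]
    exact h1 n₁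
  have hpoly : ∀ n : ℕ, ∀ v, ρ (y ^ n) v = aeval (ρ w) (X ^ (n₁ * n) : ℚ[X]) v := by
    intro n v
    rw [aeval_X_pow_apply, rho_pow_apply, pow_mul, ← hy]
  intro s
  induction s using Finset.induction_on with
  | empty => intro _ a _ j hj; exact absurd hj (Finset.notMem_empty j)
  | insert j₀ s hj₀ ih =>
    intro hs a ha
    have hs' : ∀ j ∈ s, j < r := fun j hj => hs j (Finset.mem_insert_of_mem hj)
    have hj₀r : j₀ < r := hs j₀ (Finset.mem_insert_self _ _)
    have key : ∀ v ∈ W, ∑ j ∈ s, aeval (ρ w) (a j * (X ^ (n₁ * c ^ j) - X ^ (n₁ * c ^ j₀))) (ρ (x ^ j) v) = 0 := by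
      intro v hv
      have h1 := ha (ρ y v) (hWy v hv)
      have h2 := congrArg (ρ (y ^ c ^ j₀)) (ha v hv)
      rw [map_zero, map_sum] at h2
      have h3 : ∑ j ∈ insert j₀ s, aeval (ρ w) (a j) (ρ (x ^ j) (ρ y v)) -
          ∑ j ∈ insert j₀ s, ρ (y ^ c ^ j₀) (aeval (ρ w) (a j) (ρ (x ^ j) v)) = 0 := by
        rw [h1, h2, sub_zero]
      rw [← Finset.sum_sub_distrib, Finset.sum_insert hj₀] at h3
      have h4 : ∀ j, aeval (ρ w) (a j) (ρ (x ^ j) (ρ y v)) -
          ρ (y ^ c ^ j₀) (aeval (ρ w) (a j) (ρ (x ^ j) v)) =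
          aeval (ρ w) (a j * (X ^ (n₁ * c ^ j) - X ^ (n₁ * c ^ j₀))) (ρ (x ^ j) v) := by
        intro j
        rw [← rho_mul, hconj, rho_mul, hpoly, hpoly, aeval_comm_apply (ρ w) (X ^ (n₁ * c ^ j₀)),
          aeval_mul_apply, ← map_sub, map_sub (aeval (R := ℚ) (ρ w)), LinearMap.sub_apply]
      rw [h4 j₀, sub_self, mul_zero, map_zero, LinearMap.zero_apply, zero_add] at h3
      rw [Finset.sum_congr rfl fun j _ => h4 j] at h3
      exact h3
    have h5 := ih hs' _ key
    have hprime : Prime (cyclotomic N ℚ) := (cyclotomic.irreducible_rat hN).prime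
    have h6 : ∀ j ∈ s, cyclotomic N ℚ ∣ a j := by
      intro j hj
      rcases hprime.dvd_or_dvd (h5 j hj) with h7 | ⟨g, hg⟩
      · exact h7
      · exfalso
        apply hW0
        rw [Submodule.eq_bot_iff]
        intro v hv
        have hjne : j ≠ j₀ := fun h => hj₀ (h ▸ hj)
        apply hc j j₀ (hs' j hj) hj₀r hjne v hv
        rw [← sub_eq_zero, hpoly, hpoly, ← LinearMap.sub_apply, ← map_sub, hg, mul_comm, aeval_mul_apply,
          hcyc v hv, map_zero]
    have h7 : cyclotomic N ℚ ∣ a j₀ := by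
      by_contra hnd
      apply hW0
      rw [Submodule.eq_bot_iff]
      intro v hv
      have h8 := ha v hv
      rw [Finset.sum_insert hj₀, Finset.sum_eq_zero, add_zero] at h8
      · have h9 := aeval_inj hN hcyc hnd _ (hWxj j₀ v hv) h8
        by_contra hv0
        exact rho_ne_zero ρ hv0 h9
      · intro j hj
        obtain ⟨g, hg⟩ := h6 j hj
        rw [hg, mul_comm, aeval_mul_apply, hcyc _ (hWxj j v hv), map_zero]
    intro j hj
    rcases Finset.mem_insert.1 hj with rfl | hj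
    · exact h7
    · exact h6 j hj

/-- The dimension bound from independence. -/
theorem dim_bound {W : Submodule E V} {N : ℕ} {w x : H} {r : ℕ}
    (hind : ∀ a : ℕ → ℚ[X], (∀ v ∈ W, ∑ j ∈ Finset.range r, aeval (ρ w) (a j) (ρ (x ^ j) v) = 0) →
      ∀ j ∈ Finset.range r, cyclotomic N ℚ ∣ a j) :
    r * Nat.totient N ≤ finrank E V * (finrank E V * finrank ℚ E) := by
  classical
  let Θ : (Fin r → degreeLT ℚ (Nat.totient N)) →ₗ[ℚ] (W →ₗ[E] V) :=
    { toFun := fun c => (∑ j : Fin r, aeval (ρ w) (c j : ℚ[X]) * ρ (x ^ (j : ℕ))).comp W.subtype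
      map_add' := by
        intro c d
        apply LinearMap.ext
        intro v
        simp only [Pi.add_apply, Submodule.coe_add, map_add, add_mul, Finset.sum_add_distrib,
          LinearMap.comp_apply, LinearMap.add_apply]
      map_smul' := by
        intro t c
        apply LinearMap.ext
        intro v
        simp only [Pi.smul_apply, Submodule.coe_smul, map_smul, smul_mul_assoc, ← Finset.smul_sum,
          LinearMap.comp_apply, LinearMap.smul_apply, RingHom.id_apply] }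
  have hΘ : ∀ c v, Θ c v = ∑ j : Fin r, aeval (ρ w) (c j : ℚ[X]) (ρ (x ^ (j : ℕ)) v) := by
    intro c v
    change (∑ j : Fin r, aeval (ρ w) (c j : ℚ[X]) * ρ (x ^ (j : ℕ))) (v : V) = _
    rw [LinearMap.sum_apply]
    rfl
  have hinj : Function.Injective Θ := by
    rw [injective_iff_map_eq_zero]
    intro c hc
    let a : ℕ → ℚ[X] := fun j => if h : j < r then (c ⟨j, h⟩ : ℚ[X]) else 0
    have h1 := hind a (fun v hv => by
      have h2 := LinearMap.congr_fun hc ⟨v, hv⟩
      rw [hΘ, LinearMap.zero_apply] at h2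
      rw [← h2, ← Fin.sum_univ_eq_sum_range (fun j => aeval (ρ w) (a j) (ρ (x ^ j) v))]
      refine Finset.sum_congr rfl fun j _ => ?_
      change aeval (ρ w) (if h : (j : ℕ) < r then (c ⟨j, h⟩ : ℚ[X]) else 0) _ = _
      rw [dif_pos j.2])
    funext j
    apply Subtype.ext
    have h3 := h1 j (Finset.mem_range.2 j.2)
    have h4 : a j = (c j : ℚ[X]) := by
      change (if h : (j : ℕ) < r then (c ⟨j, h⟩ : ℚ[X]) else 0) = _
      rw [dif_pos j.2]
    rw [h4] at h3
    have h5 : (c j : ℚ[X]).degree < (cyclotomic N ℚ).degree := by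
      rw [degree_cyclotomic]
      exact mem_degreeLT.1 (c j).2
    exact eq_zero_of_dvd_of_degree_lt h3 h5
  have hfV : Module.Finite ℚ V := Module.Finite.trans E V
  let b := Module.finBasis E W
  let L := b.constr (M' := V) ℚ
  have hfin : Module.Finite ℚ (W →ₗ[E] V) := Module.Finite.equiv L
  have h1 := LinearMap.finrank_le_finrank_of_injective hinj
  rw [← L.finrank_eq, Module.finrank_pi_fintype, Module.finrank_pi_fintype] at h1
  simp only [Finset.sum_const, Finset.card_univ, Fintype.card_fin, smul_eq_mul] at h1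
  rw [(degreeLTEquiv ℚ (Nat.totient N)).finrank_eq, Module.finrank_fin_fun,
    ← Module.finrank_mul_finrank ℚ E V] at h1
  have h2 : finrank E W ≤ finrank E V := Submodule.finrank_le W
  calc r * Nat.totient N ≤ finrank E W * (finrank ℚ E * finrank E V) := h1
    _ ≤ finrank E V * (finrank ℚ E * finrank E V) := Nat.mul_le_mul_right _ h2
    _ = _ := by ring

/-- **The lower bound.** -/
theorem lower [Finite H] {q : ℕ} [hq : Fact q.Prime] (hq2 : q ≠ 2) {a : ℕ} {x y z₀ : H} (hyq : y ^ q = 1)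
    (hy1 : Fx ρ y ≠ ⊤) (hz₀ : ∀ h : H, h * z₀ = z₀ * h) (hz : ∀ v, ρ (z₀ ^ 2 ^ a) v = -v)
    (hzm : z₀ ^ 2 ^ (a + 1) = 1) {c r : ℕ} (hx : x * y * x⁻¹ = y ^ c)
    (hc : ∀ i j, i < r → j < r → c ^ i ≡ c ^ j [MOD q] → i = j) :
    r * ((q - 1) * 2 ^ a) ≤ finrank E V * (finrank E V * finrank ℚ E) := by
  have hch : CharZero E := algebraRat.charZero E
  have hqp := hq.out
  have hodd : Odd q := hqp.odd_of_ne_two hq2
  set W : Submodule E V := LinearMap.ker (Nm ρ q y) with hW
  have hcompl := isCompl_Fx_ker ρ (p := q) hyq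
  have hdis : ∀ v ∈ W, ρ y v = v → v = 0 := by
    intro v hv h1
    exact (Submodule.disjoint_def.1 hcompl.disjoint) v ((mem_Fx ρ).2 h1) hv
  have hdisl : ∀ l : ℕ, ¬ q ∣ l → ∀ v ∈ W, ρ (y ^ l) v = v → v = 0 := by
    intro l hl v hv h1
    apply hdis v hv
    have hcop : Nat.Coprime l q := ((Nat.Prime.coprime_iff_not_dvd hqp).2 hl).symm
    obtain ⟨t, -, ht⟩ := Nat.exists_mul_mod_eq_one_of_coprime hcop hqp.one_lt
    have h2 : y = (y ^ l) ^ t := by
      rw [← pow_mul, ← pow_mod_eq (p := q) hyq, ht, pow_one]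
    rw [h2]
    exact fixed_pow ρ h1 t
  have hW0 : W ≠ ⊥ := by
    intro h0
    apply hy1
    have := hcompl.sup_eq_top
    rwa [← hW, h0, sup_bot_eq] at this
  have hWcomm : ∀ g : H, g * y = y * g → ∀ v ∈ W, ρ g v ∈ W := by
    intro g hg v hv
    have h1 := ker_inv ρ (p := q) (c := y) (x := g⁻¹) ⟨1, by
      rw [pow_one, inv_inv, mul_assoc, ← hg, inv_mul_cancel_left]⟩ hyq v hv
    rwa [inv_inv] at h1
  set w : H := y * z₀ with hw
  have hcom : Commute y z₀ := hz₀ y
  have hWw : ∀ v ∈ W, ρ w v ∈ W := hWcomm w (by rw [hw, mul_assoc, ← hz₀ y])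
  have hWx : ∀ v ∈ W, ρ x v ∈ W := by
    have h1 : ∀ v ∈ W, ρ x⁻¹ v ∈ W := ker_inv ρ (p := q) ⟨c, hx⟩ hyq
    have h2 : ∀ n : ℕ, ∀ v ∈ W, ρ (x⁻¹ ^ n) v ∈ W := by
      intro n
      induction n with
      | zero => intro v hv; simpa using hv
      | succ n ih => intro v hv; rw [pow_succ', rho_mul]; exact h1 _ (ih v hv)
    have h3 : x ∈ Submonoid.powers x⁻¹ := by
      rw [mem_powers_iff_mem_zpowers]
      exact ⟨-1, by simp⟩
    obtain ⟨n, hn⟩ := h3
    have h4 : x⁻¹ ^ n = x := hn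
    intro v hv
    have h5 := h2 n v hv
    rwa [h4] at h5
  set N : ℕ := q * 2 ^ (a + 1) with hN
  have hNpos : 0 < N := Nat.mul_pos hqp.pos (by positivity)
  have hzz : ∀ v, ρ (z₀ ^ 2 ^ a) v = v → v = 0 := by
    intro v h1
    rw [hz] at h1
    have h2 : v + v = 0 := by
      nth_rewrite 1 [← h1]
      exact neg_add_cancel v
    have h3 : (2 : ℚ) • v = 0 := by rw [two_smul]; exact h2
    exact (smul_eq_zero.1 h3).resolve_left two_ne_zero
  have hcyc : ∀ v ∈ W, aeval (ρ w) (cyclotomic N ℚ) v = 0 := by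
    refine aeval_cyclotomic hNpos hWw (fun v => ?_) ?_
    · rw [rho_pow_apply, hw, hcom.mul_pow, hN, pow_mul, hyq, one_pow, one_mul, mul_comm, pow_mul, hzm,
        one_pow, rho_one]
    · intro l hlp hlN v hv h1
      rw [rho_pow_apply, hw, hcom.mul_pow] at h1
      rcases (Nat.Prime.dvd_mul hlp).1 hlN with h2 | h2
      · have hlq : l = q := (Nat.prime_dvd_prime_iff_eq hlp hqp).1 h2
        rw [hlq, hN, Nat.mul_div_cancel_left _ hqp.pos, hzm, mul_one] at h1
        refine hdisl _ ?_ v hv h1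
        intro h3
        exact hq2 ((Nat.prime_dvd_prime_iff_eq hqp Nat.prime_two).1 (hqp.dvd_of_dvd_pow h3))
      · have hl2 : l = 2 := (Nat.prime_dvd_prime_iff_eq hlp Nat.prime_two).1 (hlp.dvd_of_dvd_pow h2)
        have h3 : N / l = q * 2 ^ a := by
          rw [hl2, hN, pow_succ, ← mul_assoc]
          exact Nat.mul_div_cancel _ (by norm_num)
        rw [h3, pow_mul, hyq, one_pow, one_mul, mul_comm, pow_mul] at h1
        -- `(z₀^(2^a))^q = z₀^(2^a)`
        obtain ⟨t, ht⟩ := hodd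
        have h5 : (z₀ ^ 2 ^ a) ^ 2 = 1 := by rw [← pow_mul, ← pow_succ, hzm]
        have h4 : (z₀ ^ 2 ^ a) ^ q = z₀ ^ 2 ^ a := by
          rw [ht, pow_succ, pow_mul, h5, one_pow, one_mul]
        rw [h4] at h1
        exact hzz v h1
  -- `y` is a power of `w`
  obtain ⟨n₁, hn₁⟩ : ∃ n₁, y = w ^ n₁ := by
    have hcop : Nat.Coprime (2 ^ (a + 1)) q := by
      apply Nat.Coprime.pow_left
      exact (Nat.coprime_primes Nat.prime_two hqp).2 (Ne.symm hq2)
    obtain ⟨t, -, ht⟩ := Nat.exists_mul_mod_eq_one_of_coprime hcop hqp.one_lt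
    refine ⟨2 ^ (a + 1) * t, ?_⟩
    rw [hw, hcom.mul_pow, pow_mul z₀, hzm, one_pow, mul_one, ← pow_mod_eq (p := q) hyq, ht, pow_one]
  have hind := indep ρ hNpos hn₁ hcyc hWw hWx hW0 hx (r := r) (by
    intro i j hi hj hij v hv h1
    by_contra hv0
    apply hij
    apply hc i j hi hj
    -- the residues are equal
    have key : ∀ m n : ℕ, m ≤ n → ρ (y ^ m) v = ρ (y ^ n) v → m ≡ n [MOD q] := by
      intro m n hmn h2
      rw [Nat.modEq_iff_dvd' hmn]
      by_contra hnd
      apply hv0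
      refine hdisl _ hnd v hv ?_
      apply rho_injective ρ (y ^ m)
      rw [← rho_mul, ← pow_add, Nat.add_sub_cancel' hmn, h2]
    rcases le_total (c ^ i) (c ^ j) with h2 | h2
    · exact key _ _ h2 h1
    · exact (key _ _ h2 h1.symm).symm)
  have h1 := dim_bound ρ (W := W) (N := N) (w := w) (x := x) (r := r) (fun a ha =>
    hind (Finset.range r) (fun j hj => Finset.mem_range.1 hj) a ha)
  have h2 : Nat.totient N = (q - 1) * 2 ^ a := by
    rw [hN, Nat.totient_mul, Nat.totient_prime hqp, Nat.totient_prime_pow Nat.prime_two (Nat.succ_pos a)]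
    · simp
    · apply Nat.Coprime.pow_right
      exact (Nat.coprime_primes hqp Nat.prime_two).2 hq2
  rwa [h2] at h1

end main

end Cfsg.Agent.H323.DivLin
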