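import Cfsg.Agent.H323.DivPSL
import Cfsg.Agent.H323.DivTrace
import Cfsg.Agent.H323.DivLow
import Cfsg.Agent.Transfer.PGroupNormal
import Cfsg.Agent.SmallSimple.PSLTwoPart

/-!
# H323.DivFermat: `PSL₂(q)`, `q ≥ 17` a Fermat prime, is impossible
-/

set_option autoImplicit false

namespace Cfsg.Agent.H323.DivLin

open Module Cfsg.Agent.H323.PiHom
open scoped commutatorElement

universe u v w

section lift

variable {S : Type w} [Group S] {H : Type u} [Group H] [Finite H] {f : H →* S}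

theorem exists_lift_pow (hf : Function.Surjective f) (hk : IsPGroup 2 f.ker) {s : S} {n : ℕ}
    (hn : Odd n) (hs : s ^ n = 1) : ∃ x : H, f x = s ∧ x ^ n = 1 := by
  obtain ⟨x₀, rfl⟩ := hf s
  have h1 : x₀ ^ n ∈ f.ker := by rw [MonoidHom.mem_ker, map_pow, hs]
  obtain ⟨b, hb⟩ := hk ⟨x₀ ^ n, h1⟩
  have hb' : (x₀ ^ n) ^ 2 ^ b = 1 := congrArg Subtype.val hb
  rcases Nat.lt_or_ge 1 n with hn1 | hn1
  · have hcop : Nat.Coprime (2 ^ b) n := Nat.Coprime.pow_left b (Nat.coprime_two_left.2 hn)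
    obtain ⟨t, -, ht⟩ := Nat.exists_mul_mod_eq_one_of_coprime hcop hn1
    refine ⟨x₀ ^ (2 ^ b * t), ?_, ?_⟩
    · rw [map_pow, pow_mod_eq_gen hs, ht, pow_one]
    · rw [← pow_mul, mul_comm, pow_mul, pow_mul, hb', one_pow]
  · have hn' : n = 1 := by
      rcases hn with ⟨m, rfl⟩
      omega
    subst hn'
    rw [pow_one] at hs
    exact ⟨1, by rw [map_one, hs], one_pow 1⟩
where
  pow_mod_eq_gen {G : Type w} [Group G] {s : G} {n m : ℕ} (hs : s ^ n = 1) : s ^ m = s ^ (m % n) := by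
    conv_lhs => rw [← Nat.mod_add_div m n, pow_add, pow_mul, hs, one_pow, mul_one]

theorem lift_unique (hk : IsPGroup 2 f.ker) (hc : f.ker ≤ Subgroup.center H) {x y : H} {n : ℕ} (hn : Odd n)
    (hx : x ^ n = 1) (hy : y ^ n = 1) (hxy : f x = f y) : x = y := by
  have h1 : x⁻¹ * y ∈ f.ker := by rw [MonoidHom.mem_ker, map_mul, map_inv, hxy, inv_mul_cancel]
  obtain ⟨m, hm⟩ : ∃ m, m = x⁻¹ * y := ⟨_, rfl⟩
  rw [← hm] at h1
  have hy' : y = x * m := by rw [hm]; group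
  have hcm : Commute x m := Subgroup.mem_center_iff.1 (hc h1) x
  rw [hy', hcm.mul_pow, hx, one_mul] at hy
  obtain ⟨b, hb⟩ := hk ⟨m, h1⟩
  have hb' : m ^ 2 ^ b = 1 := congrArg Subtype.val hb
  have h2 : orderOf m ∣ Nat.gcd n (2 ^ b) :=
    Nat.dvd_gcd (orderOf_dvd_of_pow_eq_one hy) (orderOf_dvd_of_pow_eq_one hb')
  have h3 : Nat.gcd n (2 ^ b) = 1 := (Nat.Coprime.pow_left b (Nat.coprime_two_left.2 hn)).symm
  rw [h3, Nat.dvd_one, orderOf_eq_one_iff] at h2
  rw [hy', h2, mul_one]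

end lift

section psi

variable {E : Type u} [DivisionRing E] [Algebra ℚ E] [Module.Finite ℚ E]
variable {V : Type w} [AddCommGroup V] [Module E V] [Module ℚ V] [IsScalarTower ℚ E V] [Module.Finite E V]
variable {H : Type v} [Group H] [Finite H] (ρ : H →* Module.End E V)

theorem psi_three {x : H} (hx : x ^ 3 = 1) (hx1 : Fx ρ x ≠ ⊤) (hV : finrank E V = 1 ∨ finrank E V = 2) :
    (finrank ℚ E : ℚ) ^ 2 ≤ 4 * psi ρ x ^ 2 := by
  have h1 := sum_psi_pow ρ (n := 3) (by norm_num) hx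
  have h2 : x ^ 2 = x⁻¹ := by
    rw [eq_inv_iff_mul_eq_one, ← pow_succ, hx]
  rw [Finset.sum_range_succ, Finset.sum_range_succ, Finset.sum_range_one, pow_zero, pow_one, h2,
    psi_inv, psi_one] at h1
  have h3 := Submodule.finrank_lt hx1
  set e : ℚ := (finrank ℚ E : ℚ) with he
  have h0 : finrank E (Fx ρ x) = 0 ∨ finrank E (Fx ρ x) = 1 := by omega
  rcases hV with hV | hV <;> rcases h0 with h0 | h0
  · rw [hV, h0] at h1
    push_cast at h1
    have : psi ρ x = -e / 2 := by linarith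
    rw [this]; nlinarith
  · omega
  · rw [hV, h0] at h1
    push_cast at h1
    have : psi ρ x = -e := by linarith
    rw [this]; nlinarith
  · rw [hV, h0] at h1
    push_cast at h1
    have : psi ρ x = e / 2 := by linarith
    rw [this]; nlinarith

theorem psi_nine {g : H} (hg : g ^ 9 = 1) (hg1 : Fx ρ (g ^ 3) ≠ ⊤) (hV : finrank E V = 2) :
    (finrank ℚ E : ℚ) ^ 2 ≤ psi ρ (g ^ 3) ^ 2 + psi ρ g ^ 2 + psi ρ (g ^ 4) ^ 2 + psi ρ (g ^ 7) ^ 2 := by
  have h1 := sum_psi_pow ρ (n := 9) (by norm_num) hg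
  have h3 := sum_psi_pow ρ (n := 3) (x := g ^ 3) (by norm_num) (by rw [← pow_mul, hg])
  have e2 : g ^ 2 = (g ^ 7)⁻¹ := by rw [eq_inv_iff_mul_eq_one, ← pow_add, hg]
  have e5 : g ^ 5 = (g ^ 4)⁻¹ := by rw [eq_inv_iff_mul_eq_one, ← pow_add, hg]
  have e6 : g ^ 6 = (g ^ 3)⁻¹ := by rw [eq_inv_iff_mul_eq_one, ← pow_add, hg]
  have e8 : g ^ 8 = g⁻¹ := by rw [eq_inv_iff_mul_eq_one, ← pow_succ, hg]
  have e32 : (g ^ 3) ^ 2 = (g ^ 3)⁻¹ := by rw [← pow_mul, ← e6]
  simp only [Finset.sum_range_succ, Finset.sum_range_zero, pow_zero, pow_one, zero_add] at h1 h3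
  rw [e2, e5, e6, e8, psi_inv, psi_inv, psi_inv, psi_inv, psi_one] at h1
  rw [e32, psi_inv, psi_one] at h3
  have h4 := Submodule.finrank_lt hg1
  have h5 : finrank E (Fx ρ g) ≤ finrank E (Fx ρ (g ^ 3)) := by
    apply Submodule.finrank_mono
    intro v hv
    rw [mem_Fx] at hv ⊢
    exact fixed_pow ρ hv 3
  rw [hV] at h1 h3 h4
  push_cast at h1 h3
  set e : ℚ := (finrank ℚ E : ℚ) with he
  set a := psi ρ g with ha
  set b := psi ρ (g ^ 4) with hb
  set c := psi ρ (g ^ 7) with hc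
  set t := psi ρ (g ^ 3) with ht
  have hsq : (a + b + c) ^ 2 ≤ 3 * (a ^ 2 + b ^ 2 + c ^ 2) := by
    nlinarith [sq_nonneg (a - b), sq_nonneg (b - c), sq_nonneg (a - c)]
  have h6 : finrank E (Fx ρ (g ^ 3)) = 0 ∨ finrank E (Fx ρ (g ^ 3)) = 1 := by omega
  rcases h6 with h6 | h6
  · rw [h6] at h3
    push_cast at h3
    have ht' : t = -e := by linarith
    rw [ht']
    nlinarith [sq_nonneg a, sq_nonneg b, sq_nonneg c]
  · rw [h6] at h3
    push_cast at h3
    have ht' : t = e / 2 := by linarith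
    have h7 : finrank E (Fx ρ g) = 0 ∨ finrank E (Fx ρ g) = 1 := by omega
    rcases h7 with h7 | h7
    · rw [h7] at h1
      push_cast at h1
      have hS : a + b + c = -3 * e / 2 := by linarith
      rw [hS] at hsq
      rw [ht']
      nlinarith
    · rw [h7] at h1
      push_cast at h1
      have hS : a + b + c = 3 * e := by linarith
      rw [hS] at hsq
      rw [ht']
      nlinarith [sq_nonneg e]

end psi

section mats

variable {F : Type*} [Field F]

/-- the matrices of trace `-1` -/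
def Bm (i : F × Fˣ) : Matrix.SpecialLinearGroup (Fin 2) F :=
  sl2 i.1 i.2 ((-i.1 ^ 2 - i.1 - 1) * (i.2 : F)⁻¹) (-1 - i.1) (by
    have := i.2.ne_zero
    field_simp
    ring)

theorem Bm_cube (i : F × Fˣ) : Bm i ^ 3 = 1 := sl2_cube _ _ _ _ _ (by ring)

theorem Bm_ne (i : F × Fˣ) : q (Bm i) ≠ 1 := by
  rw [one_eq_q, Bm]
  intro h
  obtain ⟨r, hr, h1, h2, h3, h4⟩ := (q_sl2_eq _ _ _ _ _ _ _ _ _ _).1 h
  have hi := i.2.ne_zero
  rcases mul_eq_zero.1 h2.symm with h5 | h5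
  · rw [h5] at hr
    norm_num at hr
  · exact hi h5

theorem Bm_inj {i j : F × Fˣ} (h : q (Bm i) = q (Bm j)) : i = j := by
  rw [Bm, Bm] at h
  obtain ⟨r, hr, h1, h2, h3, h4⟩ := (q_sl2_eq _ _ _ _ _ _ _ _ _ _).1 h
  have hr1 : r = 1 := by linear_combination h1 + h4
  rw [hr1, one_mul] at h1 h2
  exact Prod.ext h1.symm (Units.ext h2.symm)

/-- cube roots in characteristic 17 -/
theorem exists_cube_root (h17 : (17 : F) = 0) (i : F × Fˣ) :
    ∃ C : Matrix.SpecialLinearGroup (Fin 2) F, C ^ 3 = Bm i := by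
  obtain ⟨a, ha⟩ : ∃ a, a = i.1 := ⟨_, rfl⟩
  obtain ⟨b, hb⟩ : ∃ b, b = (i.2 : F) := ⟨_, rfl⟩
  obtain ⟨c, hc⟩ : ∃ c, c = (-i.1 ^ 2 - i.1 - 1) * (i.2 : F)⁻¹ := ⟨_, rfl⟩
  have hbc : b * c = -a ^ 2 - a - 1 := by
    have := i.2.ne_zero
    rw [hb, hc, ha]
    field_simp
  have hdet : (8 * a + 2) * (8 * (-1 - a) + 2) - (8 * b) * (8 * c) = 1 := by
    linear_combination (-64) * hbc + 3 * h17
  have hdet2 : (2 * a + 8) * (2 * (-1 - a) + 8) - (2 * b) * (2 * c) = 1 := by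
    linear_combination (-4) * hbc + 3 * h17
  refine ⟨sl2 (8 * a + 2) (8 * b) (8 * c) (8 * (-1 - a) + 2) hdet, ?_⟩
  have h2 : sl2 (8 * a + 2) (8 * b) (8 * c) (8 * (-1 - a) + 2) hdet *
      sl2 (8 * a + 2) (8 * b) (8 * c) (8 * (-1 - a) + 2) hdet =
      sl2 (2 * a + 8) (2 * b) (2 * c) (2 * (-1 - a) + 8) hdet2 := by
    rw [sl2_mul]
    apply Subtype.ext
    rw [sl2_val, sl2_val]
    ext x y
    fin_cases x <;> fin_cases y <;> simp
    · linear_combination 64 * hbc - (2 * a + 4) * h17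
    · linear_combination (-2 * b) * h17
    · linear_combination (-2 * c) * h17
    · linear_combination 64 * hbc + (2 * a - 2) * h17
  rw [pow_succ, sq, h2, sl2_mul, Bm]
  apply Subtype.ext
  rw [sl2_val, sl2_val, ← ha, ← hb]
  have hc' : (-a ^ 2 - a - 1) * b⁻¹ = c := by rw [hc, ha, hb]
  rw [hc']
  ext x y
  fin_cases x <;> fin_cases y <;> simp
  · linear_combination 16 * hbc + (3 * a) * h17
  · linear_combination (3 * b) * h17
  · linear_combination (3 * c) * h17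
  · linear_combination 16 * hbc - (3 * a + 3) * h17

end mats

section core

variable {E : Type u} [DivisionRing E] [Algebra ℚ E] [Module.Finite ℚ E]
variable {V : Type w} [AddCommGroup V] [Module E V] [Module ℚ V] [IsScalarTower ℚ E V] [Module.Finite E V]
variable {H : Type v} [Group H] [Fintype H] (ρ : H →* Module.End E V)

omit [Module.Finite ℚ E] [Module.Finite E V] in
theorem count_le {J : Type*} [Fintype J] (θ : J → H) (hθ : Function.Injective θ) :
    ∑ j : J, psi ρ (θ j) ^ 2 ≤ ∑ h : H, psi ρ h ^ 2 := by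
  classical
  rw [← Finset.sum_image (s := Finset.univ) (g := θ) (f := fun h => psi ρ h ^ 2)
    (fun x _ y _ hxy => hθ hxy)]
  exact Finset.sum_le_sum_of_subset_of_nonneg (Finset.subset_univ _) fun _ _ _ => sq_nonneg _

variable {Q : ℕ} [hQ : Fact Q.Prime] {f : H →* Matrix.ProjectiveSpecialLinearGroup (Fin 2) (ZMod Q)}

omit [Module.Finite ℚ E] [Module.Finite E V] in
theorem exists_threes (hf : Function.Surjective f) (hk : IsPGroup 2 f.ker) :
    ∃ x : (ZMod Q × (ZMod Q)ˣ) → H, (∀ i, f (x i) = q (Bm i)) ∧ ∀ i, x i ^ 3 = 1 := by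
  choose x hx using fun i : ZMod Q × (ZMod Q)ˣ => exists_lift_pow hf hk (n := 3) (by decide)
    (s := q (Bm i)) (by rw [← map_pow, Bm_cube, map_one])
  exact ⟨x, fun i => (hx i).1, fun i => (hx i).2⟩

theorem upper_three (hρ : Function.Injective ρ) (hf : Function.Surjective f) (hk : IsPGroup 2 f.ker)
    (hV : finrank E V = 1 ∨ finrank E V = 2) {z : H} (hz : ∀ v, ρ z v = -v) (hzz : z * z = 1) (hz1 : z ≠ 1)
    (hfz : f z = 1) :
    2 * ((Q * (Q - 1) : ℕ) : ℚ) * (finrank ℚ E : ℚ) ^ 2 ≤ 4 * ∑ h : H, psi ρ h ^ 2 := by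
  classical
  obtain ⟨x, hx, hx3⟩ := exists_threes hf hk
  let θ : (ZMod Q × (ZMod Q)ˣ) × Bool → H := fun j => if j.2 then z * x j.1 else x j.1
  have hfθ : ∀ j, f (θ j) = q (Bm j.1) := by
    rintro ⟨i, ε⟩
    cases ε
    · exact hx i
    · change f (z * x i) = _
      rw [map_mul, hfz, one_mul, hx]
  have hz3 : ∀ i j, z * x i ≠ x j := by
    intro i j hij
    have h1 : f (z * x i) = f (x j) := by rw [hij]
    rw [map_mul, hfz, one_mul, hx, hx] at h1
    have h2 := Bm_inj h1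
    rw [h2] at hij
    apply hz1
    exact mul_eq_right.1 hij
  have hθ : Function.Injective θ := by
    rintro ⟨i, ε⟩ ⟨j, δ⟩ h
    have h1 : i = j := by
      have := congrArg f h
      rw [hfθ, hfθ] at this
      exact Bm_inj this
    subst h1
    cases ε <;> cases δ
    · rfl
    · exact absurd h.symm (hz3 i i)
    · exact absurd h (hz3 i i)
    · rfl
  have h1 := count_le ρ θ hθ
  have h2 : ∀ j, (finrank ℚ E : ℚ) ^ 2 ≤ 4 * psi ρ (θ j) ^ 2 := by
    rintro ⟨i, ε⟩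
    have hx1 : Fx ρ (x i) ≠ ⊤ := by
      intro h0
      have : x i = 1 := by
        apply hρ
        rw [map_one]
        apply LinearMap.ext
        intro v
        exact (mem_Fx ρ).1 (h0 ▸ Submodule.mem_top)
      have h3 := hx i
      rw [this, map_one] at h3
      exact Bm_ne i h3.symm
    have h3 := psi_three ρ (hx3 i) hx1 hV
    cases ε
    · exact h3
    · change _ ≤ 4 * psi ρ (z * x i) ^ 2
      rw [psi_neg ρ hz, neg_sq]
      exact h3
  have h3 : ∑ _j : (ZMod Q × (ZMod Q)ˣ) × Bool, (finrank ℚ E : ℚ) ^ 2 ≤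
      ∑ j : (ZMod Q × (ZMod Q)ˣ) × Bool, 4 * psi ρ (θ j) ^ 2 := Finset.sum_le_sum fun j _ => h2 j
  rw [Finset.sum_const, Finset.card_univ, Fintype.card_prod, Fintype.card_prod, ZMod.card,
    ZMod.card_units, Fintype.card_bool, ← Finset.mul_sum, nsmul_eq_mul] at h3
  calc 2 * ((Q * (Q - 1) : ℕ) : ℚ) * (finrank ℚ E : ℚ) ^ 2 =
      ((Q * (Q - 1) * 2 : ℕ) : ℚ) * (finrank ℚ E : ℚ) ^ 2 := by push_cast; ring
    _ ≤ _ := h3
    _ ≤ _ := by linarith

theorem upper_nine (h17 : Q = 17) (hρ : Function.Injective ρ) (hf : Function.Surjective f)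
    (hk : IsPGroup 2 f.ker)
    (hV : finrank E V = 2) {z : H} (hz : ∀ v, ρ z v = -v) (hzz : z * z = 1) (hz1 : z ≠ 1)
    (hfz : f z = 1) :
    544 * (finrank ℚ E : ℚ) ^ 2 ≤ ∑ h : H, psi ρ h ^ 2 := by
  classical
  have h17' : (17 : ZMod Q) = 0 := by
    have h : ((17 : ℕ) : ZMod Q) = 0 := (ZMod.natCast_eq_zero_iff 17 Q).2 ⟨1, by omega⟩
    exact_mod_cast h
  have hzc : ∀ g : H, g * z = z * g := by
    intro g
    apply hρ
    apply LinearMap.ext
    intro v
    rw [rho_mul, rho_mul, hz, hz, map_neg]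
  choose C hC using fun i : ZMod Q × (ZMod Q)ˣ => exists_cube_root h17' i
  choose g hg using fun i : ZMod Q × (ZMod Q)ˣ => exists_lift_pow hf hk (n := 9) (by decide)
    (s := q (C i)) (by rw [← map_pow, show 9 = 3 * 3 by norm_num, pow_mul, hC, Bm_cube, map_one])
  have hg9 : ∀ i, g i ^ 9 = 1 := fun i => (hg i).2
  have hf3 : ∀ i, f (g i ^ 3) = q (Bm i) := fun i => by rw [map_pow, (hg i).1, ← map_pow, hC]
  have hg3 : ∀ i, g i ^ 3 ≠ 1 := by
    intro i h0
    have := hf3 i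
    rw [h0, map_one] at this
    exact Bm_ne i this.symm
  have hg6 : ∀ i, g i ^ 6 ≠ 1 := by
    intro i h0
    apply hg3 i
    have : g i ^ 3 = g i ^ 9 * (g i ^ 6)⁻¹ := by group
    rw [this, hg9, h0, inv_one, mul_one]
  have hinj3 : ∀ i j, g i ^ 3 = g j ^ 3 → i = j := by
    intro i j hij
    apply Bm_inj
    rw [← hf3, ← hf3, hij]
  let ex : Fin 4 → ℕ := ![3, 1, 4, 7]
  let θ : ((ZMod Q × (ZMod Q)ˣ) × Fin 4) × Bool → H := fun j =>
    if j.2 then z * g j.1.1 ^ ex j.1.2 else g j.1.1 ^ ex j.1.2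
  -- the odd part
  have h10 : ∀ j, θ j ^ 10 = g j.1.1 ^ ex j.1.2 := by
    rintro ⟨⟨i, e⟩, ε⟩
    have hodd : (g i ^ ex e) ^ 10 = g i ^ ex e := by
      have : (g i ^ ex e) ^ 10 = (g i ^ 9) ^ ex e * g i ^ ex e := by
        rw [← pow_mul, ← pow_mul, ← pow_add]
        congr 1
        ring
      rw [this, hg9, one_pow, one_mul]
    cases ε
    · exact hodd
    · change (z * g i ^ ex e) ^ 10 = g i ^ ex e
      have hcm : Commute z (g i ^ ex e) := (hzc _).symm
      rw [hcm.mul_pow, hodd, show 10 = 2 * 5 by norm_num, pow_mul, sq, hzz, one_pow, one_mul]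
  have hpow : ∀ i j : ZMod Q × (ZMod Q)ˣ, ∀ d e : Fin 4, g i ^ ex d = g j ^ ex e → i = j ∧ d = e := by
    intro i j d e h
    have hcube : ∀ i : ZMod Q × (ZMod Q)ˣ, ∀ e : Fin 4, e ≠ 0 → (g i ^ ex e) ^ 3 = g i ^ 3 := by
      intro i e he
      have h12 : g i ^ 12 = g i ^ 3 := by
        rw [show 12 = 9 + 3 by norm_num, pow_add, hg9, one_mul]
      have h21 : g i ^ 21 = g i ^ 3 := by
        rw [show 21 = 9 + (9 + 3) by norm_num, pow_add, pow_add, hg9, one_mul, one_mul]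
      fin_cases e
      · exact absurd rfl he
      · change (g i ^ 1) ^ 3 = _
        rw [pow_one]
      · change (g i ^ 4) ^ 3 = _
        rw [← pow_mul]; exact h12
      · change (g i ^ 7) ^ 3 = _
        rw [← pow_mul]; exact h21
    have hcube0 : ∀ i : ZMod Q × (ZMod Q)ˣ, (g i ^ ex 0) ^ 3 = 1 := by
      intro i
      change (g i ^ 3) ^ 3 = 1
      rw [← pow_mul]; exact hg9 i
    by_cases hd : d = 0
    · by_cases he : e = 0
      · subst hd; subst he
        exact ⟨hinj3 _ _ h, rfl⟩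
      · exfalso
        have h1 := congrArg (· ^ 3) h
        rw [hd, hcube0, hcube j e he] at h1
        exact hg3 j h1.symm
    · by_cases he : e = 0
      · exfalso
        have h1 := congrArg (· ^ 3) h
        rw [he, hcube0, hcube i d hd] at h1
        exact hg3 i h1
      · have h1 := congrArg (· ^ 3) h
        rw [hcube i d hd, hcube j e he] at h1
        have h2 := hinj3 _ _ h1
        subst h2
        refine ⟨rfl, ?_⟩
        have key : ∀ m n : ℕ, g i ^ (m + n) = g i ^ m → g i ^ n = 1 := by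
          intro m n hmn
          rw [pow_add] at hmn
          exact mul_eq_left.1 hmn
        fin_cases d <;> fin_cases e <;> first
          | rfl
          | exact absurd rfl hd
          | exact absurd rfl he
          | exact absurd (key 1 3 h.symm) (hg3 i)
          | exact absurd (key 1 3 h) (hg3 i)
          | exact absurd (key 1 6 h.symm) (hg6 i)
          | exact absurd (key 1 6 h) (hg6 i)
          | exact absurd (key 4 3 h.symm) (hg3 i)
          | exact absurd (key 4 3 h) (hg3 i)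
  have hθ : Function.Injective θ := by
    rintro ⟨⟨i, d⟩, ε⟩ ⟨⟨j, e⟩, δ⟩ h
    have h1 := h10 ⟨⟨i, d⟩, ε⟩
    rw [h, h10] at h1
    obtain ⟨rfl, rfl⟩ := hpow _ _ _ _ h1
    cases ε <;> cases δ
    · rfl
    · exact absurd (mul_eq_right.1 (show z * g j ^ ex e = g j ^ ex e from h.symm)) hz1
    · exact absurd (mul_eq_right.1 (show z * g j ^ ex e = g j ^ ex e from h)) hz1
    · rfl
  have h1 := count_le ρ θ hθ
  rw [Fintype.sum_prod_type, Fintype.sum_prod_type] at h1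
  have h2 : ∀ i : ZMod Q × (ZMod Q)ˣ, 2 * (finrank ℚ E : ℚ) ^ 2 ≤
      ∑ e : Fin 4, ∑ ε : Bool, psi ρ (θ ((i, e), ε)) ^ 2 := by
    intro i
    have hx1 : Fx ρ (g i ^ 3) ≠ ⊤ := by
      intro h0
      apply hg3 i
      apply hρ
      rw [map_one]
      apply LinearMap.ext
      intro v
      exact (mem_Fx ρ).1 (h0 ▸ Submodule.mem_top)
    have h3 := psi_nine ρ (hg9 i) hx1 hV
    have h4 : ∀ e : Fin 4, ∑ ε : Bool, psi ρ (θ ((i, e), ε)) ^ 2 = 2 * psi ρ (g i ^ ex e) ^ 2 := by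
      intro e
      rw [Fintype.sum_bool]
      change psi ρ (z * g i ^ ex e) ^ 2 + psi ρ (g i ^ ex e) ^ 2 = _
      rw [psi_neg ρ hz, neg_sq]; ring
    rw [Finset.sum_congr rfl fun e _ => h4 e, Fin.sum_univ_four]
    change _ ≤ 2 * psi ρ (g i ^ 3) ^ 2 + 2 * psi ρ (g i ^ 1) ^ 2 + 2 * psi ρ (g i ^ 4) ^ 2 + 2 * psi ρ (g i ^ 7) ^ 2
    rw [pow_one]
    linarith
  have h3 := Finset.sum_le_sum fun (i : ZMod Q × (ZMod Q)ˣ) (_ : i ∈ Finset.univ) => h2 i
  have hcard : ((Q * (Q - 1) : ℕ) : ℚ) = 272 := by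
    have : Q * (Q - 1) = 272 := by rw [h17]
    rw [this]; norm_num
  rw [Finset.sum_const, Finset.card_univ, Fintype.card_prod, ZMod.card, ZMod.card_units, nsmul_eq_mul,
    hcard] at h3
  refine le_trans (le_of_eq ?_) (h3.trans h1)
  ring

end core

end Cfsg.Agent.H323.DivLin
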