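import Cfsg.Agent.H323.DivFermat

/-!
# H323.DivFinal: the classification of the simple quotients
-/

set_option autoImplicit false

namespace Cfsg.Agent.H323.DivLin

open Module Cfsg.Agent.H323.PiHom
open scoped commutatorElement

universe u v w

section core

variable {E : Type u} [DivisionRing E] [Algebra ℚ E] [Module.Finite ℚ E]
variable {V : Type w} [AddCommGroup V] [Module E V] [Module ℚ V] [IsScalarTower ℚ E V] [Module.Finite E V]
variable {H : Type v} [Group H] [Fintype H] (ρ : H →* Module.End E V)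
variable {Q : ℕ} [hQ : Fact Q.Prime] {f : H →* Matrix.ProjectiveSpecialLinearGroup (Fin 2) (ZMod Q)}

theorem lower_psl (hρ : Function.Injective ρ) (hf : Function.Surjective f) (hk : IsPGroup 2 f.ker)
    (hcen : f.ker ≤ Subgroup.center H) (hQ2 : Q ≠ 2) {a : ℕ} {z₀ : H} (hz₀ : z₀ ∈ f.ker)
    (hzm : z₀ ^ 2 ^ (a + 1) = 1) (hz : ∀ v, ρ (z₀ ^ 2 ^ a) v = -v) :
    (Q - 1) / 2 * ((Q - 1) * 2 ^ a) ≤ finrank E V * (finrank E V * finrank ℚ E) := by
  classical
  have hodd : Odd Q := hQ.out.odd_of_ne_two hQ2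
  obtain ⟨u, hu⟩ := IsCyclic.exists_generator (α := (ZMod Q)ˣ)
  have huo : orderOf u = Q - 1 := by
    rw [orderOf_eq_card_of_forall_mem_zpowers hu, Nat.card_eq_fintype_card, ZMod.card_units]
  have hu0 : (u : ZMod Q) ≠ 0 := u.ne_zero
  -- the element of order `Q`
  obtain ⟨y, hy, hyQ⟩ := exists_lift_pow hf hk (s := uni (ZMod Q) (Multiplicative.ofAdd 1)) hodd (by
    rw [← map_pow, ← ofAdd_nsmul, nsmul_one, ZMod.natCast_self, ofAdd_zero, map_one])
  obtain ⟨x, hx⟩ := hf (q (sl2 (u : ZMod Q) 0 0 (u : ZMod Q)⁻¹ (by field_simp; ring)))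
  obtain ⟨c, hc⟩ : ∃ c : ℕ, (c : ZMod Q) = u * u := ⟨_, ZMod.natCast_zmod_val _⟩
  have hxy : x * y * x⁻¹ = y ^ c := by
    apply lift_unique hk hcen hodd
    · rw [conj_pow, hyQ, mul_one, mul_inv_cancel]
    · rw [← pow_mul, mul_comm, pow_mul, hyQ, one_pow]
    · rw [map_mul, map_mul, map_inv, hx, hy, tor_conj hu0, map_pow, hy, ← map_pow, ← ofAdd_nsmul,
        nsmul_one, hc, mul_one]
  have hy1 : Fx ρ y ≠ ⊤ := by
    intro h0
    have h1 : y = 1 := by
      apply hρ
      rw [map_one]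
      apply LinearMap.ext
      intro v
      exact (mem_Fx ρ).1 (h0 ▸ Submodule.mem_top)
    rw [h1, map_one] at hy
    have h2 : uni (ZMod Q) (Multiplicative.ofAdd 0) = uni (ZMod Q) (Multiplicative.ofAdd 1) := by
      rw [← hy, ofAdd_zero, map_one]
    exact zero_ne_one (uni_inj h2)
  refine lower ρ hQ2 hyQ hy1 (fun h => Subgroup.mem_center_iff.1 (hcen hz₀) h) hz hzm hxy ?_
  intro i j hi hj hij
  have h1 : ((c ^ i : ℕ) : ZMod Q) = ((c ^ j : ℕ) : ZMod Q) := (ZMod.natCast_eq_natCast_iff _ _ _).2 hij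
  rw [Nat.cast_pow, Nat.cast_pow, hc] at h1
  have h2 : u ^ (2 * i) = u ^ (2 * j) := by
    apply Units.ext
    rw [Units.val_pow_eq_pow_val, Units.val_pow_eq_pow_val, pow_mul, pow_mul, sq]
    exact h1
  have h3 : 2 * i < orderOf u := by rw [huo]; omega
  have h4 : 2 * j < orderOf u := by rw [huo]; omega
  have h5 := pow_injOn_Iio_orderOf (Set.mem_Iio.2 h3) (Set.mem_Iio.2 h4) h2
  omega

theorem fermat_core (hρ : Function.Injective ρ) (hf : Function.Surjective f) (hk : IsPGroup 2 f.ker)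
    (hcen : f.ker ≤ Subgroup.center H) (hV : finrank E V = 1 ∨ finrank E V = 2)
    (hsum : ∑ h : H, psi ρ h ^ 2 ≤ Nat.card H * finrank ℚ E) (h17 : 17 ≤ Q)
    {a : ℕ} {z₀ : H} (hz₀ : z₀ ∈ f.ker) (hcard : Nat.card f.ker = 2 ^ (a + 1))
    (hzm : z₀ ^ 2 ^ (a + 1) = 1) (hz : ∀ v, ρ (z₀ ^ 2 ^ a) v = -v) (hz1 : z₀ ^ 2 ^ a ≠ 1) : False := by
  have hQ2 : Q ≠ 2 := by omega
  have hodd : Odd Q := hQ.out.odd_of_ne_two hQ2
  obtain ⟨t, ht⟩ := hodd
  have low := lower_psl ρ hρ hf hk hcen hQ2 hz₀ hzm hz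
  have hzz : z₀ ^ 2 ^ a * z₀ ^ 2 ^ a = 1 := by rw [← pow_two, ← pow_mul, ← pow_succ, hzm]
  have hfz : f (z₀ ^ 2 ^ a) = 1 := by rw [map_pow, MonoidHom.mem_ker.1 hz₀, one_pow]
  have hS : 2 * Nat.card (Matrix.ProjectiveSpecialLinearGroup (Fin 2) (ZMod Q)) = Q * (Q ^ 2 - 1) := by
    have := SmallSimple.PSLTwoPart.card_psl_two_odd (F := ZMod Q) (by rw [ZMod.card]; exact ⟨t, ht⟩)
    rwa [ZMod.card] at this
  have hHc : Nat.card H = 2 ^ (a + 1) * Nat.card (Matrix.ProjectiveSpecialLinearGroup (Fin 2) (ZMod Q)) := by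
    have h1 := f.ker.card_mul_index
    rw [Subgroup.index_ker, MonoidHom.range_eq_top.2 hf, Subgroup.card_top, hcard] at h1
    exact h1.symm
  have hH2 : Nat.card H = 2 ^ a * (Q * (Q ^ 2 - 1)) := by
    rw [hHc, ← hS, pow_succ]; ring
  have hQsq : Q ^ 2 - 1 = (Q - 1) * (Q + 1) := by
    rw [ht]
    have : (2 * t + 1) ^ 2 = (2 * t + 1 - 1) * (2 * t + 1 + 1) + 1 := by
      rw [Nat.add_sub_cancel]; ring
    omega
  have hepos : 0 < finrank ℚ E := finrank_pos
  -- upper bound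
  have up := upper_three ρ hρ hf hk hV hz hzz hz1 hfz
  have up' : 2 * (Q * (Q - 1)) * finrank ℚ E ^ 2 ≤ 4 * (Nat.card H * finrank ℚ E) := by
    have h1 : (2 * ((Q * (Q - 1) : ℕ) : ℚ) * (finrank ℚ E : ℚ) ^ 2) ≤ 4 * (Nat.card H * finrank ℚ E) := by
      linarith
    exact_mod_cast h1
  have up2 : finrank ℚ E ≤ 2 * 2 ^ a * (Q + 1) := by
    rw [hH2, hQsq] at up'
    have h1 : (2 * (Q * (Q - 1)) * finrank ℚ E) * finrank ℚ E ≤
        (2 * (Q * (Q - 1)) * finrank ℚ E) * (2 * 2 ^ a * (Q + 1)) := by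
      calc (2 * (Q * (Q - 1)) * finrank ℚ E) * finrank ℚ E = 2 * (Q * (Q - 1)) * finrank ℚ E ^ 2 := by ring
        _ ≤ _ := up'
        _ = _ := by ring
    refine Nat.le_of_mul_le_mul_left h1 ?_
    have : 0 < Q - 1 := by omega
    have : 0 < Q := by omega
    positivity
  have up9 : Q = 17 → finrank E V = 2 → finrank ℚ E ≤ 9 * 2 ^ a := by
    intro hQ17 hV2
    have h1 := upper_nine ρ hQ17 hρ hf hk hV2 hz hzz hz1 hfz
    have h2 : 544 * finrank ℚ E ^ 2 ≤ Nat.card H * finrank ℚ E := by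
      have h3 : 544 * (finrank ℚ E : ℚ) ^ 2 ≤ Nat.card H * finrank ℚ E := by linarith
      exact_mod_cast h3
    have h4 : Nat.card H = 2 ^ a * 4896 := by
      rw [hH2]
      have : Q * (Q ^ 2 - 1) = 4896 := by
        rw [hQ17]; norm_num
      rw [this]
    rw [h4] at h2
    have h5 : (544 * finrank ℚ E) * finrank ℚ E ≤ (544 * finrank ℚ E) * (9 * 2 ^ a) := by
      calc (544 * finrank ℚ E) * finrank ℚ E = 544 * finrank ℚ E ^ 2 := by ring
        _ ≤ _ := h2
        _ = _ := by ring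
    exact Nat.le_of_mul_le_mul_left h5 (by positivity)
  have hA : 0 < 2 ^ a := by positivity
  generalize 2 ^ a = A at *
  generalize finrank ℚ E = e at *
  have ht8 : 8 ≤ t := by omega
  have hQt : (Q - 1) / 2 = t := by omega
  have hQt' : Q - 1 = 2 * t := by omega
  rw [hQt, hQt'] at low
  rcases hV with hV | hV
  · rw [hV] at low
    have h1 : t * (2 * t * A) ≤ 2 * A * (2 * t + 2) := by
      calc t * (2 * t * A) ≤ 1 * (1 * e) := low
        _ = e := by ring
        _ ≤ 2 * A * (Q + 1) := up2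
        _ = _ := by rw [ht]
    have h2 : A * (t * t) ≤ A * (2 * t + 2) := by nlinarith
    have h3 := Nat.le_of_mul_le_mul_left h2 hA
    nlinarith
  · rw [hV] at low
    by_cases h8 : t = 8
    · -- `Q = 17`
      have hQ17 : Q = 17 := by omega
      have h1 := up9 hQ17 hV
      rw [h8] at low
      omega
    · have h1 : t * (2 * t * A) ≤ 8 * A * (2 * t + 2) := by
        calc t * (2 * t * A) ≤ 2 * (2 * e) := low
          _ = 4 * e := by ring
          _ ≤ 4 * (2 * A * (Q + 1)) := Nat.mul_le_mul_left _ up2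
          _ = _ := by rw [ht]; ring
      have h2 : A * (t * t) ≤ A * (8 * t + 8) := by nlinarith
      have h3 := Nat.le_of_mul_le_mul_left h2 hA
      have h9 : 9 ≤ t := by omega
      nlinarith

end core

/-- A central 2-subgroup with a unique involution. -/
theorem exists_gen {H : Type u} [Group H] [Finite H] (hB : LinB H) {M : Subgroup H} (hM : M ≤ Subgroup.center H)
    (hM2 : IsPGroup 2 M) (hne : M ≠ ⊥) : ∃ (a : ℕ) (z₀ : H), z₀ ∈ M ∧ Nat.card M = 2 ^ (a + 1) ∧
      z₀ ^ 2 ^ (a + 1) = 1 ∧ z₀ ^ 2 ^ a ≠ 1 := by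
  classical
  let _ : CommGroup M :=
    { (inferInstance : Group M) with
      mul_comm := fun a b => Subtype.ext (Subgroup.mem_center_iff.1 (hM b.2) a) }
  have hker : Nat.card (powMonoidHom 2 : M →* M).ker ≤ 2 := by
    by_contra hcon
    push Not at hcon
    have := Fintype.ofFinite (powMonoidHom 2 : M →* M).ker
    have h1 : 1 < ((Finset.univ : Finset (powMonoidHom 2 : M →* M).ker).erase 1).card := by
      rw [Finset.card_erase_of_mem (Finset.mem_univ _), Finset.card_univ, ← Nat.card_eq_fintype_card]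
      omega
    obtain ⟨u, hu, v, hv, huv⟩ := Finset.one_lt_card.1 h1
    have hu1 := Finset.ne_of_mem_erase hu
    have hv1 := Finset.ne_of_mem_erase hv
    have key : ∀ u : (powMonoidHom 2 : M →* M).ker, ((u : M) : H) * ((u : M) : H) = 1 := by
      intro u
      have h2 : (u : M) ^ 2 = 1 := (MonoidHom.mem_ker).1 u.2
      rw [pow_two] at h2
      exact congrArg Subtype.val h2
    apply huv
    apply Subtype.ext
    apply Subtype.ext
    apply hB.zinv _ (hM u.1.2) _ (hM v.1.2) (key u) (key v)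
    · exact fun hh => hu1 (Subtype.ext (Subtype.ext hh))
    · exact fun hh => hv1 (Subtype.ext (Subtype.ext hh))
  have : Fact (Nat.Prime 2) := ⟨Nat.prime_two⟩
  have hcyc : IsCyclic M := Transfer.PGroupNormal.isCyclic_of_card_ker_pow_le (p := 2) hM2 hker
  obtain ⟨g, hg⟩ := hcyc.exists_generator
  have hgo : orderOf g = Nat.card M := orderOf_eq_card_of_forall_mem_zpowers hg
  obtain ⟨n, hn⟩ := IsPGroup.iff_card.1 hM2
  have hn0 : n ≠ 0 := by
    rintro rfl
    rw [pow_zero] at hn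
    exact hne (Subgroup.card_eq_one.1 hn)
  obtain ⟨a, rfl⟩ := Nat.exists_eq_succ_of_ne_zero hn0
  have hgo' : orderOf (g : H) = 2 ^ (a + 1) := by
    rw [Subgroup.orderOf_coe, hgo, hn]
  refine ⟨a, g, g.2, hn, ?_, ?_⟩
  · rw [← hgo', pow_orderOf_eq_one]
  · intro h1
    have h2 := orderOf_dvd_of_pow_eq_one h1
    rw [hgo', Nat.pow_dvd_pow_iff_le_right (by norm_num)] at h2
    omega

theorem Min.not_fermat {Q : ℕ} [hQ : Fact Q.Prime]
    [hS : IsSimpleGroup (Matrix.ProjectiveSpecialLinearGroup (Fin 2) (ZMod Q))] {H : Type u} [Group H]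
    {f : H →* Matrix.ProjectiveSpecialLinearGroup (Fin 2) (ZMod Q)} (h : Min _ H f)
    (hna : ∃ a b : Matrix.ProjectiveSpecialLinearGroup (Fin 2) (ZMod Q), a * b ≠ b * a) (h17 : 17 ≤ Q)
    (hcen : f.ker ≤ Subgroup.center H) : False := by
  classical
  have hfin := h.fin
  have := Fintype.ofFinite H
  have hB := h.linB
  have hk := h.isPGroup_ker hna
  obtain ⟨a, z₀, hz₀, hcard, hzm, hz1⟩ := exists_gen hB hcen hk (h.ker_ne_bot hna)
  obtain ⟨E, i1, i2, i3, k, hkk, ρ, hρ, hs⟩ := h.srep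
  have hkk0 : 0 < k := by omega
  have hzz : z₀ ^ 2 ^ a * z₀ ^ 2 ^ a = 1 := by rw [← pow_two, ← pow_mul, ← pow_succ, hzm]
  have hz : ∀ v, ρ (z₀ ^ 2 ^ a) v = -v := by
    refine (central_sign hs (Subgroup.pow_mem _ (hcen hz₀) _) hzz).resolve_left fun h' => hz1 ?_
    apply hρ
    rw [map_one]
    exact LinearMap.ext h'
  have hsum : ∑ h : H, psi ρ h ^ 2 ≤ Nat.card H * finrank ℚ E := by
    let i0 : Fin k := ⟨0, hkk0⟩
    refine sum_sq_le ρ (φ := LinearMap.proj i0) (e0 := Pi.single i0 1) ?_ ?_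
    · rw [LinearMap.proj_apply, Pi.single_eq_same]
    · intro T hT A
      have hA : A ∈ Submodule.span ℚ (Set.range ρ) := by rw [hs]; exact Submodule.mem_top
      induction hA using Submodule.span_induction with
      | mem x hx =>
        obtain ⟨g, rfl⟩ := hx
        exact hT g
      | zero => intro v; rw [LinearMap.zero_apply, LinearMap.zero_apply, map_zero]
      | add a b _ _ ha hb => intro v; rw [LinearMap.add_apply, LinearMap.add_apply, map_add, ha, hb]
      | smul c a _ ha =>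
        intro v
        have h1 : (c • a) v = c • (a v) := rfl
        have h2 : (c • a) (T v) = c • (a (T v)) := rfl
        rw [h1, h2, ← ha]
        exact T.map_smul c (a v)
  exact fermat_core ρ hρ h.surj hk hcen (by rw [Module.finrank_fin_fun]; exact hkk) hsum h17 hz₀ hcard hzm hz hz1

open Cfsg.Agent.LieClassical.SmallIso in
/-- **The simple quotients.** -/
theorem Min.main {S : Type w} [Group S] [IsSimpleGroup S] {H : Type u} [Group H] {f : H →* S}
    (h : Min S H f) (hna : ∃ a b : S, a * b ≠ b * a) :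
    ∃ (F : Type) (_ : Field F) (_ : Fintype F), (Fintype.card F = 5 ∨ Fintype.card F = 9) ∧
        Nonempty (S ≃* Matrix.ProjectiveSpecialLinearGroup (Fin 2) F) := by
  have hfin := h.fin
  have hfinS : Finite S := Finite.of_surjective f h.surj
  by_cases hcen : f.ker ≤ Subgroup.center H
  · obtain ⟨F, _, _, hodd, h5, ⟨e⟩⟩ := h.isL2odd hna hcen
    have h' := h.congr e
    have hsimp : IsSimpleGroup (Matrix.ProjectiveSpecialLinearGroup (Fin 2) F) :=
      (MulEquiv.isSimpleGroup_congr e).1 inferInstance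
    have hna' : ∃ a b : Matrix.ProjectiveSpecialLinearGroup (Fin 2) F, a * b ≠ b * a := by
      obtain ⟨a, b, hab⟩ := hna
      refine ⟨e a, e b, fun hh => hab ?_⟩
      rw [← map_mul, ← map_mul] at hh
      exact e.injective hh
    have hSP : SProp (Matrix.ProjectiveSpecialLinearGroup (Fin 2) F) :=
      sprop h'.linB.toLinA h'.surj (h'.isPGroup_ker hna')
    rcases hSP.psl_cases hodd h5 with h1 | h1 | ⟨hp, h17, n, hn⟩
    · exact ⟨F, inferInstance, inferInstance, Or.inl h1, ⟨e⟩⟩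
    · exact ⟨F, inferInstance, inferInstance, Or.inr h1, ⟨e⟩⟩
    · exfalso
      obtain ⟨Q, hQ⟩ : ∃ Q, Q = Fintype.card F := ⟨_, rfl⟩
      rw [← hQ] at hp h17
      have hpf : Fact Q.Prime := ⟨hp⟩
      let e' : S ≃* Matrix.ProjectiveSpecialLinearGroup (Fin 2) (ZMod Q) :=
        e.trans (pslCongr (Fin 2) (FiniteField.ringEquivOfCardEq (K := F) (K' := ZMod Q)
          (by rw [ZMod.card, hQ])))
      have h'' := h.congr e'
      have hsimp' : IsSimpleGroup (Matrix.ProjectiveSpecialLinearGroup (Fin 2) (ZMod Q)) :=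
        (MulEquiv.isSimpleGroup_congr e').1 inferInstance
      have hna'' : ∃ a b : Matrix.ProjectiveSpecialLinearGroup (Fin 2) (ZMod Q), a * b ≠ b * a := by
        obtain ⟨a, b, hab⟩ := hna
        refine ⟨e' a, e' b, fun hh => hab ?_⟩
        rw [← map_mul, ← map_mul] at hh
        exact e'.injective hh
      refine h''.not_fermat hna'' h17 ?_
      intro x hx
      apply hcen
      rw [MonoidHom.mem_ker] at hx ⊢
      have h2 : e' (f x) = 1 := hx
      exact (map_eq_one_iff e' e'.injective).1 h2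
  · exact psl_of_card_dvd (not_comm_of hna) (h.card_dvd_of_not_central hna hcen)

end Cfsg.Agent.H323.DivLin
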