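import Cfsg.Agent.H323.DivWed

/-!
# H323.DivGrp: group-theoretic properties of finite linear groups of degree two

`LinA` : the properties of finite groups acting faithfully on a space of dimension at most two over a
division ring of characteristic 0; `LinB` : those of a spanning group.
-/

set_option autoImplicit false

namespace Cfsg.Agent.H323.DivLin

open Module
open scoped commutatorElement

universe u v w

/-- Group-theoretic properties of finite groups acting faithfully in dimension at most two. -/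
structure LinA (H : Type u) [Group H] : Prop where
  comm_odd : ∀ (p : ℕ) [Fact p.Prime], p ≠ 2 → ∀ P : Subgroup H, IsPGroup p P →
    ∀ x ∈ P, ∀ y ∈ P, x * y = y * x
  rank : ∀ (p : ℕ) [Fact p.Prime] (E : Subgroup H), (∀ a ∈ E, ∀ b ∈ E, a * b = b * a) →
    (∀ a ∈ E, a ^ p = 1) → Nat.card E ≤ p ^ 2
  frob : ∀ (p s : ℕ) [Fact p.Prime] [Fact s.Prime], s ≠ 2 → ∀ (x y : H) (k : ℕ), y ^ p = 1 → x ^ s = 1 →
    x * y * x⁻¹ = y ^ k → x * y = y * x
  lines : ∀ (p : ℕ) [Fact p.Prime] (E : Subgroup H), (∀ a ∈ E, ∀ b ∈ E, a * b = b * a) →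
    (∀ a ∈ E, a ^ p = 1) → ∀ x : H, NrmE E x → Odd (orderOf x) → E ≠ ⊥ →
    ∃ c ∈ E, c ≠ 1 ∧ x * c * x⁻¹ ∈ Subgroup.zpowers c

theorem linA {D : Type v} [DivisionRing D] [CharZero D] {V : Type w} [AddCommGroup V]
    [Module D V] [Module.Finite D V] (hV : finrank D V ≤ 2) {H : Type u} [Group H] [Finite H]
    (ρ : H →* Module.End D V) (hρ : Function.Injective ρ) : LinA H where
  comm_odd := by
    intro p _ hp2 P hP x hx y hy
    have h := comm_of_odd (p := p) (ρ.comp P.subtype) hp2 hP hV (fun a b hab => by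
      apply Subtype.ext
      exact hρ hab) ⟨x, hx⟩ ⟨y, hy⟩
    exact congrArg Subtype.val h
  rank := fun p _ E hc hp => card_le_sq ρ hV hρ hc hp
  frob := by
    intro p s _ _ hs x y k hy hx hk
    exact commute_of_prime (p := p) (s := s) ρ hV hρ hs hy hx hk
  lines := by
    intro p _ E hc hp x hx ho hE
    obtain ⟨b, hb, hb1⟩ : ∃ b ∈ E, b ≠ 1 := by
      by_contra hcon
      push Not at hcon
      exact hE ((Subgroup.eq_bot_iff_forall E).2 hcon)
    by_cases ha : ∃ a ∈ E, a ∉ Subgroup.zpowers b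
    · obtain ⟨a, ha, hab⟩ := ha
      obtain ⟨c₁, c₂, V₁, V₂, T⟩ := exists_twoLines (p := p) ρ hV hρ hc hp ha hb hb1 hab
      refine ⟨c₁, T.mem₁, T.ne₁, ?_⟩
      obtain ⟨h1, h2, h3, h4⟩ := T.mem_pres_of_odd hx ho
      apply T.ker₁ _ (hx.1 _ T.mem₁)
      intro v hv
      rw [rho_mul, rho_mul]
      have h5 : ρ c₁ (ρ x⁻¹ v) = ρ x⁻¹ v := (mem_Fx ρ).1 (T.fx₁ ▸ h2 v hv)
      rw [h5, rho_apply_inv]
    · push Not at ha
      exact ⟨b, hb, hb1, ha _ (hx.1 _ hb)⟩

/-- The additional properties of spanning groups. -/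
structure LinB (H : Type u) [Group H] : Prop extends LinA H where
  zinv : ∀ z ∈ Subgroup.center H, ∀ z' ∈ Subgroup.center H, z * z = 1 → z' * z' = 1 → z ≠ 1 →
    z' ≠ 1 → z = z'
  inv : ∀ t s : H, t * t = 1 → s * s = 1 → t * s = s * t → t ∉ Subgroup.center H →
    s ∈ Subgroup.center H ∨ s * t ∈ Subgroup.center H
  cen_odd : commutator H = ⊤ → ∀ (p : ℕ) [Fact p.Prime], p ≠ 2 → ∀ R : Subgroup H, R.Normal →
    IsPGroup p R → R ≤ Subgroup.center H

/-- In a perfect group cyclic normal subgroups are central. -/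
theorem cyclic_le_center {H : Type u} [Group H] (hH : commutator H = ⊤) (C : Subgroup H)
    (hC : C.Normal) (hcyc : IsCyclic C) : C ≤ Subgroup.center H := by
  have hcom : ∀ a b : MulAut C, a * b = b * a := by
    intro a b
    apply (hcyc.mulAutMulEquiv C).injective
    rw [map_mul, map_mul, mul_comm]
  have hker : (MulAut.conjNormal (H := C)).ker = ⊤ := by
    rw [eq_top_iff, ← hH, commutator_eq_closure, Subgroup.closure_le]
    rintro _ ⟨a, b, rfl⟩
    change MulAut.conjNormal ⁅a, b⁆ = 1
    rw [map_commutatorElement, commutatorElement_eq_one_iff_mul_comm]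
    exact hcom _ _
  intro c hc
  rw [Subgroup.mem_center_iff]
  intro g
  have h1 : MulAut.conjNormal (H := C) g = 1 := by
    have : g ∈ (MulAut.conjNormal (H := C)).ker := by rw [hker]; exact Subgroup.mem_top g
    exact this
  have h2 : g * c * g⁻¹ = c := by
    have := congrArg (fun φ : MulAut C => ((φ ⟨c, hc⟩ : C) : H)) h1
    simpa [MulAut.conjNormal_apply] using this
  exact mul_inv_eq_iff_eq_mul.1 h2

section spanning

variable {E : Type u} [DivisionRing E] [Algebra ℚ E] {k : ℕ} {H : Type u} [Group H]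
variable {ρ : H →* Module.End E (Fin k → E)}

theorem central_comm (hs : Submodule.span ℚ (Set.range ρ) = ⊤) {z : H} (hz : z ∈ Subgroup.center H)
    (T : Module.End E (Fin k → E)) : ρ z * T = T * ρ z := by
  have hT : T ∈ Submodule.span ℚ (Set.range ρ) := by rw [hs]; exact Submodule.mem_top
  induction hT using Submodule.span_induction with
  | mem x hx =>
    obtain ⟨g, rfl⟩ := hx
    rw [← map_mul, ← map_mul, (Subgroup.mem_center_iff.1 hz g)]
  | zero => rw [mul_zero, zero_mul]
  | add a b _ _ ha hb => rw [mul_add, add_mul, ha, hb]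
  | smul q a _ ha => rw [mul_smul_comm, smul_mul_assoc, ha]

theorem central_sign (hs : Submodule.span ℚ (Set.range ρ) = ⊤) {z : H} (hz : z ∈ Subgroup.center H)
    (hz2 : z * z = 1) : (∀ v, ρ z v = v) ∨ (∀ v, ρ z v = -v) := by
  by_cases h : ∀ v, ρ z v = v
  · exact Or.inl h
  · right
    push Not at h
    obtain ⟨v, hv⟩ := h
    have hu0 : ρ z v - v ≠ 0 := sub_ne_zero.2 hv
    have hu : ρ z (ρ z v - v) = -(ρ z v - v) := by
      rw [map_sub, ← rho_mul, hz2, rho_one, neg_sub]
    intro w
    obtain ⟨T, -, hT⟩ := LinearMap.exists_extend_of_notMem (p := (⊥ : Submodule E (Fin k → E))) 0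
      (v := ρ z v - v) (fun h => hu0 ((Submodule.mem_bot E).1 h)) w
    rw [← hT, ← Module.End.mul_apply, central_comm hs hz, Module.End.mul_apply, hu, map_neg]

theorem linB_of (hk : k = 1 ∨ k = 2) [Finite H] [Module.Finite ℚ E] (hρ : Function.Injective ρ)
    (hs : Submodule.span ℚ (Set.range ρ) = ⊤) : LinB H := by
  have hch : CharZero E := algebraRat.charZero E
  have hfr : finrank E (Fin k → E) ≤ 2 := by
    rw [Module.finrank_fin_fun]
    rcases hk with rfl | rfl <;> norm_num
  have hA : LinA H := linA hfr ρ hρ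
  refine { hA with zinv := ?_, inv := ?_, cen_odd := ?_ }
  · intro z hz z' hz' h1 h1' hne hne'
    have e : ∀ y ∈ Subgroup.center H, y * y = 1 → y ≠ 1 → ∀ v, ρ y v = -v := fun y hy h hy1 =>
      (central_sign hs hy h).resolve_left fun h' => hy1 (eq_one_of_forall ρ hρ h')
    exact hρ (LinearMap.ext fun v => by rw [e z hz h1 hne, e z' hz' h1' hne'])
  · intro t s ht hs' hts htc
    have hneg : ∀ y : H, (∀ v, ρ y v = -v) → y ∈ Subgroup.center H := by
      intro y hy
      rw [Subgroup.mem_center_iff]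
      intro g
      apply hρ
      apply LinearMap.ext
      intro v
      rw [rho_mul, rho_mul, hy, hy, map_neg]
    have ht1 : ¬ ∀ v, ρ t v = v := fun h => htc (by
      rw [eq_one_of_forall ρ hρ h]; exact Subgroup.one_mem _)
    have ht2 : ¬ ∀ v, ρ t v = -v := fun h => htc (hneg t h)
    rcases involution_cases ρ hfr ht hs' hts ht1 ht2 with h | h | h | h
    · left
      rw [eq_one_of_forall ρ hρ h]; exact Subgroup.one_mem _
    · exact Or.inl (hneg s h)
    · right
      have : s = t := hρ (LinearMap.ext h)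
      rw [this, ht]
      exact Subgroup.one_mem _
    · right
      apply hneg
      intro v
      rw [rho_mul, h, ← rho_mul, ht, rho_one]
  · intro hperf p hp hp2 R hRn hRp
    have hcomR : ∀ x ∈ R, ∀ y ∈ R, x * y = y * x := hA.comm_odd p hp2 R hRp
    by_cases hcyc : IsCyclic R
    · exact cyclic_le_center hperf R hRn hcyc
    -- the elements of order dividing `p`
    let Om : Subgroup H :=
      { carrier := {r | r ∈ R ∧ r ^ p = 1}
        mul_mem' := by
          rintro a b ⟨ha, ha'⟩ ⟨hb, hb'⟩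
          refine ⟨R.mul_mem ha hb, ?_⟩
          have : Commute a b := hcomR a ha b hb
          rw [this.mul_pow, ha', hb', one_mul]
        one_mem' := ⟨R.one_mem, one_pow p⟩
        inv_mem' := by
          rintro a ⟨ha, ha'⟩
          exact ⟨R.inv_mem ha, by rw [inv_pow, ha', inv_one]⟩ }
    have hOmN : Om.Normal := ⟨by
      rintro n ⟨hn, hn'⟩ g
      exact ⟨hRn.conj_mem n hn g, by rw [conj_pow, hn', mul_one, mul_inv_cancel]⟩⟩
    obtain ⟨A, -, ⟨hAc, hAp⟩, hA2⟩ := Cfsg.Agent.S0126.result hp2 hRp hcyc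
    have hp1 := hp.out.one_lt
    have hAne : A ≠ ⊥ := by
      rintro rfl
      rw [Subgroup.card_bot] at hA2
      nlinarith
    obtain ⟨b, hb, hb1⟩ : ∃ b ∈ A, b ≠ 1 := by
      by_contra hcon
      push Not at hcon
      exact hAne ((Subgroup.eq_bot_iff_forall A).2 hcon)
    obtain ⟨a, ha, hab⟩ : ∃ a ∈ A, a ∉ Subgroup.zpowers b := by
      by_contra hcon
      push Not at hcon
      have h3 := Subgroup.card_le_of_le (show A ≤ Subgroup.zpowers b from hcon)
      rw [hA2, Nat.card_zpowers, orderOf_eq_prime (hAp b hb) hb1] at h3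
      nlinarith
    have hbO : (b : H) ∈ Om := ⟨b.2, by rw [← Subgroup.coe_pow, hAp b hb]; rfl⟩
    have haO : (a : H) ∈ Om := ⟨a.2, by rw [← Subgroup.coe_pow, hAp a ha]; rfl⟩
    have hb1' : (b : H) ≠ 1 := fun h => hb1 (Subtype.ext h)
    have hab' : (a : H) ∉ Subgroup.zpowers (b : H) := by
      intro h
      apply hab
      obtain ⟨m, hm⟩ := Subgroup.mem_zpowers_iff.1 h
      exact Subgroup.mem_zpowers_iff.2 ⟨m, Subtype.ext (by rw [Subgroup.coe_zpow]; exact hm)⟩
    obtain ⟨c₁, c₂, V₁, V₂, T⟩ := exists_twoLines (p := p) (E := Om) ρ hfr hρ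
      (fun x hx y hy => hcomR x hx.1 y hy.1) (fun x hx => hx.2) haO hbO hb1' hab'
    have hpres : Pres ρ V₁ V₂ = ⊤ := by
      rw [eq_top_iff, ← hperf, commutator_eq_closure, Subgroup.closure_le]
      rintro _ ⟨x, y, rfl⟩
      exact T.commutator_mem_pres hOmN x y
    have hP : ∀ x : H, x ∈ Pres ρ V₁ V₂ := fun x => by rw [hpres]; exact Subgroup.mem_top x
    have key : ∀ W : Submodule E (Fin k → E), finrank E W = 1 → (∀ g : H, ∀ v ∈ W, ρ g v ∈ W) →
        ∀ r ∈ R, ∀ h : H, ∀ v ∈ W, ρ ⁅h, r⁆ v = v := by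
      intro W hW1 hW r hr h
      have hn := kerS_normal ρ W hW
      let q := QuotientGroup.mk' (kerS ρ W)
      have hq : Function.Surjective q := QuotientGroup.mk'_surjective _
      have hperf' : commutator (H ⧸ kerS ρ W) = ⊤ := by
        have h1 := Subgroup.map_commutator (⊤ : Subgroup H) ⊤ q
        rw [Subgroup.map_top_of_surjective q hq] at h1
        rw [commutator_def, ← h1, ← commutator_def, hperf, Subgroup.map_top_of_surjective q hq]
      have hRq : (R.map q).Normal := Subgroup.Normal.map hRn q hq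
      have hcycq : IsCyclic (R.map q) := by
        refine isCyclic_of_line (p := p) (V := W) ((quoW ρ W hW).comp (R.map q).subtype) hp2
          (hRp.map q) hW1 ?_
        intro x y hxy
        exact Subtype.ext (quoW_injective ρ W hW hxy)
      have hz := cyclic_le_center hperf' _ hRq hcycq (Subgroup.mem_map_of_mem q hr)
      have h2 : q ⁅h, r⁆ = 1 := by
        rw [map_commutatorElement, commutatorElement_eq_one_iff_mul_comm]
        exact Subgroup.mem_center_iff.1 hz _
      exact (QuotientGroup.eq_one_iff _).1 h2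
    intro r hr
    rw [Subgroup.mem_center_iff]
    intro h
    have h1 : ⁅h, r⁆ = 1 := fix_all_of_compl ρ hρ T.compl (key V₁ T.rank₁ (fun g => (hP g).1) r hr h)
      (key V₂ T.rank₂ (fun g => (hP g).2.2.1) r hr h)
    exact commutatorElement_eq_one_iff_mul_comm.1 h1

end spanning

theorem HasSRep.linB {H : Type u} [Group H] [Finite H] (h : HasSRep H) : LinB H := by
  obtain ⟨E, i1, i2, i3, k, hk, ρ, hρ, hs⟩ := h
  exact linB_of hk hρ hs

end Cfsg.Agent.H323.DivLin
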