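import Cfsg.Agent.H323.DivCenB
import Cfsg.Agent.S0204
import Cfsg.Agent.GH.FinalMain
import Cfsg.Agent.GH.FinalStmts
import Cfsg.Agent.GH.BranchC2
import Cfsg.Agent.GH.Cov.Cut
import Cfsg.Agent.LFour.ExtAll

/-!
# H323.DivList: a central kernel

The kernel is not trivial, and `S` is on the list `Surv`.
-/

set_option autoImplicit false

namespace Cfsg.Agent.H323.DivLin

open Module
open scoped commutatorElement

universe u v w

theorem not_comm_of {S : Type w} [Group S] (hna : ∃ a b : S, a * b ≠ b * a) : ¬ IsMulCommutative S := by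
  intro h
  obtain ⟨a, b, hab⟩ := hna
  exact hab (h.is_comm.comm a b)

/-- The double cover. -/
theorem exists_double {S : Type w} [Group S] {H : Type u} [Group H] [Finite H] {f : H →* S}
    (hf : Function.Surjective f) (hH : commutator H = ⊤) (hk : IsPGroup 2 f.ker)
    (hcen : f.ker ≤ Subgroup.center H) (hne : f.ker ≠ ⊥) :
    ∃ (N : Subgroup H) (_ : N.Normal) (g : H ⧸ N →* S), Function.Surjective g ∧ Nat.card g.ker = 2 ∧
      commutator (H ⧸ N) = ⊤ := by
  have h2 : Fact (Nat.Prime 2) := ⟨Nat.prime_two⟩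
  obtain ⟨n, hn⟩ := IsPGroup.iff_card.1 hk
  have hn0 : n ≠ 0 := by
    rintro rfl
    rw [pow_zero] at hn
    exact hne (Subgroup.card_eq_one.1 hn)
  obtain ⟨m, rfl⟩ := Nat.exists_eq_succ_of_ne_zero hn0
  obtain ⟨K, hK⟩ := Sylow.exists_subgroup_card_pow_prime (G := f.ker) 2 (n := m) (by
    rw [hn]; exact pow_dvd_pow 2 (Nat.le_succ m))
  let N : Subgroup H := K.map f.ker.subtype
  have hNc : Nat.card N = 2 ^ m := by
    rw [Subgroup.card_map_of_injective f.ker.subtype_injective, hK]
  have hNk : N ≤ f.ker := by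
    rintro _ ⟨x, -, rfl⟩
    exact x.2
  have hNn : N.Normal := ⟨fun x hx g => by
    rw [Subgroup.mem_center_iff.1 (hcen (hNk hx)) g, mul_assoc, mul_inv_cancel, mul_one]
    exact hx⟩
  let g : H ⧸ N →* S := QuotientGroup.lift N f hNk
  have hg : Function.Surjective g := by
    intro s
    obtain ⟨x, rfl⟩ := hf s
    exact ⟨QuotientGroup.mk' N x, rfl⟩
  refine ⟨N, hNn, g, hg, ?_, ?_⟩
  · have h3 : Nat.card S = f.ker.index := by
      rw [Subgroup.index_ker, MonoidHom.range_eq_top.2 hf, Subgroup.card_top]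
    have h4 : Nat.card S = g.ker.index := by
      rw [Subgroup.index_ker, MonoidHom.range_eq_top.2 hg, Subgroup.card_top]
    have h5 := f.ker.card_mul_index
    have h6 := g.ker.card_mul_index
    have h7 := N.card_mul_index
    rw [← h3, hn] at h5
    rw [← h4] at h6
    rw [hNc, Subgroup.index_eq_card, ← h6, ← h5, pow_succ] at h7
    have hS : 0 < Nat.card S := by rw [h3]; exact Nat.pos_of_ne_zero Subgroup.index_ne_zero_of_finite
    have h8 : 2 ^ m * Nat.card S * Nat.card g.ker = 2 ^ m * Nat.card S * 2 := by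
      calc 2 ^ m * Nat.card S * Nat.card g.ker = 2 ^ m * (Nat.card g.ker * Nat.card S) := by ring
        _ = 2 ^ m * 2 * Nat.card S := h7
        _ = _ := by ring
    exact Nat.eq_of_mul_eq_mul_left (by positivity) h8
  · rw [eq_top_iff]
    intro y _
    obtain ⟨x, rfl⟩ := QuotientGroup.mk'_surjective N y
    have h3 : x ∈ commutator H := by rw [hH]; exact Subgroup.mem_top x
    have h4 : (commutator H).map (QuotientGroup.mk' N) ≤ commutator (H ⧸ N) := by
      rw [commutator_def, Subgroup.map_commutator]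
      exact Subgroup.commutator_mono le_top le_top
    exact h4 ⟨x, h3, rfl⟩

namespace Min

variable {S : Type w} [Group S] [IsSimpleGroup S] {H : Type u} [Group H] {f : H →* S}

/-- **The kernel is not trivial.** -/
theorem ker_ne_bot (h : Min S H f) (hna : ∃ a b : S, a * b ≠ b * a) : f.ker ≠ ⊥ := by
  intro hbot
  have hfin := h.fin
  have hB := h.linB
  have hinj : Function.Injective f := (MonoidHom.ker_eq_bot_iff f).1 hbot
  let e : H ≃* S := MulEquiv.ofBijective f ⟨hinj, h.surj⟩
  have hsH : IsSimpleGroup H := (MulEquiv.isSimpleGroup_congr e).2 inferInstance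
  have hnaH : ∃ a b : H, a * b ≠ b * a := by
    obtain ⟨a, b, hab⟩ := hna
    refine ⟨e.symm a, e.symm b, fun hh => hab ?_⟩
    rw [← map_mul, ← map_mul] at hh
    exact e.symm.injective hh
  have hc : Subgroup.center H = ⊥ := by
    rcases (inferInstance : (Subgroup.center H).Normal).eq_bot_or_eq_top with h1 | h1
    · exact h1
    · exfalso
      obtain ⟨a, b, hab⟩ := hnaH
      apply hab
      have : b ∈ Subgroup.center H := by rw [h1]; exact Subgroup.mem_top b
      exact Subgroup.mem_center_iff.1 this a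
  have hncyc : ¬ IsCyclic H := by
    intro hcyc
    obtain ⟨a, b, hab⟩ := hnaH
    exact hab ((IsCyclic.isMulCommutative (α := H)).is_comm.comm a b)
  obtain ⟨E, hE⟩ := S0204.result (G := H) hncyc
  have hE4 : Nat.card E = 4 := hE.card_four
  have hE2 : ∀ x : E, x * x = 1 := fun x => by
    have := Monoid.pow_exponent_eq_one x
    rw [hE.exponent_two, pow_two] at this
    exact this
  have hEc : ∀ x y : E, x * y = y * x := by
    intro x y
    have h1 := hE2 (x * y)
    have hx : x⁻¹ = x := inv_eq_of_mul_eq_one_left (hE2 x)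
    have hy : y⁻¹ = y := inv_eq_of_mul_eq_one_left (hE2 y)
    have h2 : (x * y)⁻¹ = x * y := inv_eq_of_mul_eq_one_left h1
    rw [mul_inv_rev, hx, hy] at h2
    exact h2.symm
  -- two different involutions
  have h1 : ∀ a b : E, a ≠ 1 → b ≠ 1 → a = b := by
    intro a b ha hb
    have ha' : (a : H) ∉ Subgroup.center H := by
      rw [hc, Subgroup.mem_bot]
      exact fun h => ha (Subtype.ext h)
    have haa : (a : H) * a = 1 := congrArg Subtype.val (hE2 a)
    have hbb : (b : H) * b = 1 := congrArg Subtype.val (hE2 b)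
    have hab : (a : H) * b = b * a := congrArg Subtype.val (hEc a b)
    rcases hB.inv a b haa hbb hab ha' with h2 | h2
    · rw [hc, Subgroup.mem_bot] at h2
      exact absurd (Subtype.ext h2) hb
    · rw [hc, Subgroup.mem_bot, mul_eq_one_iff_eq_inv] at h2
      have : (a : H)⁻¹ = a := inv_eq_of_mul_eq_one_left haa
      rw [this] at h2
      exact (Subtype.ext h2).symm
  classical
  have hfE : Finite E := inferInstance
  have := Fintype.ofFinite E
  have h3 : ((Finset.univ : Finset E).erase 1).card = 3 := by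
    rw [Finset.card_erase_of_mem (Finset.mem_univ _), Finset.card_univ, ← Nat.card_eq_fintype_card, hE4]
  have h4 : ((Finset.univ : Finset E).erase 1).card ≤ 1 := by
    rw [Finset.card_le_one]
    intro a ha b hb
    exact h1 a b (Finset.ne_of_mem_erase ha) (Finset.ne_of_mem_erase hb)
  omega

/-- **The list.** -/
theorem surv (h : Min S H f) (hna : ∃ a b : S, a * b ≠ b * a) (hcen : f.ker ≤ Subgroup.center H) :
    GH.Cov.Cut.Surv S := by
  have hfin := h.fin
  have hfinS : Finite S := Finite.of_surjective f h.surj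
  have hB := h.linB
  obtain ⟨N, hN, g, hg, hk, hp⟩ := exists_double h.surj (h.perfect hna) (h.isPGroup_ker hna) hcen
    (h.ker_ne_bot hna)
  have hr : Cfsg.SectionalPRankLE 2 4 (H ⧸ N) :=
    GH.Rank.of_surjective (sectional_H hB.toLinA) (QuotientGroup.mk' N) (QuotientGroup.mk'_surjective N)
  have hrS : Cfsg.SectionalPRankLE 2 4 S := GH.Rank.of_surjective hr g hg
  have hK : GH.Defs.K4 S := GH.FinalInputs.k4
    (GH.FinalStmts.stmts fun _ _ _ _ _ _ _ hF S P e => LFour.ExtAll.conclR hF S P e)
    (GH.FinalMain.gh_of GH.BranchC2.branchC2) S (not_comm_of hna) hrS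
  exact GH.Cov.Cut.cut hp g hg hk hr hK

end Min

end Cfsg.Agent.H323.DivLin
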