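import Cfsg.Agent.H323.DivGrp
import Cfsg.Agent.S0501
import Cfsg.Agent.GH.Rank

/-!
# H323.DivMin: the minimal situation

`Min S H f` : `H` is a finite spanning group with `f : H → S` onto the nonabelian simple group `S` and no proper
subgroup of `H` is mapped onto `S`.
-/

set_option autoImplicit false

namespace Cfsg.Agent.H323.DivLin

open Module
open scoped commutatorElement

universe u v w

/-- transfer: in a perfect group with abelian Sylow `p`-subgroup `P`, `P ∩ Z(G) = 1`. -/
theorem eq_one_of_central {G : Type*} [Group G] [Finite G] (hG : commutator G = ⊤) {p : ℕ}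
    [hp : Fact p.Prime] (P : Sylow p G) (hP : ∀ x ∈ P, ∀ y ∈ P, x * y = y * x) {z : G} (hz : z ∈ P)
    (hzc : z ∈ Subgroup.center G) : z = 1 := by
  let _ : CommGroup (P : Subgroup G) :=
    { (inferInstance : Group (P : Subgroup G)) with
      mul_comm := fun a b => Subtype.ext (hP a a.2 b b.2) }
  have key : ∀ (k : ℕ) (g₀ : G), g₀⁻¹ * z ^ k * g₀ ∈ (P : Subgroup G) → g₀⁻¹ * z ^ k * g₀ = z ^ k := by
    intro k g₀ _
    have : z ^ k ∈ Subgroup.center G := Subgroup.pow_mem _ hzc k
    rw [mul_assoc, ← Subgroup.mem_center_iff.1 this g₀, inv_mul_cancel_left]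
  have h1 := MonoidHom.transfer_eq_pow (MonoidHom.id (P : Subgroup G)) z key
  have h2 : MonoidHom.transfer (MonoidHom.id (P : Subgroup G)) z = 1 := by
    have : (MonoidHom.transfer (MonoidHom.id (P : Subgroup G))).ker = ⊤ := by
      rw [eq_top_iff, ← hG]
      exact Abelianization.commutator_subset_ker _
    exact (MonoidHom.mem_ker).1 (this ▸ Subgroup.mem_top z)
  rw [h2] at h1
  have h3 : z ^ (P : Subgroup G).index = 1 := by
    have := congrArg Subtype.val h1
    exact this.symm
  obtain ⟨n, hn⟩ := (IsPGroup.iff_orderOf.1 P.2) ⟨z, hz⟩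
  have h4 : orderOf z = p ^ n := by rw [← hn, Subgroup.orderOf_mk]
  have h5 : orderOf z ∣ (P : Subgroup G).index := orderOf_dvd_of_pow_eq_one h3
  rw [h4] at h5
  have h6 : n = 0 := by
    by_contra hne
    exact P.not_dvd_index ((dvd_pow_self p hne).trans h5)
  rw [h6, pow_zero, orderOf_eq_one_iff] at h4
  exact h4

/-- The minimal situation. -/
structure Min (S : Type w) [Group S] (H : Type u) [Group H] (f : H →* S) : Prop where
  fin : Finite H
  srep : HasSRep H
  surj : Function.Surjective f
  min : ∀ K : Subgroup H, (∀ s : S, ∃ x ∈ K, f x = s) → K = ⊤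

theorem exists_min {D : Type v} [DivisionRing D] [CharZero D] {V : Type w} [AddCommGroup V]
    [Module D V] [Module.Finite D V] (hV : finrank D V ≤ 2) {K : Type u} [Group K] [Finite K]
    (ρ : K →* Module.End D V) (hρ : Function.Injective ρ) {S : Type*} [Group S] [IsSimpleGroup S]
    (hna : ∃ a b : S, a * b ≠ b * a) (f : K →* S) (hf : Function.Surjective f) :
    ∃ (H : Type u) (_ : Group H) (f' : H →* S), Min S H f' ∧ Nat.card H ≤ Nat.card K := by
  classical
  let P : ℕ → Prop := fun n => ∃ (H : Type u) (_ : Group H) (_ : Finite H), HasSRep H ∧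
      (∃ f' : H →* S, Function.Surjective f') ∧ Nat.card H = n
  have hex : ∃ n, P n := by
    obtain ⟨H, i1, i2, h1, h2, h3⟩ := exists_srep hV ρ hρ hna f hf
    exact ⟨_, H, i1, i2, h1, h2, rfl⟩
  obtain ⟨H, i1, i2, h1, ⟨f', hf'⟩, h3⟩ := Nat.find_spec hex
  refine ⟨H, i1, f', ⟨i2, h1, hf', ?_⟩, ?_⟩
  · intro L hL
    by_contra hne
    obtain ⟨E, j1, j2, j3, k, hk, r, hr, hs⟩ := h1
    have hch : CharZero E := algebraRat.charZero E
    have hfr : finrank E (Fin k → E) ≤ 2 := by
      rw [Module.finrank_fin_fun]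
      rcases hk with rfl | rfl <;> norm_num
    obtain ⟨H', l1, l2, m1, m2, m3⟩ := exists_srep (K := L) hfr (r.comp L.subtype)
      (fun a b hab => Subtype.ext (hr hab)) hna (f'.comp L.subtype) (fun s => by
        obtain ⟨x, hx, hxs⟩ := hL s
        exact ⟨⟨x, hx⟩, hxs⟩)
    have h4 : Nat.card L < Nat.card H := by
      rcases lt_or_eq_of_le (Subgroup.card_le_card_group L) with h | h
      · exact h
      · exact absurd ((Subgroup.card_eq_iff_eq_top L).1 h) hne
    exact Nat.find_min hex (m := Nat.card H') (by omega) ⟨H', l1, l2, m1, m2, rfl⟩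
  · rw [h3]
    obtain ⟨H0, i1, i2, h1, h2, h3'⟩ := exists_srep hV ρ hρ hna f hf
    exact (Nat.find_min' hex ⟨H0, i1, i2, h1, h2, rfl⟩).trans h3'

namespace Min

variable {S : Type w} [Group S] {H : Type u} [Group H] {f : H →* S}

theorem linB (h : Min S H f) : LinB H := by
  have := h.fin
  exact h.srep.linB

variable [IsSimpleGroup S]

/-- Normal subgroups are in the kernel or everything. -/
theorem normal_cases (h : Min S H f) (N : Subgroup H) (hN : N.Normal) : N ≤ f.ker ∨ N = ⊤ := by
  have h1 : (N.map f).Normal := Subgroup.Normal.map hN f h.surj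
  rcases h1.eq_bot_or_eq_top with h2 | h2
  · exact Or.inl ((Subgroup.map_eq_bot_iff _).1 h2)
  · right
    apply h.min
    intro s
    have : s ∈ N.map f := by rw [h2]; exact Subgroup.mem_top s
    exact this

theorem perfect (h : Min S H f) (hna : ∃ a b : S, a * b ≠ b * a) : commutator H = ⊤ := by
  rcases h.normal_cases (commutator H) inferInstance with h1 | h1
  · exfalso
    obtain ⟨a, b, hab⟩ := hna
    obtain ⟨x, rfl⟩ := h.surj a
    obtain ⟨y, rfl⟩ := h.surj b
    apply hab
    have h2 : ⁅x, y⁆ ∈ f.ker := h1 (Subgroup.commutator_mem_commutator (Subgroup.mem_top x) (Subgroup.mem_top y))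
    rw [MonoidHom.mem_ker, map_commutatorElement, commutatorElement_eq_one_iff_mul_comm] at h2
    exact h2
  · exact h1

/-- The kernel is a `2`-group. -/
theorem isPGroup_ker (h : Min S H f) (hna : ∃ a b : S, a * b ≠ b * a) : IsPGroup 2 f.ker := by
  have hfin := h.fin
  have hperf := h.perfect hna
  have hB := h.linB
  have key : ∀ p : ℕ, p.Prime → p ∣ Nat.card f.ker → p = 2 := by
    intro p hp hd
    by_contra hp2
    have : Fact p.Prime := ⟨hp⟩
    obtain ⟨R⟩ : Nonempty (Sylow p f.ker) := inferInstance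
    -- Frattini
    have hfr : Subgroup.normalizer (((R : Subgroup f.ker).map f.ker.subtype : Subgroup H) : Set H)
        ⊔ f.ker = ⊤ := Sylow.normalizer_sup_eq_top R
    set R' : Subgroup H := (R : Subgroup f.ker).map f.ker.subtype with hR'
    have hnt : Subgroup.normalizer (R' : Set H) = ⊤ := by
      apply h.min
      intro s
      obtain ⟨x, rfl⟩ := h.surj s
      have hx : x ∈ Subgroup.normalizer (R' : Set H) ⊔ f.ker := by rw [hfr]; exact Subgroup.mem_top x
      obtain ⟨a, ha, b, hb, rfl⟩ := Subgroup.mem_sup_of_normal_right.1 hx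
      exact ⟨a, ha, by rw [map_mul, MonoidHom.mem_ker.1 hb, mul_one]⟩
    have hR'N : R'.Normal := Subgroup.normalizer_eq_top_iff.1 hnt
    have hR'p : IsPGroup p R' := R.2.map _
    have hcen := hB.cen_odd hperf p hp2 R' hR'N hR'p
    obtain ⟨P, hP⟩ := hR'p.exists_le_sylow
    have hbot : R' = ⊥ := by
      rw [Subgroup.eq_bot_iff_forall]
      intro x hx
      exact eq_one_of_central hperf P (hB.comm_odd p hp2 P P.2) (hP hx) (hcen hx)
    have hRbot : (R : Subgroup f.ker) = ⊥ := by
      rw [hR', Subgroup.map_eq_bot_iff, Subgroup.ker_subtype] at hbot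
      exact le_bot_iff.1 hbot
    have h1 : p ∣ Nat.card (R : Subgroup f.ker) :=
      R.dvd_card_of_dvd_card hd
    rw [hRbot, Subgroup.card_bot] at h1
    exact hp.one_lt.ne' (Nat.dvd_one.1 h1)
  have hne : Nat.card f.ker ≠ 0 := Nat.card_pos.ne'
  rw [IsPGroup.iff_card]
  exact ⟨_, Nat.eq_prime_pow_of_unique_prime_dvd hne (fun {d} hd hdd => key d hd hdd)⟩

end Min

end Cfsg.Agent.H323.DivLin
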