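import Cfsg.Agent.H323.DivDim
import Cfsg.Agent.S0126

/-!
# H323.DivPGroup: p-subgroups in dimension at most 2

* `card_le_sq` : elementary abelian `p`-subgroups have order at most `p²`;
* `comm_of_odd` : `p`-groups, `p` odd, are abelian;
* `commute_of_prime` : no nonabelian groups of order `ps`;
* `involution_cases` : commuting involutions.
-/

set_option autoImplicit false

namespace Cfsg.Agent.H323.DivLin

open Module
open scoped commutatorElement

section restrict

variable {D : Type*} [DivisionRing D] {V : Type*} [AddCommGroup V] [Module D V]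
variable {H : Type*} [Group H] (ρ : H →* Module.End D V)

/-- The action on an invariant subspace. -/
def resW (W : Submodule D V) (hW : ∀ g : H, ∀ v ∈ W, ρ g v ∈ W) : H →* Module.End D W where
  toFun g := (ρ g).restrict (hW g)
  map_one' := by
    ext v
    rw [LinearMap.coe_restrict_apply, rho_one]
    rfl
  map_mul' g h := by
    ext v
    rw [LinearMap.coe_restrict_apply, rho_mul]
    rfl

theorem resW_apply (W : Submodule D V) (hW : ∀ g : H, ∀ v ∈ W, ρ g v ∈ W) (g : H) (v : W) :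
    (resW ρ W hW g v : V) = ρ g v := rfl

/-- The kernel as a subgroup. -/
def kerS (W : Submodule D V) : Subgroup H where
  carrier := {g | ∀ v ∈ W, ρ g v = v}
  mul_mem' := fun ha hb v hv => fixed_mul ρ (ha v hv) (hb v hv)
  one_mem' := fun v _ => rho_one ρ v
  inv_mem' := fun ha v hv => fixed_inv ρ (ha v hv)

@[simp] theorem mem_kerS {W : Submodule D V} {g : H} : g ∈ kerS ρ W ↔ ∀ v ∈ W, ρ g v = v := Iff.rfl

theorem kerS_normal (W : Submodule D V) (hW : ∀ g : H, ∀ v ∈ W, ρ g v ∈ W) : (kerS ρ W).Normal where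
  conj_mem := by
    intro n hn g v hv
    rw [rho_mul, rho_mul, hn _ (hW g⁻¹ v hv), rho_apply_inv]

/-- The action of the quotient by the kernel on an invariant subspace. -/
def quoW (W : Submodule D V) (hW : ∀ g : H, ∀ v ∈ W, ρ g v ∈ W) [(kerS ρ W).Normal] :
    H ⧸ kerS ρ W →* Module.End D W :=
  QuotientGroup.lift (kerS ρ W) (resW ρ W hW) (by
    intro g hg
    rw [MonoidHom.mem_ker]
    ext v
    rw [resW_apply, hg v v.2]
    rfl)

theorem quoW_mk (W : Submodule D V) (hW : ∀ g : H, ∀ v ∈ W, ρ g v ∈ W) [(kerS ρ W).Normal] (g : H) (v : W) :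
    (quoW ρ W hW (QuotientGroup.mk g) v : V) = ρ g v := rfl

theorem quoW_injective (W : Submodule D V) (hW : ∀ g : H, ∀ v ∈ W, ρ g v ∈ W) [(kerS ρ W).Normal] :
    Function.Injective (quoW ρ W hW) := by
  intro a b hab
  obtain ⟨a, rfl⟩ := QuotientGroup.mk_surjective a
  obtain ⟨b, rfl⟩ := QuotientGroup.mk_surjective b
  rw [QuotientGroup.eq]
  intro v hv
  have h1 : ρ a v = ρ b v := by
    have := congrArg (fun f : Module.End D W => ((f ⟨v, hv⟩ : W) : V)) hab
    exact this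
  rw [rho_mul, ← h1, rho_inv_apply]

end restrict

section line

variable {D : Type*} [DivisionRing D] [CharZero D] {V : Type*} [AddCommGroup V] [Module D V]
variable {H : Type*} [Group H] (ρ : H →* Module.End D V) {p : ℕ} [hp : Fact p.Prime]

theorem fix_top (h1 : finrank D V = 1) {c : H} {v : V} (hv : v ≠ 0) (hc : ρ c v = v) (u : V) :
    ρ c u = u :=
  fix_line ρ (W := ⊤) (by rw [finrank_top]; exact h1) Submodule.mem_top hv hc u Submodule.mem_top

/-- Two elements of order dividing `p` of an abelian group acting faithfully on a line. -/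
theorem mem_zpowers_of_line (h1 : finrank D V = 1) (hρ : Function.Injective ρ) {a b : H}
    (hab : a * b = b * a) (ha : a ^ p = 1) (hb : b ^ p = 1) (hb1 : b ≠ 1) :
    a ∈ Subgroup.zpowers b := by
  have : Nontrivial V := Module.nontrivial_of_finrank_pos (R := D) (by rw [h1]; exact one_pos)
  obtain ⟨w, hw⟩ := _root_.exists_ne (0 : V)
  obtain ⟨c, hc, v, -, hv, hcv⟩ := exists_fixed ρ (p := p) hab ha hb ⊤ (fun _ _ => Submodule.mem_top)
    (fun _ _ => Submodule.mem_top) (w := w) Submodule.mem_top hw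
  have hc1 : c = 1 := eq_one_of_forall ρ hρ (fix_top ρ h1 hv hcv)
  rcases hc with rfl | ⟨i, rfl⟩
  · exact absurd hc1 hb1
  · rw [mul_eq_one_iff_eq_inv] at hc1
    rw [hc1]
    exact Subgroup.inv_mem _ (Subgroup.npow_mem_zpowers b i)

/-- A `p`-group, `p` odd, acting faithfully on a line is cyclic. -/
theorem isCyclic_of_line [Finite H] (hp2 : p ≠ 2) (hH : IsPGroup p H) (h1 : finrank D V = 1)
    (hρ : Function.Injective ρ) : IsCyclic H := by
  by_contra hnc
  obtain ⟨A, -, ⟨hAc, hAp⟩, hA⟩ := Cfsg.Agent.S0126.result hp2 hH hnc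
  have hcom : ∀ a ∈ A, ∀ b ∈ A, a * b = b * a := fun a ha b hb =>
    congrArg Subtype.val (hAc.is_comm.comm (⟨a, ha⟩ : A) ⟨b, hb⟩)
  have hp1 := hp.out.one_lt
  have hAn : A ≠ ⊥ := by
    rintro rfl
    rw [Subgroup.card_bot] at hA
    nlinarith
  obtain ⟨b, hb, hb1⟩ : ∃ b ∈ A, b ≠ 1 := by
    by_contra hcon
    push Not at hcon
    exact hAn ((Subgroup.eq_bot_iff_forall A).2 hcon)
  have hle : A ≤ Subgroup.zpowers (b : H) := fun a ha =>
    mem_zpowers_of_line ρ h1 hρ (hcom a ha b hb) (hAp a ha) (hAp b hb) hb1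
  have h3 := Subgroup.card_le_of_le hle
  rw [hA, Nat.card_zpowers, orderOf_eq_prime (hAp b hb) hb1] at h3
  nlinarith

end line

section two

variable {D : Type*} [DivisionRing D] [CharZero D] {V : Type*} [AddCommGroup V] [Module D V]
variable [Module.Finite D V]
variable {H : Type*} [Group H] (ρ : H →* Module.End D V) {p : ℕ} [hp : Fact p.Prime]

/-- **Elementary abelian subgroups have order at most `p²`.** -/
theorem card_le_sq (h2 : finrank D V ≤ 2) (hρ : Function.Injective ρ) {E : Subgroup H}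
    (hEc : ∀ a ∈ E, ∀ b ∈ E, a * b = b * a) (hEp : ∀ a ∈ E, a ^ p = 1) : Nat.card E ≤ p ^ 2 := by
  have hp1 := hp.out.one_lt
  by_cases hb : ∃ b ∈ E, b ≠ 1
  swap
  · push Not at hb
    have : E = ⊥ := (Subgroup.eq_bot_iff_forall E).2 hb
    rw [this, Subgroup.card_bot]
    exact Nat.one_le_pow _ _ (by omega)
  obtain ⟨b, hb, hb1⟩ := hb
  by_cases ha : ∃ a ∈ E, a ∉ Subgroup.zpowers b
  swap
  · push Not at ha
    have hfin : Finite (Subgroup.zpowers b) := by
      apply Nat.finite_of_card_ne_zero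
      rw [Nat.card_zpowers, orderOf_eq_prime (hEp b hb) hb1]
      omega
    have h3 := Subgroup.card_le_of_le (show E ≤ Subgroup.zpowers b from ha)
    rw [Nat.card_zpowers, orderOf_eq_prime (hEp b hb) hb1] at h3
    nlinarith
  obtain ⟨a, ha, hab⟩ := ha
  obtain ⟨c₁, c₂, V₁, V₂, T⟩ := exists_twoLines ρ h2 hρ hEc hEp ha hb hb1 hab
  -- every element is in `⟨c₁⟩⟨c₂⟩`
  have key : ∀ g ∈ E, ∃ i j : ℤ, g = c₁ ^ i * c₂ ^ j := by
    intro g hg
    obtain ⟨u, hu, hu0⟩ := line_exists_ne T.rank₁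
    have inv : ∀ g ∈ E, ∀ v ∈ V₁, ρ g v ∈ V₁ := fun g hg => by
      rw [T.fx₁]
      exact Fx_invariant ρ (hEc g hg c₁ T.mem₁)
    obtain ⟨e, he, z, hz, hz0, hez⟩ := exists_fixed ρ (p := p) (hEc g hg c₂ T.mem₂) (hEp g hg)
      (hEp c₂ T.mem₂) V₁ (inv g hg) (inv c₂ T.mem₂) hu hu0
    have hfix := fix_line ρ T.rank₁ hz hz0 hez
    rcases he with rfl | ⟨i, rfl⟩
    · exact absurd (fix_all_of_compl ρ hρ T.compl hfix (fun v hv => (mem_Fx ρ).1 (T.fx₂ ▸ hv))) T.ne₂
    · obtain ⟨k, hk⟩ := Subgroup.mem_zpowers_iff.1 (T.ker₁ _ (E.mul_mem hg (E.pow_mem T.mem₂ i)) hfix)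
      refine ⟨k, -i, ?_⟩
      rw [hk, zpow_neg, zpow_natCast, mul_inv_cancel_right]
  have ho₁ : orderOf c₁ = p := orderOf_eq_prime (hEp _ T.mem₁) T.ne₁
  have ho₂ : orderOf c₂ = p := orderOf_eq_prime (hEp _ T.mem₂) T.ne₂
  have f₁ : Finite (Subgroup.zpowers c₁) := by
    apply Nat.finite_of_card_ne_zero
    rw [Nat.card_zpowers, ho₁]; omega
  have f₂ : Finite (Subgroup.zpowers c₂) := by
    apply Nat.finite_of_card_ne_zero
    rw [Nat.card_zpowers, ho₂]; omega
  let F : Subgroup.zpowers c₁ × Subgroup.zpowers c₂ → H := fun x => (x.1 : H) * x.2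
  have hsub : (E : Set H) ⊆ Set.range F := by
    intro g hg
    obtain ⟨i, j, rfl⟩ := key g hg
    exact ⟨(⟨c₁ ^ i, Subgroup.zpow_mem_zpowers c₁ i⟩, ⟨c₂ ^ j, Subgroup.zpow_mem_zpowers c₂ j⟩), rfl⟩
  have hfinr : (Set.range F).Finite := Set.finite_range F
  calc Nat.card E = (E : Set H).ncard := (Nat.card_coe_set_eq _)
    _ ≤ (Set.range F).ncard := Set.ncard_le_ncard hsub hfinr
    _ = Nat.card (Set.range F) := (Nat.card_coe_set_eq _).symm
    _ ≤ Nat.card (Subgroup.zpowers c₁ × Subgroup.zpowers c₂) := Finite.card_range_le F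
    _ = p ^ 2 := by rw [Nat.card_prod, Nat.card_zpowers, Nat.card_zpowers, ho₁, ho₂, pow_two]

end two

section lines

variable {D : Type*} [DivisionRing D] {V : Type*} [AddCommGroup V] [Module D V]
variable {H : Type*} [Group H] (ρ : H →* Module.End D V) {p : ℕ} {E : Subgroup H} {c₁ c₂ : H}
variable {V₁ V₂ : Submodule D V}

variable {ρ} in
theorem TwoLines.symm (T : TwoLines ρ p E c₁ c₂ V₁ V₂) : TwoLines ρ p E c₂ c₁ V₂ V₁ :=
  ⟨T.mem₂, T.mem₁, T.ne₂, T.ne₁, T.fx₂, T.fx₁, T.rank₂, T.rank₁, T.compl.symm,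
    fun g hg hg1 v hv h => (T.cases g hg hg1 v hv h).symm, T.ker₂, T.ker₁⟩

/-- The elements preserving both lines. -/
def Pres (V₁ V₂ : Submodule D V) : Subgroup H where
  carrier := {x | (∀ v ∈ V₁, ρ x v ∈ V₁) ∧ (∀ v ∈ V₁, ρ x⁻¹ v ∈ V₁) ∧ (∀ v ∈ V₂, ρ x v ∈ V₂) ∧
    ∀ v ∈ V₂, ρ x⁻¹ v ∈ V₂}
  mul_mem' := by
    rintro a b ⟨h1, h2, h3, h4⟩ ⟨k1, k2, k3, k4⟩
    refine ⟨fun v hv => ?_, fun v hv => ?_, fun v hv => ?_, fun v hv => ?_⟩
    · rw [rho_mul]; exact h1 _ (k1 v hv)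
    · rw [mul_inv_rev, rho_mul]; exact k2 _ (h2 v hv)
    · rw [rho_mul]; exact h3 _ (k3 v hv)
    · rw [mul_inv_rev, rho_mul]; exact k4 _ (h4 v hv)
  one_mem' := by
    refine ⟨fun v hv => ?_, fun v hv => ?_, fun v hv => ?_, fun v hv => ?_⟩
    · rw [rho_one]; exact hv
    · rw [inv_one, rho_one]; exact hv
    · rw [rho_one]; exact hv
    · rw [inv_one, rho_one]; exact hv
  inv_mem' := by
    rintro a ⟨h1, h2, h3, h4⟩
    exact ⟨h2, by rwa [inv_inv], h4, by rwa [inv_inv]⟩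

variable {ρ} in
theorem TwoLines.map_cases (T : TwoLines ρ p E c₁ c₂ V₁ V₂) {x : H} (hx : ∀ g ∈ E, x * g * x⁻¹ ∈ E) :
    (∀ v ∈ V₁, ρ x v ∈ V₁) ∨ (∀ v ∈ V₁, ρ x v ∈ V₂) := by
  obtain ⟨v, hv, hv0⟩ := line_exists_ne T.rank₁
  have hcv : ρ c₁ v = v := (mem_Fx ρ).1 (T.fx₁ ▸ hv)
  have h1 : ρ (x * c₁ * x⁻¹) (ρ x v) = ρ x v := fixed_conj ρ hcv
  have h2 : x * c₁ * x⁻¹ ≠ 1 := fun h => T.ne₁ (by simpa using h)
  rcases T.cases _ (hx c₁ T.mem₁) h2 _ (rho_ne_zero ρ hv0) h1 with h | h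
  · exact Or.inl (map_line ρ T.rank₁ hv hv0 h)
  · exact Or.inr (map_line ρ T.rank₁ hv hv0 h)

variable {ρ} in
/-- An element normalizing `E` preserves or swaps the lines. -/
theorem TwoLines.pres_or_swap (T : TwoLines ρ p E c₁ c₂ V₁ V₂) {x : H}
    (hx : ∀ g ∈ E, x * g * x⁻¹ ∈ E) :
    ((∀ v ∈ V₁, ρ x v ∈ V₁) ∧ (∀ v ∈ V₂, ρ x v ∈ V₂)) ∨
      ((∀ v ∈ V₁, ρ x v ∈ V₂) ∧ (∀ v ∈ V₂, ρ x v ∈ V₁)) := by
  have hall : ∀ W : Submodule D V, (∀ v ∈ V₁, ρ x v ∈ W) → (∀ v ∈ V₂, ρ x v ∈ W) → W = ⊤ := by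
    intro W h1 h2
    rw [Submodule.eq_top_iff']
    intro v
    have h3 : ρ x⁻¹ v ∈ V₁ ⊔ V₂ := by rw [T.compl.sup_eq_top]; exact Submodule.mem_top
    obtain ⟨a, ha, b, hb, hab⟩ := Submodule.mem_sup.1 h3
    have h4 : v = ρ x a + ρ x b := by rw [← map_add, hab, rho_apply_inv]
    rw [h4]
    exact W.add_mem (h1 a ha) (h2 b hb)
  have hV₁ : V₁ ≠ ⊤ := by
    intro h
    obtain ⟨v, hv, hv0⟩ := line_exists_ne T.rank₂
    exact hv0 (Submodule.disjoint_def.1 T.compl.disjoint v (h ▸ Submodule.mem_top) hv)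
  have hV₂ : V₂ ≠ ⊤ := by
    intro h
    obtain ⟨v, hv, hv0⟩ := line_exists_ne T.rank₁
    exact hv0 (Submodule.disjoint_def.1 T.compl.disjoint v hv (h ▸ Submodule.mem_top))
  rcases T.map_cases hx with h1 | h1 <;> rcases T.symm.map_cases hx with h2 | h2
  · exact Or.inl ⟨h1, h2⟩
  · exact absurd (hall V₁ h1 h2) hV₁
  · exact absurd (hall V₂ h1 h2) hV₂
  · exact Or.inr ⟨h1, h2⟩

/-- An element normalizing `E` whose inverse does too. -/
def NrmE (E : Subgroup H) (x : H) : Prop := (∀ g ∈ E, x * g * x⁻¹ ∈ E) ∧ ∀ g ∈ E, x⁻¹ * g * x ∈ E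

variable {ρ} in
theorem TwoLines.mem_pres_or (T : TwoLines ρ p E c₁ c₂ V₁ V₂) {x : H} (hx : NrmE E x) :
    x ∈ Pres ρ V₁ V₂ ∨ ((∀ v ∈ V₁, ρ x v ∈ V₂) ∧ (∀ v ∈ V₂, ρ x v ∈ V₁)) := by
  have hx' : ∀ g ∈ E, x⁻¹ * g * x⁻¹⁻¹ ∈ E := fun g hg => by rw [inv_inv]; exact hx.2 g hg
  have hne : ∀ v : V, v ∈ V₁ → v ∈ V₂ → v = 0 := Submodule.disjoint_def.1 T.compl.disjoint
  rcases T.pres_or_swap hx.1 with h | h
  · left
    rcases T.pres_or_swap hx' with h' | h'
    · exact ⟨h.1, h'.1, h.2, h'.2⟩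
    · obtain ⟨v, hv, hv0⟩ := line_exists_ne T.rank₁
      exfalso
      apply hv0
      apply hne v hv
      rw [← rho_inv_apply ρ x v]
      exact h'.1 _ (h.1 v hv)
  · exact Or.inr h

variable {ρ} in
/-- Products of two elements outside `Pres` are in `Pres`. -/
theorem TwoLines.mul_mem_pres (T : TwoLines ρ p E c₁ c₂ V₁ V₂) {x y : H} (hx : NrmE E x)
    (hy : NrmE E y) (hxn : x ∉ Pres ρ V₁ V₂) (hyn : y ∉ Pres ρ V₁ V₂) : x * y ∈ Pres ρ V₁ V₂ := by
  have h1 := (T.mem_pres_or hx).resolve_left hxn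
  have h2 := (T.mem_pres_or hy).resolve_left hyn
  have hxy : NrmE E (x * y) := by
    refine ⟨fun g hg => ?_, fun g hg => ?_⟩
    · have := hx.1 _ (hy.1 g hg)
      have e : x * y * g * (x * y)⁻¹ = x * (y * g * y⁻¹) * x⁻¹ := by group
      rw [e]; exact this
    · have := hy.2 _ (hx.2 g hg)
      have e : (x * y)⁻¹ * g * (x * y) = y⁻¹ * (x⁻¹ * g * x) * y := by group
      rw [e]; exact this
  rcases T.mem_pres_or hxy with h | h
  · exact h
  · exfalso
    obtain ⟨v, hv, hv0⟩ := line_exists_ne T.rank₁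
    have h3 : ρ (x * y) v ∈ V₁ := by rw [rho_mul]; exact h1.2 _ (h2.1 v hv)
    have h4 : ρ (x * y) v ∈ V₂ := h.1 v hv
    exact rho_ne_zero ρ hv0 (Submodule.disjoint_def.1 T.compl.disjoint _ h3 h4)

variable {ρ} in
/-- Elements of odd order normalizing `E` preserve both lines. -/
theorem TwoLines.mem_pres_of_odd (T : TwoLines ρ p E c₁ c₂ V₁ V₂) {x : H} (hx : NrmE E x)
    (ho : Odd (orderOf x)) : x ∈ Pres ρ V₁ V₂ := by
  by_contra hxn
  have h2 : x ^ 2 ∈ Pres ρ V₁ V₂ := by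
    rw [pow_two]; exact T.mul_mem_pres hx hx hxn hxn
  obtain ⟨k, hk⟩ := ho
  apply hxn
  have h3 : x = ((x ^ 2) ^ k)⁻¹ := by
    rw [eq_inv_iff_mul_eq_one, ← pow_mul, ← pow_succ', ← hk, pow_orderOf_eq_one]
  rw [h3]
  exact Subgroup.inv_mem _ (Subgroup.pow_mem _ h2 k)

variable {ρ} in
/-- If all elements normalize `E` then commutators preserve the lines. -/
theorem TwoLines.commutator_mem_pres (T : TwoLines ρ p E c₁ c₂ V₁ V₂) (hN : E.Normal) (x y : H) :
    ⁅x, y⁆ ∈ Pres ρ V₁ V₂ := by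
  have hn : ∀ x : H, NrmE E x := fun x => ⟨fun g hg => hN.conj_mem g hg x, fun g hg => by
    have := hN.conj_mem g hg x⁻¹
    rwa [inv_inv] at this⟩
  have hmul : ∀ a b : H, (a ∈ Pres ρ V₁ V₂ ↔ b ∈ Pres ρ V₁ V₂) → a * b ∈ Pres ρ V₁ V₂ := by
    intro a b hab
    by_cases ha : a ∈ Pres ρ V₁ V₂
    · exact Subgroup.mul_mem _ ha (hab.1 ha)
    · exact T.mul_mem_pres (hn a) (hn b) ha (fun hb => ha (hab.2 hb))
  have hmul' : ∀ a b : H, a * b ∈ Pres ρ V₁ V₂ ↔ (a ∈ Pres ρ V₁ V₂ ↔ b ∈ Pres ρ V₁ V₂) := by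
    intro a b
    refine ⟨fun h => ?_, hmul a b⟩
    constructor
    · intro ha
      have := Subgroup.mul_mem _ (Subgroup.inv_mem _ ha) h
      rwa [inv_mul_cancel_left] at this
    · intro hb
      have := Subgroup.mul_mem _ h (Subgroup.inv_mem _ hb)
      rwa [mul_inv_cancel_right] at this
  have hinv : ∀ a : H, a⁻¹ ∈ Pres ρ V₁ V₂ ↔ a ∈ Pres ρ V₁ V₂ := fun a => Subgroup.inv_mem_iff _
  rw [commutatorElement_def, hmul', hmul', hmul', hinv, hinv]
  tauto

end lines

section odd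

variable {D : Type*} [DivisionRing D] [CharZero D] {V : Type*} [AddCommGroup V] [Module D V]
variable {H : Type*} [Group H] (ρ : H →* Module.End D V) {p : ℕ} [hp : Fact p.Prime]

/-- A `p`-group (`p` odd) preserving a line acts on it through a commutative group. -/
theorem commutator_fix_line [Finite H] (hp2 : p ≠ 2) (hH : IsPGroup p H) {W : Submodule D V}
    (hW1 : finrank D W = 1) (hW : ∀ g : H, ∀ v ∈ W, ρ g v ∈ W) (x y : H) :
    ∀ v ∈ W, ρ ⁅x, y⁆ v = v := by
  have hn := kerS_normal ρ W hW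
  have hc : IsCyclic (H ⧸ kerS ρ W) :=
    isCyclic_of_line (p := p) (quoW ρ W hW) hp2 (hH.to_quotient _) hW1 (quoW_injective ρ W hW)
  have hcom := hc.isMulCommutative
  have h1 : ((⁅x, y⁆ : H) : H ⧸ kerS ρ W) = 1 := by
    rw [← QuotientGroup.mk'_apply, map_commutatorElement, commutatorElement_eq_one_iff_mul_comm]
    exact hcom.is_comm.comm _ _
  exact (QuotientGroup.eq_one_iff _).1 h1

variable [Module.Finite D V]

/-- **`p`-groups, `p` odd, are abelian.** -/
theorem comm_of_odd [Finite H] (hp2 : p ≠ 2) (hH : IsPGroup p H) (h2 : finrank D V ≤ 2)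
    (hρ : Function.Injective ρ) (x y : H) : x * y = y * x := by
  by_cases hnc : IsCyclic H
  · exact hnc.isMulCommutative.is_comm.comm x y
  obtain ⟨A, hAn, ⟨hAc, hAp⟩, hA⟩ := Cfsg.Agent.S0126.result hp2 hH hnc
  have hcom : ∀ a ∈ A, ∀ b ∈ A, a * b = b * a := fun a ha b hb =>
    congrArg Subtype.val (hAc.is_comm.comm (⟨a, ha⟩ : A) ⟨b, hb⟩)
  have hp1 := hp.out.one_lt
  have hAne : A ≠ ⊥ := by
    rintro rfl
    rw [Subgroup.card_bot] at hA
    nlinarith
  obtain ⟨b, hb, hb1'⟩ : ∃ b ∈ A, b ≠ 1 := by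
    by_contra hcon
    push Not at hcon
    exact hAne ((Subgroup.eq_bot_iff_forall A).2 hcon)
  obtain ⟨a, ha, hab⟩ : ∃ a ∈ A, a ∉ Subgroup.zpowers (b : H) := by
    by_contra hcon
    push Not at hcon
    have h3 := Subgroup.card_le_of_le (show A ≤ Subgroup.zpowers (b : H) from hcon)
    rw [hA, Nat.card_zpowers, orderOf_eq_prime (hAp b hb) hb1'] at h3
    nlinarith
  obtain ⟨c₁, c₂, V₁, V₂, T⟩ := exists_twoLines ρ h2 hρ hcom hAp ha hb hb1' hab
  have hodd : ∀ x : H, Odd (orderOf x) := by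
    intro x
    obtain ⟨k, hk⟩ := (IsPGroup.iff_orderOf.1 hH) x
    rw [hk]
    exact (hp.out.odd_of_ne_two hp2).pow
  have hn : ∀ x : H, NrmE A x := fun x => ⟨fun g hg => hAn.conj_mem g hg x, fun g hg => by
    have := hAn.conj_mem g hg x⁻¹
    rwa [inv_inv] at this⟩
  have hpres : ∀ x : H, x ∈ Pres ρ V₁ V₂ := fun x => T.mem_pres_of_odd (hn x) (hodd x)
  have h1 : ⁅x, y⁆ = 1 := fix_all_of_compl ρ hρ T.compl
    (commutator_fix_line ρ hp2 hH T.rank₁ (fun g => (hpres g).1) x y)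
    (commutator_fix_line ρ hp2 hH T.rank₂ (fun g => (hpres g).2.2.1) x y)
  exact commutatorElement_eq_one_iff_mul_comm.1 h1

end odd

section frobenius

variable {D : Type*} [DivisionRing D] [CharZero D] {V : Type*} [AddCommGroup V] [Module D V]
variable [Module.Finite D V]
variable {H : Type*} [Group H] (ρ : H →* Module.End D V) {p s : ℕ} [hp : Fact p.Prime] [hs : Fact s.Prime]

/-- **No nonabelian groups of order `ps`, `s` odd.** -/
theorem commute_of_prime (h2 : finrank D V ≤ 2) (hρ : Function.Injective ρ) (hs2 : s ≠ 2) {x y : H}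
    (hy : y ^ p = 1) (hx : x ^ s = 1) {k : ℕ} (hk : x * y * x⁻¹ = y ^ k) : x * y = y * x := by
  by_contra hne
  have hy1 : y ≠ 1 := by rintro rfl; exact hne (by rw [mul_one, one_mul])
  have hoy : orderOf y = p := orderOf_eq_prime hy hy1
  have hpow : ∀ j : ℕ, x ^ j * y * (x ^ j)⁻¹ = y ^ k ^ j := by
    intro j
    induction j with
    | zero => simp
    | succ j ih =>
      have e : x ^ (j + 1) * y * (x ^ (j + 1))⁻¹ = x * (x ^ j * y * (x ^ j)⁻¹) * x⁻¹ := by
        rw [pow_succ']; group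
      rw [e, ih, ← conj_pow, hk, ← pow_mul, pow_succ]
      congr 1
      ring
  -- `y ^ a = y ^ b` iff congruent
  have hyeq : ∀ a b : ℕ, y ^ a = y ^ b ↔ (a : ZMod p) = b := by
    intro a b
    rw [pow_inj_mod, hoy, ZMod.natCast_eq_natCast_iff]
    rfl
  have hks : ((k : ZMod p)) ^ s = 1 := by
    have h3 := hpow s
    rw [hx, one_mul, inv_one, mul_one] at h3
    have h4 : y ^ 1 = y ^ k ^ s := by rw [pow_one]; exact h3
    rw [hyeq] at h4
    push_cast at h4
    exact h4.symm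
  have hk1 : (k : ZMod p) ≠ 1 := by
    intro h
    apply hne
    have : y ^ k = y ^ 1 := (hyeq _ _).2 (by rw [h]; simp)
    rw [pow_one] at this
    rw [this] at hk
    have := congrArg (· * x) hk
    simpa [mul_assoc] using this
  have hok : orderOf (k : ZMod p) = s := orderOf_eq_prime hks hk1
  have hkj : ∀ i j : ℕ, i < s → j < s → i ≠ j → (k : ZMod p) ^ i ≠ (k : ZMod p) ^ j := by
    intro i j hi hj hij h
    have hinj := pow_injOn_Iio_orderOf (x := (k : ZMod p))
    exact hij (hinj (by rw [hok]; exact hi) (by rw [hok]; exact hj) h)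
  have hs3 : 3 ≤ s := by
    have := hs.out.two_le
    omega
  -- the space `W = ker N_y`
  set W := LinearMap.ker (Nm ρ p y) with hWdef
  have hcompl := isCompl_Fx_ker ρ hy
  have hWne : W ≠ ⊥ := by
    intro h0
    have h4 : Fx ρ y = ⊤ := by
      have := hcompl.sup_eq_top
      rwa [← hWdef, h0, sup_bot_eq] at this
    exact hy1 (eq_one_of_forall ρ hρ fun u => (mem_Fx ρ).1 (h4 ▸ Submodule.mem_top))
  obtain ⟨w, hwW, hw0⟩ := Submodule.exists_mem_ne_zero_of_ne_bot hWne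
  have hnofix : ∀ v ∈ W, ρ y v = v → v = 0 := by
    intro v hv hv'
    by_contra hv0
    exact Nm_ne_zero_of_fixed ρ (p := p) hv' hv0 hv
  -- `x` preserves `W`
  have hxinv : x⁻¹ = x ^ (s - 1) := by
    rw [inv_eq_iff_mul_eq_one, ← pow_succ', Nat.sub_add_cancel (by omega), hx]
  have hWx : ∀ v ∈ W, ρ x v ∈ W := by
    intro v hv
    have h5 := ker_inv ρ (p := p) (c := y) (x := x⁻¹) ⟨k ^ (s - 1), by
      rw [hxinv]; exact hpow (s - 1)⟩ hy v hv
    rwa [inv_inv] at h5
  have hWy : ∀ v ∈ W, ρ y v ∈ W := by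
    intro v hv
    have h5 := ker_inv ρ (p := p) (c := y) (x := y⁻¹) ⟨1, by group⟩ hy v hv
    rwa [inv_inv] at h5
  have hWpow : ∀ (g : H), (∀ v ∈ W, ρ g v ∈ W) → ∀ n : ℕ, ∀ v ∈ W, ρ (g ^ n) v ∈ W := by
    intro g hg n
    induction n with
    | zero => intro v hv; rw [pow_zero, rho_one]; exact hv
    | succ n ih => intro v hv; rw [pow_succ, rho_mul]; exact ih _ (hg v hv)
  -- a nonzero vector of `W` fixed by `x`
  obtain ⟨u, huW, hu0, hxu⟩ : ∃ u ∈ W, u ≠ 0 ∧ ρ x u = u := by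
    by_contra hcon
    push Not at hcon
    have hN0 : ∀ v ∈ W, Nm ρ s x v = 0 := by
      intro v hv
      by_contra hne0
      have h6 : Nm ρ s x v ∈ W := by
        rw [Nm_apply]
        exact W.sum_mem fun i _ => hWpow x hWx _ v hv
      exact hcon _ h6 hne0 (fixed_Nm ρ hx v)
    have hsum : ∑ i : ZMod p, ρ (y ^ i.val) (Nm ρ s x (ρ (y ^ (-i).val) w)) = (p : D) • w := by
      have h7 : ∀ i : ZMod p, ρ (y ^ i.val) (Nm ρ s x (ρ (y ^ (-i).val) w))
          = ∑ j : ZMod s, ρ (y ^ (i * (1 - (k : ZMod p) ^ j.val)).val) (ρ (x ^ j.val) w) := by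
        intro i
        rw [Nm_apply, map_sum]
        refine Finset.sum_congr rfl fun j _ => ?_
        rw [← rho_mul, ← rho_mul, ← rho_mul]
        congr 2
        have e1 : x ^ j.val * y ^ (-i).val = (y ^ k ^ j.val) ^ (-i).val * x ^ j.val := by
          rw [← hpow j.val, conj_pow]; group
        rw [mul_assoc, e1, ← mul_assoc, ← pow_mul, ← pow_add]
        congr 1
        rw [hyeq]
        push_cast
        rw [ZMod.natCast_val, ZMod.natCast_val, ZMod.natCast_val, ZMod.cast_id, ZMod.cast_id,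
          ZMod.cast_id]
        ring
      rw [Finset.sum_congr rfl fun i _ => h7 i, Finset.sum_comm]
      have h8 : ∀ j : ZMod s, ∑ i : ZMod p, ρ (y ^ (i * (1 - (k : ZMod p) ^ j.val)).val) (ρ (x ^ j.val) w)
          = if j = 0 then (p : D) • w else 0 := by
        intro j
        split_ifs with hj
        · subst hj
          have h9 : ∀ i : ZMod p, ρ (y ^ (i * (1 - (k : ZMod p) ^ (0 : ZMod s).val)).val)
              (ρ (x ^ (0 : ZMod s).val) w) = w := fun i => by
            rw [ZMod.val_zero, pow_zero, sub_self, mul_zero, ZMod.val_zero, pow_zero, pow_zero,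
              rho_one, rho_one]
          rw [Finset.sum_congr rfl fun i _ => h9 i, Finset.sum_const, Finset.card_univ, ZMod.card,
            Nat.cast_smul_eq_nsmul]
        · have hne1 : (1 : ZMod p) - (k : ZMod p) ^ j.val ≠ 0 := by
            intro h
            have h10 : (k : ZMod p) ^ 0 = (k : ZMod p) ^ j.val := by
              rw [pow_zero]; exact sub_eq_zero.1 h
            have hjv : j.val < s := ZMod.val_lt j
            exact hkj 0 j.val (by omega) hjv (fun h0 => hj ((ZMod.val_eq_zero j).1 h0.symm)) h10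
          have h11 : ∑ i : ZMod p, ρ (y ^ (i * (1 - (k : ZMod p) ^ j.val)).val) (ρ (x ^ j.val) w)
              = Nm ρ p y (ρ (x ^ j.val) w) := by
            rw [Nm_apply]
            exact Fintype.sum_equiv (Equiv.mulRight₀ _ hne1) _ _ fun i => rfl
          rw [h11]
          exact hWpow x hWx _ w hwW
      rw [Finset.sum_congr rfl fun j _ => h8 j, Finset.sum_ite_eq' Finset.univ (0 : ZMod s)]
      simp
    have hne2 : (p : D) • w ≠ 0 := smul_ne_zero (Nat.cast_ne_zero.2 hp.out.ne_zero) hw0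
    apply hne2
    rw [← hsum]
    refine Finset.sum_eq_zero fun i _ => ?_
    rw [hN0 _ (hWpow y hWy _ w hwW), map_zero]
  -- the operators `y_j`
  let Y : ℕ → Module.End D V := fun j => ρ (y ^ k ^ j)
  have hYW : ∀ j, ∀ v ∈ W, Y j v ∈ W := fun j => hWpow y hWy _
  have hYc : ∀ i j v, Y i (Y j v) = Y j (Y i v) := fun i j v => by
    change ρ (y ^ k ^ i) (ρ (y ^ k ^ j) v) = ρ (y ^ k ^ j) (ρ (y ^ k ^ i) v)
    rw [← rho_mul, ← rho_mul, ← pow_add, ← pow_add, add_comm]
  have hYinj : ∀ i j : ℕ, i < s → j < s → i ≠ j → ∀ v ∈ W, Y i v = Y j v → v = 0 := by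
    intro i j hi hj hij v hv h
    have hne3 : (k : ZMod p) ^ i - (k : ZMod p) ^ j ≠ 0 := sub_ne_zero.2 (hkj i j hi hj hij)
    -- `z = y^{k^i} (y^{k^j})⁻¹` fixes `v`
    have h12 : ρ ((y ^ k ^ j)⁻¹ * y ^ k ^ i) v = v := by
      rw [rho_mul]
      change ρ (y ^ k ^ j)⁻¹ (Y i v) = v
      rw [h]
      exact rho_inv_apply ρ _ v
    have h13 : y ∈ Subgroup.zpowers ((y ^ k ^ j)⁻¹ * y ^ k ^ i) := by
      have h14 : (y ^ k ^ j)⁻¹ * y ^ k ^ i ≠ 1 := by
        intro h15
        rw [inv_mul_eq_one, hyeq] at h15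
        push_cast at h15
        exact hne3 (sub_eq_zero.2 h15.symm)
      have h16 : (y ^ k ^ j)⁻¹ * y ^ k ^ i ∈ Subgroup.zpowers y :=
        Subgroup.mul_mem _ (Subgroup.inv_mem _ (Subgroup.npow_mem_zpowers y _))
          (Subgroup.npow_mem_zpowers y _)
      rw [zpowers_eq_of_mem (p := p) hy h14 h16]
      exact Subgroup.mem_zpowers y
    obtain ⟨m, hm⟩ := Subgroup.mem_zpowers_iff.1 h13
    apply hnofix v hv
    rw [← hm]
    exact fixed_zpow ρ h12 m
  -- independence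
  have hind : LinearIndependent D ![u, ρ y u, ρ y (ρ y u)] := by
    rw [Fintype.linearIndependent_iff]
    intro d hd
    have hd' : d 0 • u + d 1 • ρ y u + d 2 • ρ y (ρ y u) = 0 := by
      have := hd
      rw [Fin.sum_univ_three] at this
      exact this
    have hxju : ∀ j : ℕ, ρ (x ^ j) u = u := fun j => fixed_pow ρ hxu j
    have hxy : ∀ (j : ℕ) (v : V), ρ (x ^ j) (ρ y v) = Y j (ρ (x ^ j) v) := by
      intro j v
      change _ = ρ (y ^ k ^ j) (ρ (x ^ j) v)
      rw [← rho_mul, ← rho_mul, ← hpow j]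
      congr 2
      group
    have hA : ∀ j : ℕ, d 0 • u + d 1 • Y j u + d 2 • Y j (Y j u) = 0 := by
      intro j
      have := congrArg (ρ (x ^ j)) hd'
      rw [map_add, map_add, map_smul, map_smul, map_smul, map_zero, hxy, hxy, hxy, hxju] at this
      exact this
    have hB : ∀ i j : ℕ, i < s → j < s → i ≠ j →
        d 1 • u + d 2 • (Y i u + Y j u) = 0 := by
      intro i j hi hj hij
      apply hYinj i j hi hj hij
      · exact W.add_mem (W.smul_mem _ huW) (W.smul_mem _ (W.add_mem (hYW i u huW) (hYW j u huW)))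
      · rw [map_add, map_add, map_smul, map_smul, map_smul, map_smul, map_add, map_add]
        have h17 := hA i
        have h18 := hA j
        have h19 : d 1 • Y i u + d 2 • Y i (Y i u) = d 1 • Y j u + d 2 • Y j (Y j u) := by
          have e1 : d 1 • Y i u + d 2 • Y i (Y i u) = - (d 0 • u) := by
            rw [eq_neg_iff_add_eq_zero, ← h17]; abel
          have e2 : d 1 • Y j u + d 2 • Y j (Y j u) = - (d 0 • u) := by
            rw [eq_neg_iff_add_eq_zero, ← h18]; abel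
          rw [e1, e2]
        rw [hYc i j u, smul_add, smul_add, ← add_assoc, h19]
        abel
    have h01 := hB 1 0 (by omega) (by omega) (by omega)
    have h02 := hB 2 0 (by omega) (by omega) (by omega)
    have h21 : d 2 • Y 1 u = d 2 • Y 2 u := by
      have e : d 1 • u + d 2 • (Y 1 u + Y 0 u) = d 1 • u + d 2 • (Y 2 u + Y 0 u) := by rw [h01, h02]
      rw [smul_add, smul_add] at e
      have := add_left_cancel e
      exact add_right_cancel this
    have h22 : d 2 • u = 0 := by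
      apply hYinj 1 2 (by omega) (by omega) (by omega) _ (W.smul_mem _ huW)
      rw [map_smul, map_smul, h21]
    have hd2 : d 2 = 0 := (smul_eq_zero.1 h22).resolve_right hu0
    have hd1 : d 1 = 0 := by
      rw [hd2, zero_smul, add_zero] at h01
      exact (smul_eq_zero.1 h01).resolve_right hu0
    have hd0 : d 0 = 0 := by
      rw [hd1, hd2, zero_smul, zero_smul, add_zero, add_zero] at hd'
      exact (smul_eq_zero.1 hd').resolve_right hu0
    intro i
    fin_cases i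
    · exact hd0
    · exact hd1
    · exact hd2
  have := hind.fintype_card_le_finrank
  rw [Fintype.card_fin] at this
  omega

end frobenius

section involutions

variable {D : Type*} [DivisionRing D] [CharZero D] {V : Type*} [AddCommGroup V] [Module D V]
variable {H : Type*} [Group H] (ρ : H →* Module.End D V)

/-- An involution acts on a line as `±1`. -/
theorem sign_on_line {W : Submodule D V} (hW1 : finrank D W = 1) {s : H} (hs : s * s = 1)
    (hW : ∀ v ∈ W, ρ s v ∈ W) : (∀ v ∈ W, ρ s v = v) ∨ (∀ v ∈ W, ρ s v = -v) := by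
  by_cases h : ∃ v ∈ W, v ≠ 0 ∧ ρ s v = v
  · obtain ⟨v, hv, hv0, hsv⟩ := h
    exact Or.inl (fix_line ρ hW1 hv hv0 hsv)
  · right
    intro v hv
    by_contra hne
    apply h
    refine ⟨v + ρ s v, W.add_mem hv (hW v hv), ?_, ?_⟩
    · intro h0
      exact hne (eq_neg_of_add_eq_zero_right h0)
    · rw [map_add, ← rho_mul, hs, rho_one, add_comm]

/-- Eigenspaces of an involution. -/
theorem invol_decomp {t : H} (ht : t * t = 1) :
    IsCompl (LinearMap.eqLocus (ρ t) LinearMap.id) (LinearMap.eqLocus (ρ t) (-LinearMap.id)) := by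
  constructor
  · rw [Submodule.disjoint_def]
    intro v hv hv'
    rw [LinearMap.mem_eqLocus] at hv hv'
    have h1 : v = -v := by
      rw [LinearMap.id_apply] at hv
      rw [LinearMap.neg_apply, LinearMap.id_apply] at hv'
      rw [← hv', hv]
    have h2 : (2 : D) • v = 0 := by
      rw [two_smul]; nth_rewrite 2 [h1]; rw [add_neg_cancel]
    exact (smul_eq_zero.1 h2).resolve_left two_ne_zero
  · rw [codisjoint_iff, Submodule.eq_top_iff']
    intro v
    rw [Submodule.mem_sup]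
    have htt : ρ t (ρ t v) = v := by rw [← rho_mul, ht, rho_one]
    refine ⟨(2 : D)⁻¹ • (v + ρ t v), ?_, (2 : D)⁻¹ • (v - ρ t v), ?_, ?_⟩
    · rw [LinearMap.mem_eqLocus, LinearMap.id_apply, map_smul, map_add, htt, add_comm]
    · rw [LinearMap.mem_eqLocus, LinearMap.neg_apply, LinearMap.id_apply, map_smul, map_sub, htt,
        ← smul_neg, neg_sub]
    · rw [← smul_add, add_add_sub_cancel, ← two_smul D v, smul_smul, inv_mul_cancel₀ two_ne_zero,
        one_smul]

variable [Module.Finite D V]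

/-- **Commuting involutions.** -/
theorem involution_cases (h2 : finrank D V ≤ 2) {t s : H} (ht : t * t = 1) (hs : s * s = 1)
    (hts : t * s = s * t) (ht1 : ¬ ∀ v, ρ t v = v) (ht2 : ¬ ∀ v, ρ t v = -v) :
    (∀ v, ρ s v = v) ∨ (∀ v, ρ s v = -v) ∨ (∀ v, ρ s v = ρ t v) ∨ (∀ v, ρ s v = - ρ t v) := by
  have hc := invol_decomp ρ ht
  set P := LinearMap.eqLocus (ρ t) LinearMap.id with hP
  set N := LinearMap.eqLocus (ρ t) (-LinearMap.id) with hN
  have hPm : ∀ v, v ∈ P ↔ ρ t v = v := fun v => by rw [hP, LinearMap.mem_eqLocus, LinearMap.id_apply]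
  have hNm : ∀ v, v ∈ N ↔ ρ t v = -v := fun v => by
    rw [hN, LinearMap.mem_eqLocus, LinearMap.neg_apply, LinearMap.id_apply]
  have hPne : P ≠ ⊥ := by
    intro h0
    have h4 : N = ⊤ := by
      have := hc.sup_eq_top
      rwa [h0, bot_sup_eq] at this
    exact ht2 fun v => (hNm v).1 (h4 ▸ Submodule.mem_top)
  have hNne : N ≠ ⊥ := by
    intro h0
    have h4 : P = ⊤ := by
      have := hc.sup_eq_top
      rwa [h0, sup_bot_eq] at this
    exact ht1 fun v => (hPm v).1 (h4 ▸ Submodule.mem_top)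
  have h5 := Submodule.finrank_add_eq_of_isCompl hc
  have h6 := finrank_pos_of_ne_bot hPne
  have h7 := finrank_pos_of_ne_bot hNne
  have hP1 : finrank D P = 1 := by omega
  have hN1 : finrank D N = 1 := by omega
  have hsP : ∀ v ∈ P, ρ s v ∈ P := by
    intro v hv
    rw [hPm] at hv ⊢
    rw [← rho_mul, hts, rho_mul, hv]
  have hsN : ∀ v ∈ N, ρ s v ∈ N := by
    intro v hv
    rw [hNm] at hv ⊢
    rw [← rho_mul, hts, rho_mul, hv, map_neg]
  have hall : ∀ v : V, ∃ a ∈ P, ∃ b ∈ N, a + b = v := fun v => by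
    have : v ∈ P ⊔ N := by rw [hc.sup_eq_top]; exact Submodule.mem_top
    exact Submodule.mem_sup.1 this
  rcases sign_on_line ρ hP1 hs hsP with h8 | h8 <;> rcases sign_on_line ρ hN1 hs hsN with h9 | h9
  · left
    intro v
    obtain ⟨a, ha, b, hb, rfl⟩ := hall v
    rw [map_add, h8 a ha, h9 b hb]
  · right; right; left
    intro v
    obtain ⟨a, ha, b, hb, rfl⟩ := hall v
    rw [map_add, map_add, h8 a ha, h9 b hb, (hPm a).1 ha, (hNm b).1 hb]
  · right; right; right
    intro v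
    obtain ⟨a, ha, b, hb, rfl⟩ := hall v
    rw [map_add, map_add, h8 a ha, h9 b hb, (hPm a).1 ha, (hNm b).1 hb, neg_add, neg_neg]
  · right; left
    intro v
    obtain ⟨a, ha, b, hb, rfl⟩ := hall v
    rw [map_add, h8 a ha, h9 b hb, neg_add]

end involutions

end Cfsg.Agent.H323.DivLin
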