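import Mathlib
import Cfsg.Agent.Solvable.Glauberman

/-!
# Groups all of whose π-subgroups are 2-closed, and π-homogeneity

Reduction of S3258 to minimal simple groups.
-/

set_option autoImplicit false

namespace Cfsg.Agent.H323.PiHom

open scoped Pointwise

universe u

/-- every prime divisor of `n` is in `π` -/
def PiNum (π : Set ℕ) (n : ℕ) : Prop := ∀ p : ℕ, p.Prime → p ∣ n → p ∈ π

/-- no prime divisor of `n` is in `π` -/
def PiNum' (π : Set ℕ) (n : ℕ) : Prop := ∀ p : ℕ, p.Prime → p ∣ n → p ∉ π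

/-- all Sylow 2-subgroups normal -/
def TwoCl (H : Type*) [Group H] : Prop := ∀ P : Sylow 2 H, (P : Subgroup H).Normal

/-- every `π`-subgroup is 2-closed -/
def TwoClosed (π : Set ℕ) (G : Type*) [Group G] : Prop :=
  ∀ H : Subgroup G, PiNum π (Nat.card ↥H) → TwoCl ↥H

/-- `π`-homogeneous, elementwise form -/
def Homog (π : Set ℕ) (G : Type*) [Group G] : Prop :=
  ∀ H : Subgroup G, PiNum π (Nat.card ↥H) → ∀ x ∈ Subgroup.normalizer (H : Set G),
    ∃ m : ℕ, m ≠ 0 ∧ PiNum π m ∧ x ^ m ∈ Subgroup.centralizer (H : Set G)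

/-- there is a normal Hall `π'`-subgroup -/
def PC (π : Set ℕ) (G : Type*) [Group G] : Prop :=
  ∃ K : Subgroup G, K.Normal ∧ PiNum' π (Nat.card ↥K) ∧ PiNum π K.index

section basic

variable {π : Set ℕ}

theorem PiNum.mul {a b : ℕ} (ha : PiNum π a) (hb : PiNum π b) : PiNum π (a * b) := by
  intro p hp h
  rcases (Nat.Prime.dvd_mul hp).1 h with h | h
  · exact ha p hp h
  · exact hb p hp h

theorem PiNum'.mul {a b : ℕ} (ha : PiNum' π a) (hb : PiNum' π b) : PiNum' π (a * b) := by
  intro p hp h
  rcases (Nat.Prime.dvd_mul hp).1 h with h | h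
  · exact ha p hp h
  · exact hb p hp h

theorem PiNum.dvd {a b : ℕ} (ha : PiNum π a) (h : b ∣ a) : PiNum π b :=
  fun p hp hb => ha p hp (hb.trans h)

theorem PiNum'.dvd {a b : ℕ} (ha : PiNum' π a) (h : b ∣ a) : PiNum' π b :=
  fun p hp hb => ha p hp (hb.trans h)

theorem coprime {a b : ℕ} (ha : PiNum π a) (hb : PiNum' π b) : a.Coprime b :=
  Nat.coprime_of_dvd fun p hp h1 h2 => hb p hp h2 (ha p hp h1)

theorem piNum_one : PiNum π 1 := by
  intro p hp h
  exact absurd (Nat.dvd_one.1 h) hp.one_lt.ne'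

theorem piNum'_one : PiNum' π 1 := by
  intro p hp h
  exact absurd (Nat.dvd_one.1 h) hp.one_lt.ne'

/-- surjective images of 2-closed groups are 2-closed -/
theorem TwoCl.of_surjective {H K : Type*} [Group H] [Group K] [Finite H] (h : TwoCl H)
    (f : H →* K) (hf : Function.Surjective f) : TwoCl K := by
  have : Finite K := Finite.of_surjective f hf
  intro P
  obtain ⟨Q⟩ : Nonempty (Sylow 2 H) := inferInstance
  have hQ : (Q : Subgroup H).Normal := h Q
  have hn : ((Q.mapSurjective hf : Sylow 2 K) : Subgroup K).Normal := by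
    rw [Sylow.coe_mapSurjective]
    exact hQ.map f hf
  obtain ⟨g, hg⟩ := MulAction.exists_smul_eq K (Q.mapSurjective hf : Sylow 2 K) P
  have h2 : (Q.mapSurjective hf : Sylow 2 K) = P := by
    rw [← hg]
    exact (Sylow.smul_eq_of_normal).symm
  rw [← h2]
  exact hn

theorem TwoCl.congr {H K : Type*} [Group H] [Group K] [Finite H] (h : TwoCl H)
    (f : H ≃* K) : TwoCl K := h.of_surjective f.toMonoidHom f.surjective

theorem TwoClosed.subgroup {G : Type*} [Group G] [Finite G] (h : TwoClosed π G) (M : Subgroup G) :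
    TwoClosed π ↥M := by
  intro H hH
  have e : ↥H ≃* ↥(H.map M.subtype) := H.equivMapOfInjective M.subtype M.subtype_injective
  have h1 : PiNum π (Nat.card ↥(H.map M.subtype)) := by
    rw [← Nat.card_congr e.toEquiv]; exact hH
  exact (h _ h1).congr e.symm

theorem Homog.subgroup {G : Type*} [Group G] [Finite G] (h : Homog π G) (M : Subgroup G) :
    Homog π ↥M := by
  intro H hH x hx
  have e : ↥H ≃* ↥(H.map M.subtype) := H.equivMapOfInjective M.subtype M.subtype_injective
  have h1 : PiNum π (Nat.card ↥(H.map M.subtype)) := by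
    rw [← Nat.card_congr e.toEquiv]; exact hH
  have hx' : (x : G) ∈ Subgroup.normalizer ((H.map M.subtype : Subgroup G) : Set G) := by
    rw [Subgroup.mem_normalizer_iff] at hx ⊢
    intro g
    constructor
    · rintro ⟨y, hy, rfl⟩
      exact ⟨x * y * x⁻¹, (hx y).1 hy, by simp⟩
    · rintro ⟨y, hy, hyg⟩
      have hg : g = ((x⁻¹ * y * x : ↥M) : G) := by
        have : (y : G) = x * g * (x : G)⁻¹ := hyg
        simp only [Subgroup.coe_mul, InvMemClass.coe_inv, this]
        group
      refine ⟨x⁻¹ * y * x, (hx _).2 ?_, hg.symm⟩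
      have : x * (x⁻¹ * y * x) * x⁻¹ = y := by group
      rw [this]; exact hy
  obtain ⟨m, hm0, hm, hxm⟩ := h _ h1 _ hx'
  refine ⟨m, hm0, hm, ?_⟩
  rw [Subgroup.mem_centralizer_iff] at hxm ⊢
  intro y hy
  have := hxm (y : G) ⟨y, hy, rfl⟩
  exact Subtype.ext (by simpa using this)

end basic


section quot

variable {π : Set ℕ}

/-- in a homogeneous group the `π'`-elements normalising a `π`-subgroup centralise it -/
theorem Homog.mem_centralizer {G : Type*} [Group G] (h : Homog π G)
    {H : Subgroup G} (hH : PiNum π (Nat.card ↥H)) {x : G} (hx : x ∈ Subgroup.normalizer (H : Set G))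
    (ho : PiNum' π (orderOf x)) : x ∈ Subgroup.centralizer (H : Set G) := by
  obtain ⟨m, hm0, hm, hxm⟩ := h H hH x hx
  have hc : m.Coprime (orderOf x) := coprime hm ho
  have : x ∈ Subgroup.zpowers (x ^ m) := by
    rw [← Nat.coprime_comm] at hc
    obtain ⟨k, hk⟩ := exists_pow_eq_self_of_coprime hc.symm
    exact ⟨(k : ℤ), by simpa using hk⟩
  obtain ⟨k, hk⟩ := this
  rw [← hk]
  exact Subgroup.zpow_mem _ hxm k

theorem card_comap_mk {G : Type*} [Group G] [Finite G] (N : Subgroup G) [N.Normal]
    (H : Subgroup (G ⧸ N)) :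
    Nat.card ↥(H.comap (QuotientGroup.mk' N)) = Nat.card ↥N * Nat.card ↥H := by
  have h1 := Subgroup.card_mul_index (H.comap (QuotientGroup.mk' N))
  have h2 : (H.comap (QuotientGroup.mk' N)).index = H.index :=
    Subgroup.index_comap_of_surjective _ (QuotientGroup.mk'_surjective N)
  have h3 := Subgroup.card_mul_index H
  have h4 : Nat.card (G ⧸ N) * Nat.card ↥N = Nat.card G := by
    rw [mul_comm, ← Subgroup.card_mul_index N]; rfl
  have h5 : 0 < H.index := Nat.pos_of_ne_zero (Subgroup.index_ne_zero_of_finite)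
  rw [h2, ← h4, ← h3] at h1
  have : Nat.card ↥(H.comap (QuotientGroup.mk' N)) * H.index =
      (Nat.card ↥N * Nat.card ↥H) * H.index := by rw [h1]; ring
  exact Nat.eq_of_mul_eq_mul_right h5 this

/-- the map from the preimage of `H` onto `H` -/
def comapMk {G : Type*} [Group G] (N : Subgroup G) [N.Normal] (H : Subgroup (G ⧸ N)) :
    ↥(H.comap (QuotientGroup.mk' N)) →* ↥H where
  toFun x := ⟨QuotientGroup.mk' N x.1, x.2⟩
  map_one' := by ext; simp
  map_mul' x y := by ext; simp

theorem comapMk_surjective {G : Type*} [Group G] (N : Subgroup G) [N.Normal]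
    (H : Subgroup (G ⧸ N)) : Function.Surjective (comapMk N H) := by
  rintro ⟨y, hy⟩
  obtain ⟨x, rfl⟩ := QuotientGroup.mk'_surjective N y
  exact ⟨⟨x, hy⟩, rfl⟩

theorem TwoClosed.quot_pi {G : Type*} [Group G] [Finite G] (h : TwoClosed π G) (N : Subgroup G)
    [N.Normal] (hN : PiNum π (Nat.card ↥N)) : TwoClosed π (G ⧸ N) := by
  intro H hH
  have h1 : PiNum π (Nat.card ↥(H.comap (QuotientGroup.mk' N))) := by
    rw [card_comap_mk]; exact hN.mul hH
  exact (h _ h1).of_surjective (comapMk N H) (comapMk_surjective N H)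

theorem mem_normalizer_comap {G : Type*} [Group G] (N : Subgroup G) [N.Normal]
    (H : Subgroup (G ⧸ N)) {x : G}
    (hx : QuotientGroup.mk' N x ∈ Subgroup.normalizer (H : Set (G ⧸ N))) :
    x ∈ Subgroup.normalizer ((H.comap (QuotientGroup.mk' N) : Subgroup G) : Set G) := by
  rw [Subgroup.mem_normalizer_iff] at hx ⊢
  intro g
  have := hx (QuotientGroup.mk' N g)
  simpa using this

theorem Homog.quot_pi {G : Type*} [Group G] [Finite G] (h : Homog π G) (N : Subgroup G)
    [N.Normal] (hN : PiNum π (Nat.card ↥N)) : Homog π (G ⧸ N) := by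
  intro H hH y hy
  obtain ⟨x, rfl⟩ := QuotientGroup.mk'_surjective N y
  have h1 : PiNum π (Nat.card ↥(H.comap (QuotientGroup.mk' N))) := by
    rw [card_comap_mk]; exact hN.mul hH
  obtain ⟨m, hm0, hm, hxm⟩ := h _ h1 x (mem_normalizer_comap N H hy)
  refine ⟨m, hm0, hm, ?_⟩
  rw [Subgroup.mem_centralizer_iff] at hxm ⊢
  intro z hz
  obtain ⟨z, rfl⟩ := QuotientGroup.mk'_surjective N z
  have := hxm z hz
  rw [← map_pow, ← map_mul, ← map_mul, this]

/-- a complement of a normal `π'`-subgroup in the preimage of a `π`-subgroup -/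
theorem exists_lift {G : Type*} [Group G] [Finite G] (N : Subgroup G)
    [N.Normal] (hN : PiNum' π (Nat.card ↥N)) (H : Subgroup (G ⧸ N)) (hH : PiNum π (Nat.card ↥H)) :
    ∃ L : Subgroup G, Nat.card ↥L = Nat.card ↥H ∧ L.map (QuotientGroup.mk' N) = H ∧
      N ⊔ L = H.comap (QuotientGroup.mk' N) := by
  set M := H.comap (QuotientGroup.mk' N) with hM
  have hNM : N ≤ M := by
    intro x hx
    rw [hM, Subgroup.mem_comap, (QuotientGroup.eq_one_iff x).2 hx |> (fun h => (h : QuotientGroup.mk' N x = 1))]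
    exact H.one_mem
  have hcN : Nat.card ↥(N.subgroupOf M) = Nat.card ↥N :=
    Nat.card_congr (Subgroup.subgroupOfEquivOfLe hNM).toEquiv
  have hcM : Nat.card ↥M = Nat.card ↥N * Nat.card ↥H := card_comap_mk N H
  have hidx : (N.subgroupOf M).index = Nat.card ↥H := by
    have h1 := Subgroup.card_mul_index (N.subgroupOf M)
    rw [hcN, hcM] at h1
    exact Nat.eq_of_mul_eq_mul_left Nat.card_pos h1
  have hcop : (Nat.card ↥(N.subgroupOf M)).Coprime (N.subgroupOf M).index := by
    rw [hcN, hidx]; exact (coprime hH hN).symm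
  obtain ⟨L, hL⟩ := Subgroup.exists_right_complement'_of_coprime hcop
  have hLc : Nat.card ↥L = Nat.card ↥H := by
    rw [← hidx]
    have h1 := hL.card_mul_card
    have h2 := Subgroup.card_mul_index (N.subgroupOf M)
    rw [← h2] at h1
    exact Nat.eq_of_mul_eq_mul_left Nat.card_pos h1
  have hsup : N ⊔ L.map M.subtype = M := by
    have h1 := hL.sup_eq_top
    have h2 := congrArg (Subgroup.map M.subtype) h1
    rw [Subgroup.map_sup, Subgroup.subgroupOf_map_subtype, inf_eq_left.2 hNM,
      ← MonoidHom.range_eq_map, Subgroup.range_subtype] at h2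
    exact h2
  refine ⟨L.map M.subtype, ?_, ?_, hsup⟩
  · rw [← hLc]
    exact (Nat.card_congr (L.equivMapOfInjective M.subtype M.subtype_injective).toEquiv).symm
  · have h1 : M.map (QuotientGroup.mk' N) = H :=
      Subgroup.map_comap_eq_self_of_surjective (QuotientGroup.mk'_surjective N) H
    have h2 : N.map (QuotientGroup.mk' N) = ⊥ := by
      rw [Subgroup.map_eq_bot_iff, QuotientGroup.ker_mk']
    have h3 := congrArg (Subgroup.map (QuotientGroup.mk' N)) hsup
    rw [Subgroup.map_sup, h2, bot_sup_eq, h1] at h3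
    exact h3

theorem TwoClosed.quot_pi' {G : Type*} [Group G] [Finite G] (h : TwoClosed π G) (N : Subgroup G)
    [N.Normal] (hN : PiNum' π (Nat.card ↥N)) : TwoClosed π (G ⧸ N) := by
  intro H hH
  obtain ⟨L, hLc, hLH, -⟩ := exists_lift N hN H hH
  have h1 : TwoCl ↥L := h L (by rw [hLc]; exact hH)
  subst hLH
  exact h1.of_surjective ((QuotientGroup.mk' N).subgroupMap L) ((QuotientGroup.mk' N).subgroupMap_surjective L)

theorem orderOf_lift {G : Type*} [Group G] [Finite G] (N : Subgroup G)
    [N.Normal] (x : G) : orderOf x ∣ orderOf (QuotientGroup.mk' N x) * Nat.card ↥N := by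
  apply orderOf_dvd_of_pow_eq_one
  rw [pow_mul]
  have h1 : x ^ orderOf (QuotientGroup.mk' N x) ∈ N := by
    rw [← QuotientGroup.eq_one_iff]
    have := pow_orderOf_eq_one (QuotientGroup.mk' N x)
    rw [← map_pow] at this
    exact this
  have h2 : (⟨_, h1⟩ : ↥N) ^ Nat.card ↥N = 1 := pow_card_eq_one'
  exact congrArg Subtype.val h2

theorem Homog.quot_pi' {G : Type*} [Group G] [Finite G] (h : Homog π G) (N : Subgroup G)
    [N.Normal] (hN : PiNum' π (Nat.card ↥N)) (hs : Group.IsSolvable ↥N) : Homog π (G ⧸ N) := by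
  intro H hH y hy
  obtain ⟨x, rfl⟩ := QuotientGroup.mk'_surjective N y
  obtain ⟨L, hLc, hLH, hLM⟩ := exists_lift N hN H hH
  have hx := mem_normalizer_comap N H hy
  -- conjugate of L
  have hLN : L ≤ Subgroup.normalizer (N : Set G) := by
    rw [Subgroup.normalizer_eq_top_iff.2 ‹N.Normal›]; exact le_top
  have hB : MulAut.conj x • L ≤ L ⊔ N := by
    rw [sup_comm, hLM]
    intro z hz
    obtain ⟨l, hl, rfl⟩ := Subgroup.mem_smul_pointwise_iff_exists _ _ _ |>.1 hz
    have hlM : l ∈ H.comap (QuotientGroup.mk' N) := by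
      rw [← hLM]; exact Subgroup.mem_sup_right hl
    simpa using (Subgroup.mem_normalizer_iff.1 hx l).1 hlM
  obtain ⟨k, hk, hkL⟩ := Cfsg.Agent.Solvable.Glauberman.exists_conj_of_le_sup L N hLN
    (by rw [hLc]; exact coprime hH hN) (Or.inr hs) (MulAut.conj x • L) hB
    (Nat.card_congr (Subgroup.equivSMul (MulAut.conj x) L).symm.toEquiv)
  -- y = k⁻¹ x normalises L
  have hyL : k⁻¹ * x ∈ Subgroup.normalizer (L : Set G) := by
    have h1 : MulAut.conj (k⁻¹ * x) • L = L := by
      rw [map_mul, mul_smul, ← hkL, map_inv, inv_smul_smul]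
    rw [Subgroup.mem_normalizer_iff]
    intro g
    constructor
    · intro hg
      have := Subgroup.smul_mem_pointwise_smul _ (MulAut.conj (k⁻¹ * x)) _ hg
      rw [h1, MulAut.smul_def, MulAut.conj_apply] at this
      exact this
    · intro hg
      rw [← h1] at hg
      have h2 : k⁻¹ * x * g * (k⁻¹ * x)⁻¹ = MulAut.conj (k⁻¹ * x) • g := by
        rw [MulAut.smul_def, MulAut.conj_apply]
      rw [h2, Subgroup.smul_mem_pointwise_smul_iff] at hg
      exact hg
  obtain ⟨m, hm0, hm, hxm⟩ := h L (by rw [hLc]; exact hH) _ hyL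
  refine ⟨m, hm0, hm, ?_⟩
  have hmk : QuotientGroup.mk' N x = QuotientGroup.mk' N (k⁻¹ * x) := by
    rw [map_mul, map_inv]
    have : QuotientGroup.mk' N k = 1 := (QuotientGroup.eq_one_iff k).2 hk
    rw [this]; simp
  rw [hmk, Subgroup.mem_centralizer_iff]
  rw [Subgroup.mem_centralizer_iff] at hxm
  intro z hz
  rw [← hLH] at hz
  obtain ⟨z, hz, rfl⟩ := hz
  have := hxm z hz
  rw [← map_pow, ← map_mul, ← map_mul, this]

end quot

section induction

variable {π : Set ℕ}

/-- the normal Hall subgroup of a normal subgroup, seen in the group -/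
theorem PC.map_normal {G : Type*} [Group G] [Finite G] {N : Subgroup G} [hN : N.Normal] (h : PC π ↥N) :
    ∃ K : Subgroup G, K.Normal ∧ K ≤ N ∧ PiNum' π (Nat.card ↥K) ∧ PiNum π (K.relIndex N) := by
  obtain ⟨K, hK, hc, hi⟩ := h
  have hmem : ∀ x : ↥N, x ∈ K ↔ PiNum' π (orderOf x) := by
    intro x
    constructor
    · intro hx
      exact hc.dvd (by
        have := orderOf_dvd_natCard (⟨x, hx⟩ : ↥K)
        rwa [Subgroup.orderOf_mk] at this)
    · intro hx
      rw [← QuotientGroup.eq_one_iff, ← orderOf_eq_one_iff]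
      have h1 : orderOf (x : ↥N ⧸ K) ∣ K.index := orderOf_dvd_natCard _
      have h2 : orderOf (x : ↥N ⧸ K) ∣ orderOf x := orderOf_map_dvd (QuotientGroup.mk' K) x
      exact Nat.eq_one_of_dvd_coprimes (coprime hi hx) h1 h2
  refine ⟨K.map N.subtype, ⟨?_⟩, Subgroup.map_subtype_le K, ?_, ?_⟩
  · rintro _ ⟨x, hx, rfl⟩ g
    refine ⟨⟨g * x * g⁻¹, hN.conj_mem _ x.2 g⟩, ?_, rfl⟩
    rw [SetLike.mem_coe, hmem] at hx ⊢
    have : orderOf (⟨g * x * g⁻¹, hN.conj_mem _ x.2 g⟩ : ↥N) = orderOf x := by
      rw [← Subgroup.orderOf_coe, ← Subgroup.orderOf_coe x]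
      have h3 : g * (x : G) * g⁻¹ = MulAut.conj g (x : G) := by rw [MulAut.conj_apply]
      show orderOf (g * (x : G) * g⁻¹) = _
      rw [h3]
      exact (MulAut.conj g).orderOf_eq (x : G)
    rwa [this]
  · rw [← Nat.card_congr (K.equivMapOfInjective N.subtype N.subtype_injective).toEquiv]
    exact hc
  · have h1 : (K.map N.subtype).subgroupOf N = K := by
      rw [Subgroup.subgroupOf, Subgroup.comap_map_eq_self_of_injective N.subtype_injective]
    rw [Subgroup.relIndex, h1]
    exact hi

theorem pc_of_normal {G : Type*} [Group G] [Finite G] {N : Subgroup G} [hN : N.Normal] (h : PC π ↥N)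
    (hi : PiNum π N.index) : PC π G := by
  obtain ⟨K, hK, hKN, hc, hr⟩ := h.map_normal
  refine ⟨K, hK, hc, ?_⟩
  rw [← Subgroup.relIndex_mul_index hKN]
  exact hr.mul hi

theorem pc_of_quot {G : Type*} [Group G] [Finite G] {N : Subgroup G} [hN : N.Normal]
    (hc : PiNum' π (Nat.card ↥N)) (h : PC π (G ⧸ N)) : PC π G := by
  obtain ⟨K, hK, hKc, hi⟩ := h
  refine ⟨K.comap (QuotientGroup.mk' N), inferInstance, ?_, ?_⟩
  · rw [card_comap_mk]; exact hc.mul hKc
  · rw [Subgroup.index_comap_of_surjective _ (QuotientGroup.mk'_surjective N)]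
    exact hi

/-- The induction: `π`-homogeneous groups whose `π`-subgroups are 2-closed are `π'`-closed, if this holds
for the simple groups. -/
theorem pc_of_homog (h2 : 2 ∈ π)
    (hFT : ∀ (G : Type u) [Group G] [Finite G], Odd (Nat.card G) → Group.IsSolvable G)
    (hsimple : ∀ (G : Type u) [Group G] [Finite G], IsSimpleGroup G → TwoClosed π G → Homog π G →
      (∀ H : Subgroup G, H ≠ ⊤ → PC π ↥H) → PC π G) (n : ℕ) :
    ∀ (G : Type u) [Group G] [Finite G], Nat.card G = n → TwoClosed π G → Homog π G → PC π G := by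
  induction n using Nat.strong_induction_on with
  | _ n ih =>
    intro G _ _ hn hT hH
    have hodd : ∀ (X : Type u) [Group X] [Finite X], PiNum' π (Nat.card X) → Group.IsSolvable X := by
      intro X _ _ hX
      apply hFT
      rw [Nat.odd_iff]
      by_contra hne
      have : 2 ∣ Nat.card X := by omega
      exact hX 2 Nat.prime_two this h2
    have hsub : ∀ H : Subgroup G, H ≠ ⊤ → PC π ↥H := by
      intro H hne
      have hlt : Nat.card ↥H < n := by
        rw [← hn]
        exact lt_of_le_of_ne (Subgroup.card_le_card_group H) (fun h => hne (Subgroup.eq_top_of_card_eq H h))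
      exact ih _ hlt _ rfl (hT.subgroup H) (hH.subgroup H)
    have hquot : ∀ N : Subgroup G, N ≠ ⊥ → Nat.card (G ⧸ N) < n := by
      intro N hne
      have h1 := Subgroup.card_mul_index N
      rw [hn] at h1
      have h3 : 1 < Nat.card ↥N := by
        rw [Nat.one_lt_iff_ne_zero_and_ne_one]
        exact ⟨Nat.card_pos.ne', fun h => hne (Subgroup.card_eq_one.1 h)⟩
      have h4 : 0 < N.index := Nat.pos_of_ne_zero Subgroup.index_ne_zero_of_finite
      have h5 : Nat.card (G ⧸ N) = N.index := rfl
      rw [h5, ← h1]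
      nlinarith
    by_cases hs : IsSimpleGroup G
    · exact hsimple G hs hT hH hsub
    by_cases htriv : Nontrivial G
    swap
    · rw [not_nontrivial_iff_subsingleton] at htriv
      refine ⟨⊤, inferInstance, ?_, ?_⟩
      · rw [Nat.card_of_subsingleton (1 : ↥(⊤ : Subgroup G))]; exact piNum'_one
      · rw [Subgroup.index_top]; exact piNum_one
    -- a proper nontrivial normal subgroup
    obtain ⟨N, hNn, hNb, hNt⟩ : ∃ N : Subgroup G, N.Normal ∧ N ≠ ⊥ ∧ N ≠ ⊤ := by
      by_contra hno
      push Not at hno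
      apply hs
      refine ⟨fun H hHn => ?_⟩
      by_cases h : H = ⊥
      · exact Or.inl h
      · exact Or.inr (hno H hHn h)
    obtain ⟨K, hKn, hKN, hKc, hKi⟩ := (hsub N hNt).map_normal
    by_cases hK : K = ⊥
    swap
    · refine pc_of_quot hKc (ih _ (hquot K hK) _ rfl (hT.quot_pi' K hKc) (hH.quot_pi' K hKc (hodd _ hKc)))
    -- `N` is a `π`-group
    have hNpi : PiNum π (Nat.card ↥N) := by
      rw [hK, Subgroup.relIndex_bot_left] at hKi
      exact hKi
    have hNnorm : Subgroup.normalizer (N : Set G) = ⊤ := Subgroup.normalizer_eq_top_iff.2 hNn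
    set C := Subgroup.centralizer (N : Set G) with hC
    have hCn : C.Normal := by rw [hC]; infer_instance
    have hCi : PiNum π C.index := by
      intro p hp hpd
      have : Fact p.Prime := ⟨hp⟩
      obtain ⟨x, hx⟩ := exists_prime_orderOf_dvd_card' (G := G ⧸ C) p hpd
      obtain ⟨x, rfl⟩ := QuotientGroup.mk'_surjective C x
      obtain ⟨m, hm0, hm, hxm⟩ := hH N hNpi x (by rw [hNnorm]; trivial)
      have h1 : (QuotientGroup.mk' C x) ^ m = 1 := by
        rw [← map_pow]
        exact (QuotientGroup.eq_one_iff _).2 hxm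
      have h3 := orderOf_dvd_of_pow_eq_one h1
      rw [hx] at h3
      exact hm p hp h3
    by_cases hCt : C = ⊤
    swap
    · exact pc_of_normal (hsub C hCt) hCi
    -- `N` is central
    obtain ⟨L, hLn, hLc, hLi⟩ := ih _ (hquot N hNb) _ rfl (hT.quot_pi N hNpi) (hH.quot_pi N hNpi)
    set M := L.comap (QuotientGroup.mk' N) with hM
    have hMn : M.Normal := by rw [hM]; infer_instance
    have hMi : M.index = L.index := Subgroup.index_comap_of_surjective _ (QuotientGroup.mk'_surjective N)
    by_cases hMt : M = ⊤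
    swap
    · exact pc_of_normal (hsub M hMt) (by rw [hMi]; exact hLi)
    have hcard : Nat.card ↥M = Nat.card ↥N * Nat.card ↥L := card_comap_mk N L
    rw [hMt, Subgroup.card_top] at hcard
    have hidx : N.index = Nat.card ↥L := by
      have h1 := Subgroup.card_mul_index N
      rw [hcard] at h1
      exact Nat.eq_of_mul_eq_mul_left Nat.card_pos h1
    obtain ⟨X, hX⟩ := Subgroup.exists_right_complement'_of_coprime (N := N)
      (by rw [hidx]; exact coprime hNpi hLc)
    have hXn : X.Normal := by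
      rw [← Subgroup.normalizer_eq_top_iff]
      rw [eq_top_iff, ← hX.sup_eq_top]
      refine sup_le ?_ Subgroup.le_normalizer
      intro z hz
      rw [Subgroup.mem_normalizer_iff]
      intro g
      have hg : g ∈ C := by rw [hCt]; trivial
      have h3 : z * g = g * z := Subgroup.mem_centralizer_iff.1 hg z hz
      rw [h3, mul_inv_cancel_right]
    have hXc : Nat.card ↥N * Nat.card ↥X = Nat.card G := hX.card_mul_card
    have hXi := Subgroup.card_mul_index X
    refine ⟨X, hXn, ?_, ?_⟩
    · have : Nat.card ↥X = Nat.card ↥L := by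
        rw [hcard] at hXc
        exact Nat.eq_of_mul_eq_mul_left Nat.card_pos hXc
      rw [this]; exact hLc
    · have : X.index = Nat.card ↥N := by
        rw [← hXc, mul_comm (Nat.card ↥N)] at hXi
        exact Nat.eq_of_mul_eq_mul_left Nat.card_pos hXi
      rw [this]; exact hNpi

/-- a group with a normal Hall `π'`-subgroup, `2 ∈ π`, and 2-closed `π`-subgroups is solvable -/
theorem solvable_of_pc (h2 : 2 ∈ π)
    (hFT : ∀ (G : Type u) [Group G] [Finite G], Odd (Nat.card G) → Group.IsSolvable G)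
    {G : Type u} [Group G] [Finite G] (hT : TwoClosed π G) (h : PC π G) : Group.IsSolvable G := by
  obtain ⟨K, hK, hKc, hi⟩ := h
  have hKs : Group.IsSolvable ↥K := by
    apply hFT
    rw [Nat.odd_iff]
    by_contra hne
    exact hKc 2 Nat.prime_two (by omega) h2
  obtain ⟨L, hL⟩ := Subgroup.exists_right_complement'_of_coprime (N := K) (coprime hi hKc).symm
  have hLc : Nat.card ↥L = K.index := by
    have h1 := hL.card_mul_card
    have h2 := Subgroup.card_mul_index K
    rw [← h2] at h1
    exact Nat.eq_of_mul_eq_mul_left Nat.card_pos h1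
  have hL2 : TwoCl ↥L := hT L (by rw [hLc]; exact hi)
  have hLs : Group.IsSolvable ↥L := by
    obtain ⟨P⟩ : Nonempty (Sylow 2 ↥L) := inferInstance
    have hP := hL2 P
    have h1 : Group.IsSolvable ↥(P : Subgroup ↥L) := by
      have := P.isPGroup'.isNilpotent
      infer_instance
    have h3 : Group.IsSolvable (↥L ⧸ (P : Subgroup ↥L)) := by
      apply hFT
      have h4 := P.not_dvd_index
      rw [Nat.odd_iff]
      have : Nat.card (↥L ⧸ (P : Subgroup ↥L)) = (P : Subgroup ↥L).index := rfl
      rw [this]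
      omega
    exact Group.isSolvable_of_ker_le_range (P : Subgroup ↥L).subtype (QuotientGroup.mk' (P : Subgroup ↥L))
      (by rw [QuotientGroup.ker_mk', Subgroup.range_subtype])
  have hQs : Group.IsSolvable (G ⧸ K) := by
    have hsurj : Function.Surjective ((QuotientGroup.mk' K).comp L.subtype) := by
      intro y
      obtain ⟨g, rfl⟩ := QuotientGroup.mk'_surjective K y
      have hg : g ∈ K ⊔ L := by rw [hL.sup_eq_top]; trivial
      rw [Subgroup.mem_sup_of_normal_left] at hg
      obtain ⟨k, hk, l, hl, rfl⟩ := hg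
      refine ⟨⟨l, hl⟩, ?_⟩
      have : QuotientGroup.mk' K k = 1 := (QuotientGroup.eq_one_iff k).2 hk
      rw [map_mul, this, one_mul]
      rfl
    exact Group.isSolvable_of_surjective hsurj
  exact Group.isSolvable_of_ker_le_range K.subtype (QuotientGroup.mk' K)
      (by rw [QuotientGroup.ker_mk', Subgroup.range_subtype])

end induction

end Cfsg.Agent.H323.PiHom
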