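import Mathlib
import Cfsg.Agent.H323.PiHom
import Cfsg.Agent.LieRecognition.SzMatrix

/-!
# Concrete minimal simple groups are not π-homogeneous with 2-closed π-subgroups
-/

set_option autoImplicit false

namespace Cfsg.Agent.H323.PiHom

open scoped Pointwise

variable {π : Set ℕ}

section transfer

variable {G X : Type*} [Group G] [Group X]

theorem TwoClosed.of_equiv [Finite G] (h : TwoClosed π G) (e : G ≃* X) : TwoClosed π X := by
  intro H hH
  have e1 : ↥H ≃* ↥(H.map e.symm.toMonoidHom) :=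
    H.equivMapOfInjective e.symm.toMonoidHom e.symm.injective
  have h1 : PiNum π (Nat.card ↥(H.map e.symm.toMonoidHom)) := by
    rw [← Nat.card_congr e1.toEquiv]; exact hH
  exact (h _ h1).congr e1.symm

theorem Homog.of_equiv (h : Homog π G) (e : G ≃* X) : Homog π X := by
  intro H hH x hx
  have e1 : ↥H ≃* ↥(H.map e.symm.toMonoidHom) :=
    H.equivMapOfInjective e.symm.toMonoidHom e.symm.injective
  have h1 : PiNum π (Nat.card ↥(H.map e.symm.toMonoidHom)) := by
    rw [← Nat.card_congr e1.toEquiv]; exact hH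
  have hm : ∀ g : G, g ∈ H.map e.symm.toMonoidHom ↔ e g ∈ H := by
    intro g
    constructor
    · rintro ⟨y, hy, rfl⟩
      simpa using hy
    · intro hg
      exact ⟨e g, hg, by simp⟩
  have hx' : e.symm x ∈ Subgroup.normalizer ((H.map e.symm.toMonoidHom : Subgroup G) : Set G) := by
    rw [Subgroup.mem_normalizer_iff] at hx ⊢
    intro g
    rw [hm, hm, hx (e g)]
    simp
  obtain ⟨m, hm0, hmp, hxm⟩ := h _ h1 _ hx'
  refine ⟨m, hm0, hmp, ?_⟩
  rw [Subgroup.mem_centralizer_iff] at hxm ⊢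
  intro y hy
  have := hxm (e.symm y) ((hm _).2 (by simpa using hy))
  have h2 := congrArg e this
  simpa using h2

end transfer

section contra

variable {G : Type*} [Group G] [Finite G]

theorem piNum_of_isPGroup {p : ℕ} (hp : p.Prime) (hpi : p ∈ π) {U : Subgroup G} (hU : IsPGroup p ↥U) :
    PiNum π (Nat.card ↥U) := by
  have : Fact p.Prime := ⟨hp⟩
  obtain ⟨n, hn⟩ := IsPGroup.iff_card.1 hU
  intro q hq hd
  rw [hn] at hd
  have := (Nat.prime_dvd_prime_iff_eq hq hp).1 (hq.dvd_of_dvd_pow hd)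
  rwa [this]

theorem mem_normalizer_of_conj_mem (V : Subgroup G) {g : G} (h : ∀ x ∈ V, g * x * g⁻¹ ∈ V) :
    g ∈ Subgroup.normalizer (V : Set G) := by
  rw [Subgroup.mem_normalizer_iff]
  intro x
  refine ⟨h x, fun hx => ?_⟩
  let f : ↥V → ↥V := fun x => ⟨g * x * g⁻¹, h x x.2⟩
  have hf : Function.Injective f := by
    intro a b hab
    have := congrArg Subtype.val hab
    simp only [f] at this
    exact Subtype.ext (by simpa using this)
  obtain ⟨y, hy⟩ := (Finite.injective_iff_surjective.1 hf) ⟨_, hx⟩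
  have h1 := congrArg Subtype.val hy
  simp only [f] at h1
  have : (y : G) = x := by simpa using h1
  rw [← this]; exact y.2

/-- an element of prime order `s` acting nontrivially on a `π`-subgroup: `s ∈ π` -/
theorem mem_pi_of_act (hH : Homog π G) {U : Subgroup G} (hU : PiNum π (Nat.card ↥U)) {s : ℕ}
    (hs : s.Prime) {h : G} (ho : orderOf h = s) (hn : ∀ x ∈ U, h * x * h⁻¹ ∈ U) {u : G} (hu : u ∈ U)
    (hc : h * u ≠ u * h) : s ∈ π := by
  by_contra hsp
  have h1 : PiNum' π (orderOf h) := by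
    rw [ho]
    intro q hq hd
    rw [(Nat.prime_dvd_prime_iff_eq hq hs).1 hd]
    exact hsp
  have h2 := hH.mem_centralizer hU (mem_normalizer_of_conj_mem U hn) h1
  rw [Subgroup.mem_centralizer_iff] at h2
  exact hc (h2 u hu).symm

/-- the dihedral subgroup generated by `h` and an involution inverting it -/
def dih (h w : G) (hw : w * w = 1) (hi : w * h = h⁻¹ * w) : Subgroup G where
  carrier := {x | ∃ i : ℤ, x = h ^ i ∨ x = h ^ i * w}
  one_mem' := ⟨0, Or.inl (by simp)⟩
  mul_mem' := by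
    have hz : ∀ i : ℤ, w * h ^ i = h ^ (-i) * w := by
      intro i
      have h1 : w * h * w⁻¹ = h⁻¹ := by rw [hi, mul_inv_cancel_right]
      have h2 : w * h ^ i * w⁻¹ = h ^ (-i) := by
        have h3 := congrArg (fun x : G => x ^ i) h1
        simp only [inv_zpow'] at h3
        rw [← h3]
        exact (conj_zpow).symm
      rw [← h2, inv_mul_cancel_right]
    rintro x y ⟨i, rfl | rfl⟩ ⟨j, rfl | rfl⟩
    · exact ⟨i + j, Or.inl (zpow_add h i j).symm⟩
    · exact ⟨i + j, Or.inr (by rw [← mul_assoc, ← zpow_add])⟩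
    · exact ⟨i - j, Or.inr (by rw [mul_assoc, hz, ← mul_assoc, ← zpow_add, sub_eq_add_neg])⟩
    · exact ⟨i - j, Or.inl (by
        rw [mul_assoc, ← mul_assoc w, hz, mul_assoc, hw, mul_one, ← zpow_add, sub_eq_add_neg])⟩
  inv_mem' := by
    have hz : ∀ i : ℤ, w * h ^ i = h ^ (-i) * w := by
      intro i
      have h1 : w * h * w⁻¹ = h⁻¹ := by rw [hi, mul_inv_cancel_right]
      have h2 : w * h ^ i * w⁻¹ = h ^ (-i) := by
        have h3 := congrArg (fun x : G => x ^ i) h1
        simp only [inv_zpow'] at h3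
        rw [← h3]
        exact (conj_zpow).symm
      rw [← h2, inv_mul_cancel_right]
    have hw' : w⁻¹ = w := inv_eq_of_mul_eq_one_left hw
    rintro x ⟨i, rfl | rfl⟩
    · exact ⟨-i, Or.inl (by rw [zpow_neg])⟩
    · exact ⟨i, Or.inr (by rw [mul_inv_rev, hw', ← zpow_neg, hz, neg_neg])⟩

/-- an element of odd prime order `s` inverted by an involution: `s ∉ π` -/
theorem not_mem_pi_of_invert (h2 : 2 ∈ π) (hT : TwoClosed π G) {s : ℕ}
    (hs : s.Prime) (hs2 : s ≠ 2) {h w : G} (ho : orderOf h = s) (hw : w * w = 1) (hw1 : w ≠ 1)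
    (hi : w * h = h⁻¹ * w) : s ∉ π := by
  intro hsp
  set D := dih h w hw hi with hD
  have hhD : h ∈ D := ⟨1, Or.inl (by simp)⟩
  have hwD : w ∈ D := ⟨0, Or.inr (by simp)⟩
  have hpi : PiNum π (Nat.card ↥D) := by
    intro q hq hd
    have : Fact q.Prime := ⟨hq⟩
    obtain ⟨⟨x, hx⟩, hxo⟩ := exists_prime_orderOf_dvd_card' (G := ↥D) q hd
    rw [Subgroup.orderOf_mk] at hxo
    obtain ⟨i, rfl | rfl⟩ := hx
    · have h1 : (h ^ i) ^ s = 1 := by
        rw [← zpow_natCast, ← zpow_mul, mul_comm, zpow_mul, zpow_natCast, ← ho, pow_orderOf_eq_one,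
          one_zpow]
      have h3 := orderOf_dvd_of_pow_eq_one h1
      rw [hxo] at h3
      rw [(Nat.prime_dvd_prime_iff_eq hq hs).1 h3]
      exact hsp
    · have hz : w * h ^ i = h ^ (-i) * w := by
        have h1 : w * h * w⁻¹ = h⁻¹ := by rw [hi, mul_inv_cancel_right]
        have h2 : w * h ^ i * w⁻¹ = h ^ (-i) := by
          have h3 := congrArg (fun x : G => x ^ i) h1
          simp only [inv_zpow'] at h3
          rw [← h3]
          exact (conj_zpow).symm
        rw [← h2, inv_mul_cancel_right]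
      have h1 : (h ^ i * w) ^ 2 = 1 := by
        rw [sq, mul_assoc, ← mul_assoc w, hz, mul_assoc, hw, mul_one, ← zpow_add, add_neg_cancel,
          zpow_zero]
      have h3 := orderOf_dvd_of_pow_eq_one h1
      rw [hxo] at h3
      rw [(Nat.prime_dvd_prime_iff_eq hq Nat.prime_two).1 h3]
      exact h2
  have hcl := hT D hpi
  -- the involution lies in the normal Sylow 2-subgroup
  have hwp : IsPGroup 2 ↥(Subgroup.zpowers (⟨w, hwD⟩ : ↥D)) := by
    apply IsPGroup.of_card (n := 1)
    rw [Nat.card_zpowers, pow_one]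
    apply orderOf_eq_prime
    · exact Subtype.ext (by simpa [sq] using hw)
    · intro h1
      exact hw1 (congrArg Subtype.val h1)
  obtain ⟨P, hP⟩ := hwp.exists_le_sylow
  have hPn := hcl P
  have hwP : (⟨w, hwD⟩ : ↥D) ∈ (P : Subgroup ↥D) := hP (Subgroup.mem_zpowers _)
  have hcP := (P : Subgroup ↥D).mul_mem (hPn.conj_mem _ hwP ⟨h, hhD⟩) ((P : Subgroup ↥D).inv_mem hwP)
  obtain ⟨k, hk⟩ := P.isPGroup' ⟨_, hcP⟩
  have h3 := congrArg (fun x => ((x : ↥(P : Subgroup ↥D)) : ↥D).1) hk
  replace h3 : (h * w * h⁻¹ * w⁻¹) ^ 2 ^ k = 1 := h3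
  have h4 : h * w * h⁻¹ * w⁻¹ = h ^ 2 := by
    have h5 : w * h⁻¹ = h * w := by
      have h6 : w * h * w⁻¹ = h⁻¹ := by rw [hi, mul_inv_cancel_right]
      have h7 : w * h⁻¹ * w⁻¹ = h := by
        have := congrArg (fun x : G => x⁻¹) h6
        simp only [mul_inv_rev, inv_inv] at this
        rw [← mul_assoc] at this
        exact this
      calc w * h⁻¹ = (w * h⁻¹ * w⁻¹) * w := by rw [inv_mul_cancel_right]
        _ = h * w := by rw [h7]
    rw [mul_assoc h, h5, ← mul_assoc, mul_inv_cancel_right, sq]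
  rw [h4, ← pow_mul] at h3
  have h5 := orderOf_dvd_of_pow_eq_one h3
  rw [ho] at h5
  rcases (Nat.Prime.dvd_mul hs).1 h5 with h6 | h6
  · exact hs2 ((Nat.prime_dvd_prime_iff_eq hs Nat.prime_two).1 h6)
  · exact hs2 ((Nat.prime_dvd_prime_iff_eq hs Nat.prime_two).1 (hs.dvd_of_dvd_pow h6))

/-- the four-group generated by two commuting elements of order dividing two -/
def four (a b : G) (ha : a * a = 1) (hb : b * b = 1) (hab : a * b = b * a) : Subgroup G where
  carrier := {x | x = 1 ∨ x = a ∨ x = b ∨ x = a * b}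
  one_mem' := Or.inl rfl
  mul_mem' := by
    have h1 : a * (a * b) = b := by rw [← mul_assoc, ha, one_mul]
    have h2 : b * (a * b) = a := by rw [hab, ← mul_assoc, hb, one_mul]
    have h3 : a * b * a = b := by rw [hab, mul_assoc, ha, mul_one]
    have h4 : a * b * b = a := by rw [mul_assoc, hb, mul_one]
    have h5 : a * b * (a * b) = 1 := by rw [mul_assoc, h2, ha]
    rintro x y (rfl | rfl | rfl | rfl) (rfl | rfl | rfl | rfl) <;>
      simp [ha, hb, h1, h2, h3, h4, h5, ← hab]
  inv_mem' := by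
    have ha' : a⁻¹ = a := inv_eq_of_mul_eq_one_left ha
    have hb' : b⁻¹ = b := inv_eq_of_mul_eq_one_left hb
    rintro x (rfl | rfl | rfl | rfl)
    · simp
    · simp [ha']
    · simp [hb']
    · simp [ha', hb', ← hab]

theorem four_isPGroup (a b : G) (ha : a * a = 1) (hb : b * b = 1) (hab : a * b = b * a) :
    IsPGroup 2 ↥(four a b ha hb hab) := by
  rintro ⟨x, hx⟩
  refine ⟨1, Subtype.ext ?_⟩
  simp only [pow_one, SubmonoidClass.mk_pow, OneMemClass.coe_one]
  rcases hx with rfl | rfl | rfl | rfl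
  · simp
  · rw [sq, ha]
  · rw [sq, hb]
  · rw [sq, mul_assoc, ← mul_assoc b, ← hab, mul_assoc, hb, mul_one, ha]

/-- an element of order three permuting the involutions of a four-group -/
theorem three_mem_pi (h2 : 2 ∈ π) (hH : Homog π G) {a b c : G} (ha : a * a = 1) (hb : b * b = 1)
    (hab : a * b = b * a) (hc : orderOf c = 3) (hca : c * a = b * c) (hcb : c * b = a * b * c)
    (hne : a ≠ b) : 3 ∈ π := by
  refine mem_pi_of_act hH (piNum_of_isPGroup Nat.prime_two h2 (four_isPGroup a b ha hb hab))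
    Nat.prime_three hc ?_ (u := a) (Or.inr (Or.inl rfl)) ?_
  · rintro x (rfl | rfl | rfl | rfl)
    · left; simp
    · right; right; left; rw [hca]; simp
    · right; right; right; rw [hcb]; simp
    · right; left
      rw [← mul_assoc, hca, mul_assoc b, hcb, ← mul_assoc, ← mul_assoc, ← hab, mul_assoc a b b, hb]
      simp
  · intro h
    rw [hca] at h
    exact hne (mul_right_cancel h).symm

end contra

section concrete

/-- the basic contradiction -/
theorem false_of (h2 : 2 ∈ π) {G : Type*} [Group G] [Finite G] (hT : TwoClosed π G) (hH : Homog π G)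
    {U : Subgroup G} (hU : PiNum π (Nat.card ↥U)) {s : ℕ} (hs : s.Prime) (hs2 : s ≠ 2) {h w u : G}
    (ho : orderOf h = s) (hn : ∀ x ∈ U, h * x * h⁻¹ ∈ U) (hu : u ∈ U) (hc : h * u ≠ u * h)
    (hw : w * w = 1) (hw1 : w ≠ 1) (hi : w * h = h⁻¹ * w) : False :=
  not_mem_pi_of_invert h2 hT hs hs2 ho hw hw1 hi (mem_pi_of_act hH hU hs ho hn hu hc)

section suzuki

open Cfsg.Agent.LieRecognition.SzMatrix

theorem not_suzuki (h2 : 2 ∈ π) {F : Type} [Field F] [Fintype F] {m : ℕ} (hm : 1 ≤ m)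
    (hF : Fintype.card F = 2 ^ (2 * m + 1)) (hT : TwoClosed π ↥(Cfsg.Lie.Sz F (2 ^ (m + 1))))
    (hH : Homog π ↥(Cfsg.Lie.Sz F (2 ^ (m + 1)))) : False := by
  classical
  have H := good hF
  have hq : 8 ≤ 2 ^ (2 * m + 1) := by
    have : 2 ^ 3 ≤ 2 ^ (2 * m + 1) := Nat.pow_le_pow_right (by norm_num) (by omega)
    simpa using this
  have hne : Nat.card Fˣ ≠ 1 := by
    rw [Nat.card_units, Nat.card_eq_fintype_card, hF]; omega
  set s := (Nat.card Fˣ).minFac with hs
  have hsp : s.Prime := Nat.minFac_prime hne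
  have hsd : s ∣ Nat.card Fˣ := Nat.minFac_dvd _
  have hs2 : s ≠ 2 := by
    intro h
    rw [h, Nat.card_units, Nat.card_eq_fintype_card, hF] at hsd
    have h2 : 2 ∣ 2 ^ (2 * m + 1) := dvd_pow_self 2 (by omega)
    omega
  have : Fact s.Prime := ⟨hsp⟩
  obtain ⟨k, hk⟩ := exists_prime_orderOf_dvd_card' (G := Fˣ) s hsd
  have hk1 : k ≠ 1 := by
    rintro rfl
    rw [orderOf_one] at hk
    exact hsp.one_lt.ne hk
  have hdpow : ∀ n : ℕ, (H.d k) ^ n = H.d (k ^ n) := by
    intro n
    induction n with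
    | zero => rw [pow_zero, pow_zero, H.d_one]
    | succ n ih => rw [pow_succ (H.d k), pow_succ k, ih, H.d_mul]
  have hdo : orderOf (H.d k) = s := by
    apply orderOf_eq_prime
    · rw [hdpow, ← hk, pow_orderOf_eq_one, H.d_one]
    · intro h
      rw [← H.d_one] at h
      exact hk1 (H.d_inj h)
  have hUpi : PiNum π (Nat.card ↥H.unip) := by
    rw [H.card_unip, Nat.card_eq_fintype_card, hF]
    intro q hq hd
    have := (Nat.prime_dvd_prime_iff_eq hq Nat.prime_two).1
      (hq.dvd_of_dvd_pow (hq.dvd_of_dvd_pow hd))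
    rw [this]; exact h2
  refine false_of h2 hT hH hUpi hsp hs2 hdo
    (fun x hx => H.borel_normalizes _ (H.d_mem_borel k) x hx) (H.u_mem_unip 0 1) ?_ H.w_mul_w ?_ ?_
  · rw [H.d_mul_u]
    intro h
    have h1 := mul_right_cancel h
    have h3 := (H.u_inj h1).2
    rw [one_mul] at h3
    apply hk1
    apply Units.ext
    have h4 := congrArg (theta hF) h3
    rw [H.sq, map_one] at h4
    have h5 : ((k : F)) ^ 2 = 1 := h4
    have h6 : k ^ 2 = 1 := Units.ext (by simpa using h5)
    have h7 := orderOf_dvd_of_pow_eq_one h6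
    rw [hk] at h7
    exact absurd ((Nat.prime_dvd_prime_iff_eq hsp Nat.prime_two).1 h7) hs2
  · intro h
    exact H.w_not_mem_borel (by rw [h]; exact H.borel.one_mem)
  · rw [H.w_mul_d, H.d_inv]

end suzuki

end concrete

end Cfsg.Agent.H323.PiHom
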