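import Mathlib
import Cfsg.Agent.H323.PiHomData

/-!
# `PSL(2,q)` and `PSL(3,3)`: elements for the contradiction with π-homogeneity
-/

set_option autoImplicit false

namespace Cfsg.Agent.H323.PiHom

open Matrix

variable {π : Set ℕ}

section quotient

variable {n : Type*} [Fintype n] [DecidableEq n] {F : Type*} [Field F]

/-- the projection -/
abbrev q : Matrix.SpecialLinearGroup n F →* Matrix.ProjectiveSpecialLinearGroup n F :=
  QuotientGroup.mk' (Subgroup.center (Matrix.SpecialLinearGroup n F))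

theorem q_eq_iff (A B : Matrix.SpecialLinearGroup n F) :
    q A = q B ↔ ∃ r : F, r ^ Fintype.card n = 1 ∧ B.1 = r • A.1 := by
  have h1 : q A = q B ↔ A⁻¹ * B ∈ Subgroup.center (Matrix.SpecialLinearGroup n F) :=
    QuotientGroup.eq
  rw [h1, Matrix.SpecialLinearGroup.mem_center_iff]
  constructor
  · rintro ⟨r, hr, h⟩
    refine ⟨r, hr, ?_⟩
    have h2 : B = A * (A⁻¹ * B) := by group
    have h3 : B.1 = A.1 * (A⁻¹ * B).1 := by
      conv_lhs => rw [h2]
      rfl
    rw [h3, ← h]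
    ext i j
    simp [Matrix.mul_apply, Matrix.scalar_apply, Matrix.diagonal_apply, mul_comm]
  · rintro ⟨r, hr, h⟩
    refine ⟨r, hr, ?_⟩
    have h3 : (A⁻¹ * B).1 = (A⁻¹).1 * B.1 := rfl
    have h4 : (A⁻¹).1 * A.1 = 1 := by
      have : (A⁻¹ * A).1 = (1 : Matrix n n F) := by rw [inv_mul_cancel]; rfl
      exact this
    rw [h3, h, Matrix.mul_smul, h4]
    ext i j
    simp [Matrix.scalar_apply, Matrix.diagonal_apply, Matrix.one_apply]

theorem q_eq_of {A B : Matrix.SpecialLinearGroup n F} (h : A = B) : q A = q B := by rw [h]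

theorem q_mul (A B : Matrix.SpecialLinearGroup n F) : q A * q B = q (A * B) := (map_mul q A B).symm

end quotient

section two

variable {F : Type*} [Field F]

/-- a matrix of determinant one -/
def sl2 (a b c d : F) (h : a * d - b * c = 1) : Matrix.SpecialLinearGroup (Fin 2) F :=
  ⟨!![a, b; c, d], by rw [Matrix.det_fin_two_of]; exact h⟩

theorem sl2_val (a b c d : F) (h : a * d - b * c = 1) : (sl2 a b c d h).1 = !![a, b; c, d] := rfl

theorem sl2_mul (a b c d : F) (h : a * d - b * c = 1) (a' b' c' d' : F) (h' : a' * d' - b' * c' = 1) :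
    sl2 a b c d h * sl2 a' b' c' d' h' =
      sl2 (a * a' + b * c') (a * b' + b * d') (c * a' + d * c') (c * b' + d * d')
        (by linear_combination (a * d - b * c) * h' + h) := by
  apply Subtype.ext
  show !![a, b; c, d] * !![a', b'; c', d'] = _
  rw [Matrix.mul_fin_two]
  rfl

theorem sl2_one : (1 : Matrix.SpecialLinearGroup (Fin 2) F) = sl2 1 0 0 1 (by ring) := by
  apply Subtype.ext
  show (1 : Matrix (Fin 2) (Fin 2) F) = _
  rw [Matrix.one_fin_two]
  rfl

theorem sl2_inv (a b c d : F) (h : a * d - b * c = 1) :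
    (sl2 a b c d h)⁻¹ = sl2 d (-b) (-c) a (by linear_combination h) := by
  rw [inv_eq_iff_mul_eq_one, sl2_mul, sl2_one]
  apply Subtype.ext
  rw [sl2_val, sl2_val]
  ext i j
  fin_cases i <;> fin_cases j <;> simp <;>
    first | ring1 | linear_combination h

theorem q_sl2_eq (a b c d : F) (h : a * d - b * c = 1) (a' b' c' d' : F) (h' : a' * d' - b' * c' = 1) :
    q (sl2 a b c d h) = q (sl2 a' b' c' d' h') ↔
      ∃ r : F, r ^ 2 = 1 ∧ a' = r * a ∧ b' = r * b ∧ c' = r * c ∧ d' = r * d := by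
  rw [q_eq_iff]
  refine exists_congr fun r => ?_
  rw [Fintype.card_fin, sl2_val, sl2_val]
  refine and_congr Iff.rfl ?_
  constructor
  · intro h
    exact ⟨by simpa using congrFun (congrFun h 0) 0, by simpa using congrFun (congrFun h 0) 1,
      by simpa using congrFun (congrFun h 1) 0, by simpa using congrFun (congrFun h 1) 1⟩
  · rintro ⟨h1, h2, h3, h4⟩
    ext i j
    fin_cases i <;> fin_cases j <;> simp [h1, h2, h3, h4]

theorem q_sl2_eq_pos {a b c d : F} {h : a * d - b * c = 1} {a' b' c' d' : F} {h' : a' * d' - b' * c' = 1}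
    (h1 : a' = a) (h2 : b' = b) (h3 : c' = c) (h4 : d' = d) :
    q (sl2 a b c d h) = q (sl2 a' b' c' d' h') :=
  (q_sl2_eq _ _ _ _ _ _ _ _ _ _).2 ⟨1, by ring, by simpa using h1, by simpa using h2,
    by simpa using h3, by simpa using h4⟩

theorem q_sl2_eq_neg {a b c d : F} {h : a * d - b * c = 1} {a' b' c' d' : F} {h' : a' * d' - b' * c' = 1}
    (h1 : a' = -a) (h2 : b' = -b) (h3 : c' = -c) (h4 : d' = -d) :
    q (sl2 a b c d h) = q (sl2 a' b' c' d' h') :=
  (q_sl2_eq _ _ _ _ _ _ _ _ _ _).2 ⟨-1, by ring, by simpa using h1, by simpa using h2,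
    by simpa using h3, by simpa using h4⟩

theorem one_eq_q : (1 : Matrix.ProjectiveSpecialLinearGroup (Fin 2) F) =
    q (sl2 (1 : F) 0 0 1 (by ring)) := by
  rw [← sl2_one]; exact (map_one q).symm

/-- **Borel subgroup versus torus normaliser** in `PSL(2,q)`. -/
theorem not_psl2_of_dvd (h2 : 2 ∈ π) [Fintype F] {p s : ℕ} (hp : p.Prime) (hpπ : p ∈ π) {k : ℕ}
    (hF : Fintype.card F = p ^ k) (hs : s.Prime) (hs2 : s ≠ 2) (hsd : s ∣ Fintype.card F - 1)
    (hT : TwoClosed π (Matrix.ProjectiveSpecialLinearGroup (Fin 2) F))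
    (hH : Homog π (Matrix.ProjectiveSpecialLinearGroup (Fin 2) F)) : False := by
  classical
  have : Fact s.Prime := ⟨hs⟩
  have hsd' : s ∣ Nat.card Fˣ := by rw [Nat.card_units, Nat.card_eq_fintype_card]; exact hsd
  obtain ⟨v, hv⟩ := exists_prime_orderOf_dvd_card' (G := Fˣ) s hsd'
  set u : F := (v : F) with hu
  have hu0 : u ≠ 0 := v.ne_zero
  have hus : u ^ s = 1 := by
    rw [hu, ← Units.val_pow_eq_pow_val, ← hv, pow_orderOf_eq_one]; rfl
  have hu2 : u * u ≠ 1 := by
    intro h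
    have h6 : v ^ 2 = 1 := Units.ext (by rw [Units.val_pow_eq_pow_val, sq]; exact h)
    have h7 := orderOf_dvd_of_pow_eq_one h6
    rw [hv] at h7
    exact hs2 ((Nat.prime_dvd_prime_iff_eq hs Nat.prime_two).1 h7)
  set h : Matrix.SpecialLinearGroup (Fin 2) F := sl2 u 0 0 u⁻¹ (by field_simp; ring) with hh
  set w : Matrix.SpecialLinearGroup (Fin 2) F := sl2 0 1 (-1) 0 (by ring) with hw
  have hpow : ∀ n : ℕ, h ^ n = sl2 (u ^ n) 0 0 (u ^ n)⁻¹ (by field_simp; ring) := by
    intro n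
    induction n with
    | zero =>
      rw [pow_zero, sl2_one]
      apply Subtype.ext
      rw [sl2_val, sl2_val]; simp
    | succ n ih =>
      rw [pow_succ, ih, hh, sl2_mul]
      apply Subtype.ext
      rw [sl2_val, sl2_val]
      simp [pow_succ, mul_comm]
  have ho : orderOf (q h) = s := by
    apply orderOf_eq_prime
    · rw [← map_pow, hpow, one_eq_q]
      exact q_sl2_eq_pos (by rw [hus]) rfl rfl (by rw [hus]; simp)
    · rw [one_eq_q, hh]
      intro h1
      obtain ⟨r, hr, h3, -, -, h4⟩ := (q_sl2_eq _ _ _ _ _ _ _ _ _ _).1 h1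
      apply hu2
      have h5 : r * u = r * u⁻¹ := by rw [← h3, ← h4]
      have hr0 : r ≠ 0 := by rintro rfl; simp at h3
      have h6 := mul_left_cancel₀ hr0 h5
      calc u * u = u * u⁻¹ := by rw [← h6]
        _ = 1 := mul_inv_cancel₀ hu0
  -- the unipotent group
  let φ : Multiplicative F →* Matrix.ProjectiveSpecialLinearGroup (Fin 2) F :=
    { toFun := fun x => q (sl2 1 (Multiplicative.toAdd x) 0 1 (by ring))
      map_one' := by rw [one_eq_q]; rfl
      map_mul' := fun x y => by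
        rw [q_mul, sl2_mul]
        exact q_sl2_eq_pos (by simp) (by simp [add_comm]) (by simp) (by simp) }
  have hUpi : PiNum π (Nat.card ↥φ.range) := by
    have h1 : Nat.card ↥φ.range ∣ Nat.card (Multiplicative F) := Subgroup.card_range_dvd φ
    have h3 : Nat.card (Multiplicative F) = p ^ k := by
      rw [← hF, ← Nat.card_eq_fintype_card]; rfl
    rw [h3] at h1
    intro l hl hd
    have := (Nat.prime_dvd_prime_iff_eq hl hp).1 (hl.dvd_of_dvd_pow (hd.trans h1))
    rw [this]; exact hpπ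
  refine false_of h2 hT hH hUpi hs hs2 ho (w := q w) (u := φ (Multiplicative.ofAdd 1)) ?_
    ⟨_, rfl⟩ ?_ ?_ ?_ ?_
  · rintro _ ⟨x, rfl⟩
    refine ⟨Multiplicative.ofAdd (u * u * Multiplicative.toAdd x), ?_⟩
    show q (sl2 1 (u * u * Multiplicative.toAdd x) 0 1 _) =
      q h * q (sl2 1 (Multiplicative.toAdd x) 0 1 _) * (q h)⁻¹
    rw [eq_mul_inv_iff_mul_eq, q_mul, q_mul, hh, sl2_mul, sl2_mul]
    refine q_sl2_eq_pos (by simp) ?_ (by simp) (by simp)
    simp only [mul_zero, mul_one, one_mul, zero_mul, add_zero, zero_add]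
    field_simp
  · show q h * q (sl2 1 1 0 1 _) ≠ q (sl2 1 1 0 1 _) * q h
    rw [q_mul, q_mul, hh, sl2_mul, sl2_mul]
    intro h1
    obtain ⟨r, hr, h3, h4, h5, h6⟩ := (q_sl2_eq _ _ _ _ _ _ _ _ _ _).1 h1
    simp only [mul_zero, mul_one, one_mul, zero_mul, add_zero, zero_add] at h3 h4 h5 h6
    have hr1 : r = 1 := by
      have h7 : (r - 1) * u = 0 := by linear_combination -h3
      rcases mul_eq_zero.1 h7 with h8 | h8
      · linear_combination h8
      · exact absurd h8 hu0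
    rw [hr1, one_mul] at h4
    apply hu2
    calc u * u = u * u⁻¹ := by rw [h4]
      _ = 1 := mul_inv_cancel₀ hu0
  · rw [q_mul, hw, sl2_mul, one_eq_q]
    exact q_sl2_eq_neg (by simp) (by simp) (by simp) (by simp)
  · rw [one_eq_q, hw]
    intro h1
    obtain ⟨r, hr, h3, -, -, h4⟩ := (q_sl2_eq _ _ _ _ _ _ _ _ _ _).1 h1
    simp at h3
  · rw [q_mul, hw, hh, sl2_mul, eq_inv_mul_iff_mul_eq, q_mul, sl2_mul]
    exact q_sl2_eq_pos (by simp) (by simp [hu0]) (by simp [hu0]) (by simp)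

theorem sl2_cube (a b c d : F) (h : a * d - b * c = 1) (ht : a + d = -1) :
    (sl2 a b c d h) ^ 3 = 1 := by
  rw [pow_succ, sq, sl2_mul, sl2_mul, sl2_one]
  apply Subtype.ext
  rw [sl2_val, sl2_val]
  ext i j
  fin_cases i <;> fin_cases j <;> simp
  · linear_combination -(2 * a + d) * h + (a * (a + d - 1) - 1) * ht
  · linear_combination (-b) * h + b * (a + d - 1) * ht
  · linear_combination (-c) * h + c * (a + d - 1) * ht
  · linear_combination -(2 * d + a) * h + (d * (a + d - 1) - 1) * ht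

/-- elements of order three are inverted by involutions in `PSL(2,q)`, `q` prime to 6: `3 ∉ π` -/
theorem three_not_mem_psl2 (h2 : 2 ∈ π) [Fintype F] (hodd : Fintype.card F % 2 = 1)
    (h30 : (3 : F) ≠ 0)
    (hT : TwoClosed π (Matrix.ProjectiveSpecialLinearGroup (Fin 2) F)) : 3 ∉ π := by
  classical
  have h20 : (2 : F) ≠ 0 := by
    have h1 : ringChar F ≠ 2 := by
      intro h
      have := FiniteField.even_card_iff_char_two.1 h
      omega
    exact Ring.two_ne_zero h1
  -- `x² + 3 y² = -4`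
  obtain ⟨X, Y, hXY⟩ : ∃ a b : F, a * a + 3 * (b * b) = -4 := by
    obtain ⟨a, b, h⟩ := FiniteField.exists_root_sum_quadratic (R := F)
      (f := Polynomial.X ^ 2 + Polynomial.C 4) (g := Polynomial.C 3 * Polynomial.X ^ 2)
      (by rw [Polynomial.degree_X_pow_add_C (by norm_num)]; rfl)
      (by rw [Polynomial.degree_C_mul_X_pow 2 h30]; rfl) hodd
    refine ⟨a, b, ?_⟩
    simp only [Polynomial.eval_add, Polynomial.eval_pow, Polynomial.eval_X, Polynomial.eval_C,
      Polynomial.eval_mul] at h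
    linear_combination h
  set t : F := 2⁻¹ with ht
  have ht2 : t * 2 = 1 := inv_mul_cancel₀ h20
  have ht4 : t * t * 4 = 1 := by linear_combination (t * 2 + 1) * ht2
  set c : Matrix.SpecialLinearGroup (Fin 2) F := sl2 0 (-1) 1 (-1) (by ring) with hc
  set x : F := t * (X - Y) with hx
  have hxY : x * x + x * Y + Y * Y = -1 := by
    rw [hx]
    linear_combination (t * t) * hXY - ht4 - (t * X * Y) * ht2 - (Y * Y * (t + 1)) * ht2
  set w : Matrix.SpecialLinearGroup (Fin 2) F := sl2 x Y (x + Y) (-x)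
    (by linear_combination -hxY) with hw
  have : Fact (Nat.Prime 3) := ⟨Nat.prime_three⟩
  refine not_mem_pi_of_invert h2 hT Nat.prime_three (by norm_num) (h := q c) (w := q w) ?_ ?_ ?_ ?_
  · apply orderOf_eq_prime
    · rw [← map_pow, hc, sl2_cube _ _ _ _ _ (by ring), map_one]
    · rw [one_eq_q, hc]
      intro h1
      obtain ⟨r, hr, h3, h4, h5, h6⟩ := (q_sl2_eq _ _ _ _ _ _ _ _ _ _).1 h1
      simp at h3
  · rw [q_mul, hw, sl2_mul, one_eq_q]
    exact q_sl2_eq_neg (by linear_combination hxY) (by ring) (by ring) (by linear_combination hxY)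
  · rw [one_eq_q, hw]
    intro h1
    obtain ⟨r, hr, h3, h4, h5, h6⟩ := (q_sl2_eq _ _ _ _ _ _ _ _ _ _).1 h1
    apply h20
    linear_combination h3 + h6
  · rw [q_mul, hw, hc, sl2_mul, eq_inv_mul_iff_mul_eq, q_mul, sl2_mul]
    exact q_sl2_eq_pos (by ring) (by ring) (by ring) (by ring)

/-- `A₄ ≤ PSL(2,q)`, `q` odd: `3 ∈ π` -/
theorem three_mem_psl2 (h2 : 2 ∈ π) [Fintype F] (hodd : Fintype.card F % 2 = 1)
    (hH : Homog π (Matrix.ProjectiveSpecialLinearGroup (Fin 2) F)) : 3 ∈ π := by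
  classical
  have h20 : (2 : F) ≠ 0 := by
    have h1 : ringChar F ≠ 2 := by
      intro h
      have := FiniteField.even_card_iff_char_two.1 h
      omega
    exact Ring.two_ne_zero h1
  -- `a² + b² = -1`
  obtain ⟨a, b, hab⟩ : ∃ a b : F, a * a + b * b = -1 := by
    obtain ⟨a, b, h⟩ := FiniteField.exists_root_sum_quadratic (R := F)
      (f := Polynomial.X ^ 2 + Polynomial.C 1) (g := Polynomial.X ^ 2)
      (by rw [Polynomial.degree_X_pow_add_C (by norm_num)]; rfl)
      (by rw [Polynomial.degree_X_pow]; rfl) hodd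
    refine ⟨a, b, ?_⟩
    simp only [Polynomial.eval_add, Polynomial.eval_pow, Polynomial.eval_X, Polynomial.eval_C] at h
    linear_combination h
  set t : F := 2⁻¹ with ht
  have ht2 : t * 2 = 1 := inv_mul_cancel₀ h20
  have ht4 : t * t * 4 = 1 := by linear_combination (t * 2 + 1) * ht2
  set i : Matrix.SpecialLinearGroup (Fin 2) F := sl2 0 1 (-1) 0 (by ring) with hi
  set j : Matrix.SpecialLinearGroup (Fin 2) F := sl2 b (-a) (-a) (-b)
    (by linear_combination -hab) with hj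
  -- c i = j c, c j = (i j)' c
  set c : Matrix.SpecialLinearGroup (Fin 2) F :=
    sl2 (t * (-1 + a + b)) (t * (1 + b - a)) (t * (-1 + b - a)) (t * (-1 - a - b))
      (by linear_combination ht4 - (2 * t * t) * (hab)) with hc
  refine three_mem_pi h2 hH (a := q i) (b := q j) (c := q c) ?_ ?_ ?_ ?_ ?_ ?_ ?_
  · rw [q_mul, hi, sl2_mul, one_eq_q]
    exact q_sl2_eq_neg (by simp) (by simp) (by simp) (by simp)
  · rw [q_mul, hj, sl2_mul, one_eq_q]
    exact q_sl2_eq_neg (by linear_combination hab) (by ring) (by ring) (by linear_combination hab)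
  · rw [q_mul, q_mul, hi, hj, sl2_mul, sl2_mul]
    exact q_sl2_eq_neg (by ring) (by ring) (by ring) (by ring)
  · have : Fact (Nat.Prime 3) := ⟨Nat.prime_three⟩
    apply orderOf_eq_prime
    · rw [← map_pow, hc, sl2_cube _ _ _ _ _ (by linear_combination -ht2), map_one]
    · rw [one_eq_q, hc]
      intro h1
      obtain ⟨r, hr, h3, h4, h5, h6⟩ := (q_sl2_eq _ _ _ _ _ _ _ _ _ _).1 h1
      have hr0 : r ≠ 0 := by rintro rfl; simp at hr
      have ht0 : t ≠ 0 := by
        intro h; rw [h] at ht2; simp at ht2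
      have h7 : 1 + b - a = 0 := by
        have h8 : r * t * (1 + b - a) = 0 := by linear_combination -h4
        exact (mul_eq_zero.1 h8).resolve_left (mul_ne_zero hr0 ht0)
      have h9 : -1 + b - a = 0 := by
        have h8 : r * t * (-1 + b - a) = 0 := by linear_combination -h5
        exact (mul_eq_zero.1 h8).resolve_left (mul_ne_zero hr0 ht0)
      apply h20
      linear_combination h7 - h9
  · rw [q_mul, q_mul, hi, hj, hc, sl2_mul, sl2_mul]
    exact q_sl2_eq_pos (by linear_combination t * hab) (by linear_combination t * hab)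
      (by linear_combination -t * hab) (by linear_combination t * hab)
  · rw [q_mul, q_mul, q_mul, hi, hj, hc, sl2_mul, sl2_mul, sl2_mul]
    exact q_sl2_eq_neg (by ring) (by ring) (by ring) (by ring)
  · rw [hi, hj]
    intro h1
    obtain ⟨r, hr, h3, h4, h5, h6⟩ := (q_sl2_eq _ _ _ _ _ _ _ _ _ _).1 h1
    have hr0 : r ≠ 0 := by rintro rfl; simp at hr
    apply h20
    have h7 : r * 2 = 0 := by linear_combination h5 - h4
    exact (mul_eq_zero.1 h7).resolve_left hr0

end two

section three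

variable {F : Type*} [Field F]

set_option maxHeartbeats 2000000 in
/-- the monomial `S₄` in `PSL(3,q)`, `q` odd -/
theorem not_psl3 (h2 : 2 ∈ π) [Fintype F] (h20 : (2 : F) ≠ 0)
    (hT : TwoClosed π (Matrix.ProjectiveSpecialLinearGroup (Fin 3) F))
    (hH : Homog π (Matrix.ProjectiveSpecialLinearGroup (Fin 3) F)) : False := by
  classical
  set a : Matrix.SpecialLinearGroup (Fin 3) F :=
    ⟨!![1, 0, 0; 0, -1, 0; 0, 0, -1], by simp [Matrix.det_fin_three]⟩ with ha
  set b : Matrix.SpecialLinearGroup (Fin 3) F :=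
    ⟨!![-1, 0, 0; 0, 1, 0; 0, 0, -1], by simp [Matrix.det_fin_three]⟩ with hb
  set c : Matrix.SpecialLinearGroup (Fin 3) F :=
    ⟨!![0, 0, 1; 1, 0, 0; 0, 1, 0], by simp [Matrix.det_fin_three]⟩ with hc
  set w : Matrix.SpecialLinearGroup (Fin 3) F :=
    ⟨!![0, -1, 0; -1, 0, 0; 0, 0, -1], by simp [Matrix.det_fin_three]⟩ with hw
  have haa : a * a = 1 := by
    apply Subtype.ext
    show !![1, 0, 0; 0, -1, 0; 0, 0, -1] * !![1, 0, 0; 0, -1, 0; 0, 0, -1] = (1 : Matrix (Fin 3) (Fin 3) F)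
    ext i j
    fin_cases i <;> fin_cases j <;> simp [Matrix.mul_apply, Fin.sum_univ_three]
  have hbb : b * b = 1 := by
    apply Subtype.ext
    show !![-1, 0, 0; 0, 1, 0; 0, 0, -1] * !![-1, 0, 0; 0, 1, 0; 0, 0, -1] = (1 : Matrix (Fin 3) (Fin 3) F)
    ext i j
    fin_cases i <;> fin_cases j <;> simp [Matrix.mul_apply, Fin.sum_univ_three]
  have hww : w * w = 1 := by
    apply Subtype.ext
    show !![0, -1, 0; -1, 0, 0; 0, 0, -1] * !![0, -1, 0; -1, 0, 0; 0, 0, -1] = (1 : Matrix (Fin 3) (Fin 3) F)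
    ext i j
    fin_cases i <;> fin_cases j <;> simp [Matrix.mul_apply, Fin.sum_univ_three]
  have hab : a * b = b * a := by
    apply Subtype.ext
    show !![1, 0, 0; 0, -1, 0; 0, 0, -1] * !![-1, 0, 0; 0, 1, 0; 0, 0, -1] =
      !![-1, 0, 0; 0, 1, 0; 0, 0, -1] * (!![1, 0, 0; 0, -1, 0; 0, 0, -1] : Matrix (Fin 3) (Fin 3) F)
    ext i j
    fin_cases i <;> fin_cases j <;> simp [Matrix.mul_apply, Fin.sum_univ_three]
  have hccc : c ^ 3 = 1 := by
    rw [pow_succ, sq]
    apply Subtype.ext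
    have h1 : !![0, 0, 1; 1, 0, 0; 0, 1, 0] * (!![0, 0, 1; 1, 0, 0; 0, 1, 0] : Matrix (Fin 3) (Fin 3) F) =
        !![0, 1, 0; 0, 0, 1; 1, 0, 0] := by
      ext i j
      fin_cases i <;> fin_cases j <;> simp [Matrix.mul_apply, Fin.sum_univ_three]
    show !![0, 0, 1; 1, 0, 0; 0, 1, 0] * !![0, 0, 1; 1, 0, 0; 0, 1, 0] * !![0, 0, 1; 1, 0, 0; 0, 1, 0] =
      (1 : Matrix (Fin 3) (Fin 3) F)
    rw [h1]
    ext i j
    fin_cases i <;> fin_cases j <;> simp [Matrix.mul_apply, Fin.sum_univ_three]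
  have hca : c * a = b * c := by
    apply Subtype.ext
    show !![0, 0, 1; 1, 0, 0; 0, 1, 0] * !![1, 0, 0; 0, -1, 0; 0, 0, -1] =
      !![-1, 0, 0; 0, 1, 0; 0, 0, -1] * (!![0, 0, 1; 1, 0, 0; 0, 1, 0] : Matrix (Fin 3) (Fin 3) F)
    ext i j
    fin_cases i <;> fin_cases j <;> simp [Matrix.mul_apply, Fin.sum_univ_three]
  have hcb : c * b = a * (b * c) := by
    have h1 : b * c = ⟨!![0, 0, -1; 1, 0, 0; 0, -1, 0], by simp [Matrix.det_fin_three]⟩ := by
      apply Subtype.ext
      show !![-1, 0, 0; 0, 1, 0; 0, 0, -1] * (!![0, 0, 1; 1, 0, 0; 0, 1, 0] : Matrix (Fin 3) (Fin 3) F) =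
        !![0, 0, -1; 1, 0, 0; 0, -1, 0]
      ext i j
      fin_cases i <;> fin_cases j <;> simp [Matrix.mul_apply, Fin.sum_univ_three]
    rw [h1]
    apply Subtype.ext
    show !![0, 0, 1; 1, 0, 0; 0, 1, 0] * !![-1, 0, 0; 0, 1, 0; 0, 0, -1] =
      !![1, 0, 0; 0, -1, 0; 0, 0, -1] * (!![0, 0, -1; 1, 0, 0; 0, -1, 0] : Matrix (Fin 3) (Fin 3) F)
    ext i j
    fin_cases i <;> fin_cases j <;> simp [Matrix.mul_apply, Fin.sum_univ_three]
  have hcw : c * (w * c) = w := by
    apply Subtype.ext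
    have h1 : !![0, -1, 0; -1, 0, 0; 0, 0, -1] * (!![0, 0, 1; 1, 0, 0; 0, 1, 0] : Matrix (Fin 3) (Fin 3) F) =
        !![-1, 0, 0; 0, 0, -1; 0, -1, 0] := by
      ext i j
      fin_cases i <;> fin_cases j <;> simp [Matrix.mul_apply, Fin.sum_univ_three]
    show !![0, 0, 1; 1, 0, 0; 0, 1, 0] * (!![0, -1, 0; -1, 0, 0; 0, 0, -1] * !![0, 0, 1; 1, 0, 0; 0, 1, 0]) =
      (!![0, -1, 0; -1, 0, 0; 0, 0, -1] : Matrix (Fin 3) (Fin 3) F)
    rw [h1]
    ext i j
    fin_cases i <;> fin_cases j <;> simp [Matrix.mul_apply, Fin.sum_univ_three]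
  have hco : orderOf (q c) = 3 := by
    have : Fact (Nat.Prime 3) := ⟨Nat.prime_three⟩
    apply orderOf_eq_prime
    · rw [← map_pow, hccc, map_one]
    · rw [← map_one q]
      intro h
      obtain ⟨r, hr, h⟩ := (q_eq_iff _ _).1 h
      have h3 := congrFun (congrFun h 0) 2
      have h4 := congrFun (congrFun h 0) 0
      simp [hc] at h3 h4
  have hne : q a ≠ q b := by
    intro h
    obtain ⟨r, hr, h⟩ := (q_eq_iff _ _).1 h
    have h3 := congrFun (congrFun h 1) 1
    have h4 := congrFun (congrFun h 2) 2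
    simp [ha, hb] at h3 h4
    apply h20
    linear_combination h3 + h4
  have hw1 : q w ≠ 1 := by
    rw [← map_one q]
    intro h
    obtain ⟨r, hr, h⟩ := (q_eq_iff _ _).1 h
    have h4 := congrFun (congrFun h 0) 0
    simp [hw] at h4
  refine not_mem_pi_of_invert h2 hT Nat.prime_three (by norm_num) hco (w := q w)
    (by rw [q_mul, hww, map_one]) hw1 ?_
    (three_mem_pi h2 hH (a := q a) (b := q b) (c := q c) (by rw [q_mul, haa, map_one])
      (by rw [q_mul, hbb, map_one]) (by rw [q_mul, q_mul, hab]) hco (by rw [q_mul, q_mul, hca])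
      (by rw [q_mul, q_mul, q_mul, hcb, mul_assoc]) hne)
  rw [eq_inv_mul_iff_mul_eq, q_mul, q_mul, hcw]

end three

end Cfsg.Agent.H323.PiHom
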