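import Cfsg.Agent.H323.DivKill
import Cfsg.Agent.H323.PiHomPSL

/-!
# H323.DivPSL: `PSL₂(q)`, `q` odd

Only `q = 5`, `q = 9` and the Fermat primes `q ≥ 17` remain.
-/

set_option autoImplicit false

namespace Cfsg.Agent.H323.DivLin

open Module
open scoped commutatorElement

universe u v w

open Cfsg.Agent.H323.PiHom

theorem Min.congr {S : Type w} [Group S] {H : Type u} [Group H] {f : H →* S} (h : Min S H f)
    {X : Type v} [Group X] (e : S ≃* X) : Min X H (e.toMonoidHom.comp f) where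
  fin := h.fin
  srep := h.srep
  surj := e.surjective.comp h.surj
  min := by
    intro K hK
    apply h.min K
    intro s
    obtain ⟨x, hx, hxs⟩ := hK (e s)
    exact ⟨x, hx, e.injective hxs⟩

section

variable {F : Type*} [Field F]

/-- the unipotent group -/
def uni (F : Type*) [Field F] : Multiplicative F →* Matrix.ProjectiveSpecialLinearGroup (Fin 2) F where
  toFun := fun x => q (sl2 1 (Multiplicative.toAdd x) 0 1 (by ring))
  map_one' := by rw [one_eq_q]; rfl
  map_mul' := fun x y => by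
    rw [q_mul, sl2_mul]
    exact q_sl2_eq_pos (by simp) (by simp [add_comm]) (by simp) (by simp)

theorem uni_apply (x : F) : uni F (Multiplicative.ofAdd x) = q (sl2 1 x 0 1 (by ring)) := rfl

theorem uni_inj {x y : F} (h : uni F (Multiplicative.ofAdd x) = uni F (Multiplicative.ofAdd y)) : x = y := by
  rw [uni_apply, uni_apply] at h
  obtain ⟨r, hr, h1, h2, h3, h4⟩ := (q_sl2_eq _ _ _ _ _ _ _ _ _ _).1 h
  rw [mul_one] at h1
  rw [← h1, one_mul] at h2
  exact h2.symm

theorem tor_conj {u : F} (hu : u ≠ 0) (x : F) :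
    q (sl2 u 0 0 u⁻¹ (by field_simp; ring)) * uni F (Multiplicative.ofAdd x) *
      (q (sl2 u 0 0 u⁻¹ (by field_simp; ring)))⁻¹ = uni F (Multiplicative.ofAdd (u * u * x)) := by
  rw [uni_apply, uni_apply, mul_inv_eq_iff_eq_mul, q_mul, q_mul, sl2_mul, sl2_mul]
  refine q_sl2_eq_pos (by simp) ?_ (by simp) (by simp)
  simp only [mul_zero, mul_one, one_mul, zero_mul, add_zero, zero_add]
  field_simp

theorem tor_pow {u : F} (hu : u ≠ 0) (n : ℕ) :
    (sl2 u 0 0 u⁻¹ (by field_simp; ring)) ^ n = sl2 (u ^ n) 0 0 (u ^ n)⁻¹ (by field_simp; ring) := by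
  induction n with
  | zero =>
    rw [pow_zero, sl2_one]
    apply Subtype.ext
    rw [sl2_val, sl2_val]; simp
  | succ n ih =>
    rw [pow_succ, ih, sl2_mul]
    apply Subtype.ext
    rw [sl2_val, sl2_val]
    simp [pow_succ, mul_comm]

end

/-- No odd prime divides `q - 1`. -/
theorem SProp.not_dvd {F : Type} [Field F] [Fintype F]
    (h : SProp (Matrix.ProjectiveSpecialLinearGroup (Fin 2) F)) (hF : Odd (Fintype.card F)) {s : ℕ}
    (hs : s.Prime) (hs2 : s ≠ 2) : ¬ s ∣ Fintype.card F - 1 := by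
  classical
  intro hsd
  obtain ⟨p, hchar⟩ := CharP.exists F
  have hp : p.Prime := CharP.char_is_prime F p
  have hp' : Fact p.Prime := ⟨hp⟩
  have hp2 : p ≠ 2 := odd_char hF hp
  have : Fact s.Prime := ⟨hs⟩
  have hsd' : s ∣ Nat.card Fˣ := by rw [Nat.card_units, Nat.card_eq_fintype_card]; exact hsd
  obtain ⟨v, hv⟩ := exists_prime_orderOf_dvd_card' (G := Fˣ) s hsd'
  obtain ⟨u, hu⟩ : ∃ u : F, u = (v : F) := ⟨_, rfl⟩
  have hu0 : u ≠ 0 := hu ▸ v.ne_zero
  have hus : u ^ s = 1 := by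
    rw [hu, ← Units.val_pow_eq_pow_val, ← hv, pow_orderOf_eq_one]; rfl
  have hu2 : u * u ≠ 1 := by
    intro h
    have h6 : v ^ 2 = 1 := Units.ext (by rw [Units.val_pow_eq_pow_val, sq, ← hu]; exact h)
    have h7 := orderOf_dvd_of_pow_eq_one h6
    rw [hv] at h7
    exact hs2 ((Nat.prime_dvd_prime_iff_eq hs Nat.prime_two).1 h7)
  obtain ⟨t, ht⟩ : ∃ t, t = q (sl2 u 0 0 u⁻¹ (by field_simp; ring)) := ⟨_, rfl⟩
  have hts : t ^ s = 1 := by
    rw [ht, ← map_pow, tor_pow hu0, one_eq_q]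
    exact q_sl2_eq_pos (by rw [hus]) rfl rfl (by rw [hus]; simp)
  have htc : ∀ x : F, t * uni F (Multiplicative.ofAdd x) * t⁻¹ = uni F (Multiplicative.ofAdd (u * u * x)) := by
    intro x
    rw [ht]; exact tor_conj hu0 x
  have htc' : ∀ x : F, t⁻¹ * uni F (Multiplicative.ofAdd x) * t =
      uni F (Multiplicative.ofAdd ((u * u)⁻¹ * x)) := by
    intro x
    have h1 := htc ((u * u)⁻¹ * x)
    rw [mul_inv_cancel_left₀ (mul_ne_zero hu0 hu0)] at h1
    rw [← h1]; group
  have hpw : ∀ x : Multiplicative F, uni F x ^ p = 1 := by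
    intro x
    rw [← map_pow]
    have : x ^ p = 1 := by
      apply Multiplicative.toAdd.injective
      rw [toAdd_pow, toAdd_one]
      simp
    rw [this, map_one]
  obtain ⟨c, hcE, hc1, hcz⟩ := h.lines p hp2 (uni F).range (by
    rintro _ ⟨x, rfl⟩ _ ⟨y, rfl⟩
    rw [← map_mul, ← map_mul, mul_comm]) (by
    rintro _ ⟨x, rfl⟩
    exact hpw x) t ⟨by
      rintro _ ⟨x, rfl⟩
      exact ⟨Multiplicative.ofAdd (u * u * Multiplicative.toAdd x), (htc _).symm⟩, by
      rintro _ ⟨x, rfl⟩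
      exact ⟨Multiplicative.ofAdd ((u * u)⁻¹ * Multiplicative.toAdd x), (htc' _).symm⟩⟩ (by
    have h1 : orderOf t ∣ s := orderOf_dvd_of_pow_eq_one hts
    exact Odd.of_dvd_nat (hs.odd_of_ne_two hs2) h1) (by
    intro h0
    have h1 : uni F (Multiplicative.ofAdd 1) ∈ (uni F).range := ⟨_, rfl⟩
    rw [h0, Subgroup.mem_bot] at h1
    have h2 : uni F (Multiplicative.ofAdd (1 : F)) = uni F (Multiplicative.ofAdd 0) := by
      rw [h1, ofAdd_zero, map_one]
    exact one_ne_zero (uni_inj h2))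
  obtain ⟨x, rfl⟩ := hcE
  have hcord : orderOf (uni F x) = p := orderOf_eq_prime (hpw x) hc1
  obtain ⟨n, hn⟩ : ∃ n : ℕ, uni F x ^ n = t * uni F x * t⁻¹ := by
    rw [← mem_powers_iff_mem_zpowers] at hcz
    exact hcz
  have hcomm := h.frob p s hp2 hs2 t (uni F x) n (hpw x) hts hn.symm
  have h1 := htc (Multiplicative.toAdd x)
  rw [ofAdd_toAdd, hcomm, mul_inv_cancel_right] at h1
  have h2 : Multiplicative.toAdd x = u * u * Multiplicative.toAdd x := uni_inj h1
  have hx0 : Multiplicative.toAdd x ≠ 0 := by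
    intro h3
    apply hc1
    have : x = 1 := Multiplicative.toAdd.injective h3
    rw [this, map_one]
  apply hu2
  have h3 : (u * u - 1) * Multiplicative.toAdd x = 0 := by linear_combination -h2
  rcases mul_eq_zero.1 h3 with h4 | h4
  · linear_combination h4
  · exact absurd h4 hx0

/-- **The arithmetic.** -/
theorem SProp.psl_cases {F : Type} [Field F] [Fintype F]
    (h : SProp (Matrix.ProjectiveSpecialLinearGroup (Fin 2) F)) (hF : Odd (Fintype.card F))
    (h5 : 5 ≤ Fintype.card F) : Fintype.card F = 5 ∨ Fintype.card F = 9 ∨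
      ((Fintype.card F).Prime ∧ 17 ≤ Fintype.card F ∧ ∃ n, Fintype.card F = 2 ^ n + 1) := by
  obtain ⟨p, hchar⟩ := CharP.exists F
  have hp : p.Prime := CharP.char_is_prime F p
  have hp' : Fact p.Prime := ⟨hp⟩
  have hp2 : p ≠ 2 := odd_char hF hp
  obtain ⟨⟨k, hk0⟩, -, hk⟩ := FiniteField.card F p
  rw [PNat.mk_coe] at hk
  have hk2 : k ≤ 2 := by
    by_contra hcon
    push Not at hcon
    refine Omega.Quasithin.PslRow.not_prankLE (F := F) (m := 1) (p := p) ?_ (h.rank p hp2)
    rw [hk, pow_one]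
    exact Nat.pow_lt_pow_right hp.one_lt hcon
  have hq : ∃ n, Fintype.card F - 1 = 2 ^ n :=
    ⟨_, Nat.eq_prime_pow_of_unique_prime_dvd (by omega) (fun {d} hd hdd => by
      by_contra hd2
      exact h.not_dvd hF hd hd2 hdd)⟩
  obtain ⟨n, hn⟩ := hq
  have hn' : Fintype.card F = 2 ^ n + 1 := by omega
  have hk1 : k = 1 ∨ k = 2 := by omega
  rcases hk1 with h1 | h1
  · rw [h1, pow_one] at hk
    have hn2 : 2 ≤ n := by
      by_contra hcon
      push Not at hcon
      interval_cases n <;> omega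
    rcases Nat.lt_or_ge n 4 with h4 | h4
    · have : n = 2 ∨ n = 3 := by omega
      rcases this with rfl | rfl
      · left; rw [hn']; norm_num
      · exfalso
        rw [hn'] at hk
        norm_num at hk
        rw [← hk] at hp
        exact absurd hp (by norm_num)
    · right; right
      refine ⟨hk ▸ hp, ?_, n, hn'⟩
      have : 2 ^ 4 ≤ 2 ^ n := Nat.pow_le_pow_right (by norm_num) h4
      omega
  · right; left
    rw [h1] at hk
    have hp3 : 3 ≤ p := by
      have h6 : 2 ≤ p := hp.two_le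
      omega
    have hfac : (p - 1) * (p + 1) = 2 ^ n := by
      rw [← hn, hk]
      obtain ⟨m, rfl⟩ : ∃ m, p = m + 1 := ⟨p - 1, by omega⟩
      rw [Nat.add_sub_cancel]
      have : (m + 1) ^ 2 = m * (m + 1 + 1) + 1 := by ring
      omega
    obtain ⟨a, -, ha⟩ := (Nat.dvd_prime_pow Nat.prime_two).1 (Dvd.intro _ hfac)
    obtain ⟨b, -, hb⟩ := (Nat.dvd_prime_pow Nat.prime_two).1 (Dvd.intro_left _ hfac)
    have hab : 2 ^ b = 2 ^ a + 2 := by omega
    have ha1 : a = 1 := by
      rcases a with _ | _ | a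
      · exfalso
        rw [pow_zero] at ha
        omega
      · rfl
      · exfalso
        have hb3 : 2 < b := by
          have h6 : 2 ^ 2 < 2 ^ b := by
            have : 2 ^ (a + 1 + 1) = 4 * 2 ^ a := by ring
            have h7 : 0 < 2 ^ a := by positivity
            omega
          exact (Nat.pow_lt_pow_iff_right (by norm_num)).1 h6
        obtain ⟨c, rfl⟩ : ∃ c, b = c + 2 := ⟨b - 2, by omega⟩
        have h8 : 2 ^ (c + 2) = 4 * 2 ^ c := by ring
        have h9 : 2 ^ (a + 1 + 1) = 4 * 2 ^ a := by ring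
        omega
    rw [ha1] at ha
    have : p = 3 := by omega
    rw [hk, this]; norm_num

end Cfsg.Agent.H323.DivLin
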