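import Cfsg.Agent.H323.DivMin

/-!
# H323.DivSec: properties of the simple quotient

Odd order subgroups of `S` lift to `H`; sectional 2-rank; central normal 2-subgroups.
-/

set_option autoImplicit false

namespace Cfsg.Agent.H323.DivLin

open Module
open scoped commutatorElement

universe u v w

/-- Lifting of subgroups of odd order. -/
theorem exists_lift {S : Type w} [Group S] {H : Type u} [Group H] [Finite H] {f : H →* S}
    (hf : Function.Surjective f) (hk : IsPGroup 2 f.ker) (X : Subgroup S) (hX : Odd (Nat.card X)) :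
    ∃ X' : Subgroup H, (∀ x ∈ X', f x ∈ X) ∧ (∀ s ∈ X, ∃ x ∈ X', f x = s) ∧ ∀ x ∈ X', f x = 1 → x = 1 := by
  have hfinS : Finite S := Finite.of_surjective f hf
  let Y : Subgroup H := X.comap f
  have hkY : f.ker ≤ Y := fun x hx => by
    change f x ∈ X
    rw [MonoidHom.mem_ker.1 hx]; exact X.one_mem
  let N : Subgroup Y := f.ker.subgroupOf Y
  have hNc : Nat.card N = Nat.card f.ker := Nat.card_congr (Subgroup.subgroupOfEquivOfLe hkY).toEquiv
  have hYc : Nat.card Y = Nat.card f.ker * Nat.card X := GH.Rank.card_comap_of_surjective f hf X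
  have hidx : N.index = Nat.card X := by
    have h1 := N.card_mul_index
    rw [hNc, hYc] at h1
    exact Nat.eq_of_mul_eq_mul_left Nat.card_pos h1
  have hcop : Nat.Coprime (Nat.card N) N.index := by
    rw [hNc, hidx]
    obtain ⟨n, hn⟩ := IsPGroup.iff_card.1 hk
    rw [hn]
    exact Nat.Coprime.pow_left n (Nat.coprime_two_left.2 hX)
  obtain ⟨C, hC⟩ := Subgroup.exists_right_complement'_of_coprime hcop
  refine ⟨C.map Y.subtype, ?_, ?_, ?_⟩
  · rintro _ ⟨y, -, rfl⟩
    exact y.2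
  · intro s hs
    obtain ⟨x, rfl⟩ := hf s
    obtain ⟨⟨n, c⟩, hnc⟩ := hC.2 (⟨x, hs⟩ : Y)
    refine ⟨c, ⟨c, c.2, rfl⟩, ?_⟩
    have h1 : ((n : Y) : H) * ((c : Y) : H) = x := congrArg Subtype.val hnc
    rw [← h1, map_mul]
    have h2 : f ((n : Y) : H) = 1 := n.2
    rw [h2, one_mul]
  · rintro _ ⟨y, hy, rfl⟩ hfy
    have h3 : y ∈ N := hfy
    have h4 : y ∈ N ⊓ C := ⟨h3, hy⟩
    rw [hC.disjoint.eq_bot] at h4
    rw [Subgroup.mem_bot.1 h4]
    rfl

/-- a set map version of lifting: a section of `f` on `X` -/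
theorem exists_section {S : Type w} [Group S] {H : Type u} [Group H] [Finite H] {f : H →* S}
    (hf : Function.Surjective f) (hk : IsPGroup 2 f.ker) (X : Subgroup S) (hX : Odd (Nat.card X)) :
    ∃ σ : X →* H, ∀ x : X, f (σ x) = x := by
  obtain ⟨X', h1, h2, h3⟩ := exists_lift hf hk X hX
  have hinj : ∀ a ∈ X', ∀ b ∈ X', f a = f b → a = b := by
    intro a ha b hb hab
    have h4 := h3 (a * b⁻¹) (X'.mul_mem ha (X'.inv_mem hb)) (by rw [map_mul, map_inv, hab, mul_inv_cancel])
    exact mul_inv_eq_one.1 h4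
  choose g hg hg' using h2
  refine ⟨{ toFun := fun x => g x x.2, map_one' := ?_, map_mul' := ?_ }, fun x => hg' x x.2⟩
  · exact h3 _ (hg _ _) (hg' _ _)
  · intro a b
    apply hinj _ (hg _ _) _ (X'.mul_mem (hg _ _) (hg _ _))
    rw [map_mul, hg', hg', hg']
    rfl

section quotient

variable {S : Type w} [Group S] {H : Type u} [Group H] {f : H →* S}

theorem section_injective {X : Subgroup S} {σ : X →* H} (hσ : ∀ x : X, f (σ x) = x) :
    Function.Injective σ := fun a b hab => Subtype.ext (by rw [← hσ a, hab, hσ])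

/-- The elementary properties of the simple quotient `S`. -/
structure SProp (S : Type w) [Group S] : Prop where
  comm_odd : ∀ (p : ℕ) [Fact p.Prime], p ≠ 2 → ∀ P : Subgroup S, IsPGroup p P →
    ∀ x ∈ P, ∀ y ∈ P, x * y = y * x
  rank : ∀ (p : ℕ) [Fact p.Prime], p ≠ 2 → Cfsg.PRankLE p 2 S
  frob : ∀ (p s : ℕ) [Fact p.Prime] [Fact s.Prime], p ≠ 2 → s ≠ 2 → ∀ (x y : S) (k : ℕ), y ^ p = 1 →
    x ^ s = 1 → x * y * x⁻¹ = y ^ k → x * y = y * x
  lines : ∀ (p : ℕ) [Fact p.Prime], p ≠ 2 → ∀ (E : Subgroup S), (∀ a ∈ E, ∀ b ∈ E, a * b = b * a) →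
    (∀ a ∈ E, a ^ p = 1) → ∀ x : S, NrmE E x → Odd (orderOf x) → E ≠ ⊥ →
    ∃ c ∈ E, c ≠ 1 ∧ x * c * x⁻¹ ∈ Subgroup.zpowers c
  sect : Cfsg.SectionalPRankLE 2 4 S

theorem odd_card_of_exp {p : ℕ} (hp : p.Prime) (hp2 : p ≠ 2) {P : Type*} [Group P] [Finite P]
    (hP : IsPGroup p P) : Odd (Nat.card P) := by
  have : Fact p.Prime := ⟨hp⟩
  obtain ⟨n, hn⟩ := IsPGroup.iff_card.1 hP
  rw [hn]
  exact (hp.odd_of_ne_two hp2).pow

theorem sectional_H [Finite H] (h : LinA H) : Cfsg.SectionalPRankLE 2 4 H := by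
  have : Fact (Nat.Prime 2) := ⟨Nat.prime_two⟩
  obtain ⟨T⟩ : Nonempty (Sylow 2 H) := inferInstance
  apply TwoFusion.SectionalRank.sectionalPRankLE_of_sylow T
  apply S0501.result T.2
  intro A _ hA hA2
  have h1 := h.rank 2 (A.map (T : Subgroup H).subtype) (by
    rintro _ ⟨a, ha, rfl⟩ _ ⟨b, hb, rfl⟩
    have := congrArg Subtype.val (hA.is_comm.comm (⟨a, ha⟩ : A) ⟨b, hb⟩)
    rw [← map_mul, ← map_mul]
    exact congrArg _ this) (by
    rintro _ ⟨a, ha, rfl⟩
    rw [← map_pow, hA2 a ha, map_one])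
  rwa [Subgroup.card_map_of_injective (T : Subgroup H).subtype_injective] at h1

/-- **The properties of the quotient.** -/
theorem sprop [Finite H] (hA : LinA H) (hf : Function.Surjective f) (hk : IsPGroup 2 f.ker) : SProp S where
  comm_odd := by
    intro p _ hp2 P hP x hx y hy
    have hfinS : Finite S := Finite.of_surjective f hf
    obtain ⟨σ, hσ⟩ := exists_section hf hk P (odd_card_of_exp Fact.out hp2 hP)
    have hR : IsPGroup p σ.range := hP.of_surjective σ.rangeRestrict σ.rangeRestrict_surjective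
    have h1 := hA.comm_odd p hp2 σ.range hR _ ⟨⟨x, hx⟩, rfl⟩ _ ⟨⟨y, hy⟩, rfl⟩
    rw [← map_mul, ← map_mul] at h1
    exact congrArg Subtype.val (section_injective hσ h1)
  rank := by
    intro p _ hp2 A hAc hAp
    have hfinS : Finite S := Finite.of_surjective f hf
    have hP : IsPGroup p A := fun a => ⟨1, by
      rw [pow_one]; exact Subtype.ext (hAp a a.2)⟩
    obtain ⟨σ, hσ⟩ := exists_section hf hk A (odd_card_of_exp Fact.out hp2 hP)
    have h1 := hA.rank p σ.range (by
      rintro _ ⟨a, rfl⟩ _ ⟨b, rfl⟩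
      rw [← map_mul, ← map_mul, hAc.is_comm.comm a b]) (by
      rintro _ ⟨a, rfl⟩
      rw [← map_pow]
      have : a ^ p = 1 := Subtype.ext (hAp a a.2)
      rw [this, map_one])
    have h2 : Nat.card σ.range = Nat.card A :=
      (Nat.card_congr (MonoidHom.ofInjective (section_injective hσ)).toEquiv).symm
    rwa [h2] at h1
  frob := by
    intro p s _ _ hp2 hs2 x y k hy hx hxy
    have hfinS : Finite S := Finite.of_surjective f hf
    -- the subgroup `⟨y⟩⟨x⟩`
    have hyn : ∀ (m : ℕ) (i : ℤ), ∃ j : ℤ, x ^ m * y ^ i * (x ^ m)⁻¹ = y ^ j := by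
      intro m
      induction m with
      | zero => intro i; exact ⟨i, by simp⟩
      | succ m ih =>
        intro i
        obtain ⟨j, hj⟩ := ih i
        refine ⟨k * j, ?_⟩
        have e : x ^ (m + 1) * y ^ i * (x ^ (m + 1))⁻¹ = x * (x ^ m * y ^ i * (x ^ m)⁻¹) * x⁻¹ := by
          rw [pow_succ']; group
        rw [e, hj, ← conj_zpow, hxy, ← zpow_natCast, ← zpow_mul]
    have hnorm : ∀ a ∈ Subgroup.zpowers x, ∀ b ∈ Subgroup.zpowers y, a * b * a⁻¹ ∈ Subgroup.zpowers y := by
      intro a ha b hb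
      obtain ⟨m, rfl⟩ := (mem_powers_iff_mem_zpowers (x := x)).2 ha
      obtain ⟨i, rfl⟩ := Subgroup.mem_zpowers_iff.1 hb
      obtain ⟨j, hj⟩ := hyn m i
      rw [hj]
      exact Subgroup.zpow_mem_zpowers y j
    let X : Subgroup S :=
      { carrier := {g | ∃ b ∈ Subgroup.zpowers y, ∃ a ∈ Subgroup.zpowers x, g = b * a}
        mul_mem' := by
          rintro _ _ ⟨b, hb, a, ha, rfl⟩ ⟨b', hb', a', ha', rfl⟩
          refine ⟨b * (a * b' * a⁻¹), Subgroup.mul_mem _ hb (hnorm a ha b' hb'), a * a',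
            Subgroup.mul_mem _ ha ha', by group⟩
        one_mem' := ⟨1, Subgroup.one_mem _, 1, Subgroup.one_mem _, by rw [mul_one]⟩
        inv_mem' := by
          rintro _ ⟨b, hb, a, ha, rfl⟩
          have h1 := hnorm a⁻¹ (Subgroup.inv_mem _ ha) b⁻¹ (Subgroup.inv_mem _ hb)
          exact ⟨_, h1, a⁻¹, Subgroup.inv_mem _ ha, by group⟩ }
    have hXodd : Odd (Nat.card X) := by
      -- `|X|` divides ... : surjection from the product
      have hy2 : Nat.card (Subgroup.zpowers y) ∣ p := by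
        rw [Nat.card_zpowers]; exact orderOf_dvd_of_pow_eq_one hy
      have hx2 : Nat.card (Subgroup.zpowers x) ∣ s := by
        rw [Nat.card_zpowers]; exact orderOf_dvd_of_pow_eq_one hx
      let Yn : Subgroup X := (Subgroup.zpowers y).subgroupOf X
      have hYX : Subgroup.zpowers y ≤ X := fun b hb => ⟨b, hb, 1, Subgroup.one_mem _, by rw [mul_one]⟩
      have hXX : Subgroup.zpowers x ≤ X := fun a ha => ⟨1, Subgroup.one_mem _, a, ha, by rw [one_mul]⟩
      have hYnN : Yn.Normal := ⟨by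
        rintro n hn ⟨_, b, hb, a, ha, rfl⟩
        change b * a * n * (b * a)⁻¹ ∈ Subgroup.zpowers y
        have h1 := hnorm a ha _ hn
        have e : b * a * (n : S) * (b * a)⁻¹ = b * (a * n * a⁻¹) * b⁻¹ := by group
        rw [e]
        exact Subgroup.mul_mem _ (Subgroup.mul_mem _ hb h1) (Subgroup.inv_mem _ hb)⟩
      have h1 : Nat.card X = Nat.card Yn * Yn.index := (Yn.card_mul_index).symm
      have h2 : Nat.card Yn ∣ p := by
        rw [Nat.card_congr (Subgroup.subgroupOfEquivOfLe hYX).toEquiv]; exact hy2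
      have h3 : Yn.index ∣ s := by
        let q : Subgroup.zpowers x →* X ⧸ Yn := (QuotientGroup.mk' Yn).comp (Subgroup.inclusion hXX)
        have hq : Function.Surjective q := by
          intro z
          obtain ⟨⟨_, b, hb, a, ha, rfl⟩, rfl⟩ := QuotientGroup.mk_surjective z
          refine ⟨⟨a, ha⟩, ?_⟩
          change QuotientGroup.mk _ = QuotientGroup.mk _
          rw [QuotientGroup.eq_iff_div_mem]
          change a / (b * a) ∈ Subgroup.zpowers y
          have e : a / (b * a) = b⁻¹ := by rw [div_eq_mul_inv, mul_inv_rev, mul_inv_cancel_left]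
          rw [e]
          exact Subgroup.inv_mem _ hb
        rw [Subgroup.index_eq_card]
        exact (Subgroup.card_dvd_of_surjective q hq).trans hx2
      have hop : Odd p := (Fact.out : p.Prime).odd_of_ne_two hp2
      have hos : Odd s := (Fact.out : s.Prime).odd_of_ne_two hs2
      rw [h1]
      exact (Odd.of_dvd_nat hop h2).mul (Odd.of_dvd_nat hos h3)
    have hxX : x ∈ X := ⟨1, Subgroup.one_mem _, x, Subgroup.mem_zpowers x, by rw [one_mul]⟩
    have hyX : y ∈ X := ⟨y, Subgroup.mem_zpowers y, 1, Subgroup.one_mem _, by rw [mul_one]⟩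
    obtain ⟨σ, hσ⟩ := exists_section hf hk X hXodd
    have h1 := hA.frob p s hs2 (σ ⟨x, hxX⟩) (σ ⟨y, hyX⟩) k (by
      rw [← map_pow]
      have : (⟨y, hyX⟩ : X) ^ p = 1 := Subtype.ext hy
      rw [this, map_one]) (by
      rw [← map_pow]
      have : (⟨x, hxX⟩ : X) ^ s = 1 := Subtype.ext hx
      rw [this, map_one]) (by
      rw [← map_inv, ← map_mul, ← map_mul, ← map_pow]
      exact congrArg σ (Subtype.ext hxy))
    rw [← map_mul, ← map_mul] at h1
    exact congrArg Subtype.val (section_injective hσ h1)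
  lines := by
    intro p _ hp2 E hEc hEp x hx hxo hE
    have hfinS : Finite S := Finite.of_surjective f hf
    have hpow : ∀ (m : ℕ), ∀ b ∈ E, x ^ m * b * (x ^ m)⁻¹ ∈ E := by
      intro m
      induction m with
      | zero => intro b hb; simpa using hb
      | succ m ih =>
        intro b hb
        have e : x ^ (m + 1) * b * (x ^ (m + 1))⁻¹ = x * (x ^ m * b * (x ^ m)⁻¹) * x⁻¹ := by
          rw [pow_succ']; group
        rw [e]
        exact hx.1 _ (ih b hb)
    have hnorm : ∀ a ∈ Subgroup.zpowers x, ∀ b ∈ E, a * b * a⁻¹ ∈ E := by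
      intro a ha b hb
      obtain ⟨m, rfl⟩ := (mem_powers_iff_mem_zpowers (x := x)).2 ha
      exact hpow m b hb
    let X : Subgroup S :=
      { carrier := {g | ∃ b ∈ E, ∃ a ∈ Subgroup.zpowers x, g = b * a}
        mul_mem' := by
          rintro _ _ ⟨b, hb, a, ha, rfl⟩ ⟨b', hb', a', ha', rfl⟩
          refine ⟨b * (a * b' * a⁻¹), Subgroup.mul_mem _ hb (hnorm a ha b' hb'), a * a',
            Subgroup.mul_mem _ ha ha', by group⟩
        one_mem' := ⟨1, Subgroup.one_mem _, 1, Subgroup.one_mem _, by rw [mul_one]⟩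
        inv_mem' := by
          rintro _ ⟨b, hb, a, ha, rfl⟩
          have h1 := hnorm a⁻¹ (Subgroup.inv_mem _ ha) b⁻¹ (Subgroup.inv_mem _ hb)
          exact ⟨_, h1, a⁻¹, Subgroup.inv_mem _ ha, by group⟩ }
    have hEX : E ≤ X := fun b hb => ⟨b, hb, 1, Subgroup.one_mem _, by rw [mul_one]⟩
    have hXX : Subgroup.zpowers x ≤ X := fun a ha => ⟨1, Subgroup.one_mem _, a, ha, by rw [one_mul]⟩
    have hEp' : IsPGroup p E := fun a => ⟨1, by rw [pow_one]; exact Subtype.ext (hEp a a.2)⟩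
    have hXodd : Odd (Nat.card X) := by
      let Yn : Subgroup X := E.subgroupOf X
      have hYnN : Yn.Normal := ⟨by
        rintro n hn ⟨_, b, hb, a, ha, rfl⟩
        change b * a * n * (b * a)⁻¹ ∈ E
        have h1 := hnorm a ha _ hn
        have e : b * a * (n : S) * (b * a)⁻¹ = b * (a * n * a⁻¹) * b⁻¹ := by group
        rw [e]
        exact E.mul_mem (E.mul_mem hb h1) (E.inv_mem hb)⟩
      have h1 : Nat.card X = Nat.card Yn * Yn.index := (Yn.card_mul_index).symm
      have h2 : Odd (Nat.card Yn) := by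
        rw [Nat.card_congr (Subgroup.subgroupOfEquivOfLe hEX).toEquiv]
        exact odd_card_of_exp Fact.out hp2 hEp'
      have h3 : Yn.index ∣ orderOf x := by
        let q : Subgroup.zpowers x →* X ⧸ Yn := (QuotientGroup.mk' Yn).comp (Subgroup.inclusion hXX)
        have hq : Function.Surjective q := by
          intro z
          obtain ⟨⟨_, b, hb, a, ha, rfl⟩, rfl⟩ := QuotientGroup.mk_surjective z
          refine ⟨⟨a, ha⟩, ?_⟩
          change QuotientGroup.mk _ = QuotientGroup.mk _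
          rw [QuotientGroup.eq_iff_div_mem]
          change a / (b * a) ∈ E
          have e : a / (b * a) = b⁻¹ := by rw [div_eq_mul_inv, mul_inv_rev, mul_inv_cancel_left]
          rw [e]
          exact E.inv_mem hb
        rw [Subgroup.index_eq_card, ← Nat.card_zpowers]
        exact Subgroup.card_dvd_of_surjective q hq
      rw [h1]
      exact h2.mul (Odd.of_dvd_nat hxo h3)
    have hxX : x ∈ X := hXX (Subgroup.mem_zpowers x)
    obtain ⟨σ, hσ⟩ := exists_section hf hk X hXodd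
    let E' : Subgroup H := (E.subgroupOf X).map σ
    have hmemE' : ∀ b (hb : b ∈ E), σ ⟨b, hEX hb⟩ ∈ E' := fun b hb => ⟨⟨b, hEX hb⟩, hb, rfl⟩
    obtain ⟨c, hc, hc1, hxc⟩ := hA.lines p E' (by
      rintro _ ⟨a, ha, rfl⟩ _ ⟨b, hb, rfl⟩
      rw [← map_mul, ← map_mul]
      exact congrArg σ (Subtype.ext (hEc _ ha _ hb))) (by
      rintro _ ⟨a, ha, rfl⟩
      rw [← map_pow]
      have : a ^ p = 1 := Subtype.ext (hEp _ ha)
      rw [this, map_one]) (σ ⟨x, hxX⟩) (by
      constructor
      · rintro _ ⟨a, ha, rfl⟩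
        refine ⟨⟨x, hxX⟩ * a * ⟨x, hxX⟩⁻¹, hx.1 _ ha, by rw [map_mul, map_mul, map_inv]⟩
      · rintro _ ⟨a, ha, rfl⟩
        refine ⟨⟨x, hxX⟩⁻¹ * a * ⟨x, hxX⟩, hx.2 _ ha, by rw [map_mul, map_mul, map_inv]⟩) (by
      rw [orderOf_injective σ (section_injective hσ), Subgroup.orderOf_mk]
      exact hxo) (by
      intro h0
      obtain ⟨b, hb, hb1⟩ : ∃ b ∈ E, b ≠ 1 := by
        by_contra hcon
        push Not at hcon
        exact hE ((Subgroup.eq_bot_iff_forall E).2 hcon)
      have h1 := hmemE' b hb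
      rw [h0, Subgroup.mem_bot] at h1
      apply hb1
      have := hσ ⟨b, hEX hb⟩
      rw [h1, map_one] at this
      exact this.symm)
    obtain ⟨c, hcE, rfl⟩ := hc
    refine ⟨c, hcE, fun h => hc1 (by
      have : c = 1 := Subtype.ext h
      rw [this, map_one]), ?_⟩
    obtain ⟨m, hm⟩ := Subgroup.mem_zpowers_iff.1 hxc
    refine Subgroup.mem_zpowers_iff.2 ⟨m, ?_⟩
    have h2 := congrArg f hm
    rw [map_zpow, map_mul, map_mul, map_inv, hσ, hσ] at h2
    exact h2
  sect := GH.Rank.of_surjective (sectional_H hA) f hf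

end quotient

end Cfsg.Agent.H323.DivLin
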