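import Cfsg.Agent.H323.DivPGroup

/-!
# H323.DivWed: reduction to a spanning representation over a finite-dimensional division algebra
-/

set_option autoImplicit false

namespace Cfsg.Agent.H323.DivLin

open Module

universe u v w

section idem

variable {D : Type*} [DivisionRing D] {V : Type*} [AddCommGroup V] [Module D V] [Module.Finite D V]

/-- Nonzero orthogonal idempotents. -/
theorem card_le_of_idem {ι : Type*} [Fintype ι] (e : ι → Module.End D V)
    (h0 : ∀ i, e i ≠ 0) (h1 : ∀ i, e i * e i = e i) (h2 : ∀ i j, i ≠ j → e i * e j = 0) :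
    Fintype.card ι ≤ finrank D V := by
  classical
  have hv : ∀ i, ∃ v, e i v ≠ 0 := by
    intro i
    by_contra hcon
    push Not at hcon
    exact h0 i (LinearMap.ext hcon)
  choose x hx using hv
  have hind : LinearIndependent D fun i => e i (x i) := by
    rw [Fintype.linearIndependent_iff]
    intro g hg l
    have h3 := congrArg (e l) hg
    rw [map_sum, map_zero] at h3
    have h4 : ∀ i, e l (g i • e i (x i)) = if i = l then g l • e l (x l) else 0 := by
      intro i
      rw [map_smul]
      split_ifs with h
      · subst h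
        rw [← Module.End.mul_apply, h1]
      · rw [← Module.End.mul_apply, h2 l i (fun h' => h h'.symm), LinearMap.zero_apply, smul_zero]
    rw [Finset.sum_congr rfl fun i _ => h4 i, Finset.sum_ite_eq' Finset.univ l] at h3
    rw [if_pos (Finset.mem_univ l)] at h3
    exact (smul_eq_zero.1 h3).resolve_right (hx l)
  exact hind.fintype_card_le_finrank

end idem

/-- A spanning faithful representation of dimension `1` or `2` over a finite-dimensional rational
division algebra. -/
def HasSRep (H : Type u) [Group H] : Prop :=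
  ∃ (E : Type u) (_ : DivisionRing E) (_ : Algebra ℚ E) (_ : Module.Finite ℚ E) (k : ℕ) (_ : k = 1 ∨ k = 2)
    (ρ : H →* Module.End E (Fin k → E)), Function.Injective ρ ∧ Submodule.span ℚ (Set.range ρ) = ⊤

section mat

variable {H : Type u} [Group H] {E : Type u} [DivisionRing E] [Algebra ℚ E] {k : ℕ}

/-- The action on row vectors, from a matrix representation. -/
def rowRep (r : H →* Matrix (Fin k) (Fin k) E) : H →* Module.End E (Fin k → E) where
  toFun h := Matrix.toLinearMapRight' (r h⁻¹)
  map_one' := by
    rw [inv_one, map_one, Matrix.toLinearMapRight'_one]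
    rfl
  map_mul' a b := by
    rw [mul_inv_rev, map_mul, Matrix.toLinearMapRight'_mul]
    rfl

theorem rowRep_injective {r : H →* Matrix (Fin k) (Fin k) E} (hr : Function.Injective r) :
    Function.Injective (rowRep r) := by
  intro a b hab
  exact inv_injective (hr (Matrix.toLinearMapRight'.injective hab))

theorem rowRep_span {r : H →* Matrix (Fin k) (Fin k) E} (hr : Submodule.span ℚ (Set.range r) = ⊤) :
    Submodule.span ℚ (Set.range (rowRep r)) = ⊤ := by
  let L : Matrix (Fin k) (Fin k) E →ₗ[ℚ] Module.End E (Fin k → E) :=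
    { toFun := fun M => Matrix.toLinearMapRight' M
      map_add' := fun a b => map_add _ a b
      map_smul' := fun c M => by
        apply LinearMap.ext
        intro v
        change Matrix.vecMul v (c • M) = c • (Matrix.vecMul v M)
        funext j
        rw [Pi.smul_apply]
        simp only [Matrix.vecMul, dotProduct, Matrix.smul_apply, mul_smul_comm]
        simp only [Algebra.smul_def, Finset.mul_sum] }
  have hL : Function.Surjective L := Matrix.toLinearMapRight'.surjective
  have h1 : Set.range (rowRep r) = L '' Set.range r := by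
    ext x
    constructor
    · rintro ⟨h, rfl⟩
      exact ⟨r h⁻¹, ⟨h⁻¹, rfl⟩, rfl⟩
    · rintro ⟨_, ⟨h, rfl⟩, rfl⟩
      refine ⟨h⁻¹, ?_⟩
      change Matrix.toLinearMapRight' (r h⁻¹⁻¹) = Matrix.toLinearMapRight' (r h)
      rw [inv_inv]
  rw [h1, ← Submodule.map_span, hr, Submodule.map_top, LinearMap.range_eq_top]
  exact hL

end mat

theorem hasSRep_of_matrix {H : Type u} [Group H] {E : Type u} [DivisionRing E] [Algebra ℚ E]
    [Module.Finite ℚ E] {k : ℕ} (hk : k = 1 ∨ k = 2) (r : H →* Matrix (Fin k) (Fin k) E)
    (hr : Function.Injective r) (hs : Submodule.span ℚ (Set.range r) = ⊤) : HasSRep H :=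
  ⟨E, inferInstance, inferInstance, inferInstance, k, hk, rowRep r, rowRep_injective hr, rowRep_span hs⟩

/-- **The reduction.** -/
theorem exists_srep {D : Type v} [DivisionRing D] [CharZero D] {V : Type w} [AddCommGroup V]
    [Module D V] [Module.Finite D V] (hV : finrank D V ≤ 2) {K : Type u} [Group K] [Finite K]
    (ρ : K →* Module.End D V) (hρ : Function.Injective ρ) {S : Type*} [Group S] [IsSimpleGroup S]
    (hna : ∃ a b : S, a * b ≠ b * a) (f : K →* S) (hf : Function.Surjective f) :
    ∃ (H : Type u) (_ : Group H) (_ : Finite H), HasSRep H ∧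
      (∃ f' : H →* S, Function.Surjective f') ∧ Nat.card H ≤ Nat.card K := by
  classical
  letI : Module ℚ V := Module.compHom V (algebraMap ℚ D)
  haveI : IsScalarTower ℚ D V := IsScalarTower.of_algebraMap_smul fun r x => rfl
  haveI : SMulCommClass D ℚ V := ⟨fun d q x => by
    change d • (algebraMap ℚ D q • x) = algebraMap ℚ D q • (d • x)
    rw [smul_smul, smul_smul, Algebra.commutes]⟩
  letI : Algebra ℚ (Module.End D V) := Module.End.instAlgebra ℚ D V
  haveI : NeZero (Nat.card K : ℚ) := ⟨by exact_mod_cast Nat.card_pos.ne'⟩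
  haveI : Fintype K := Fintype.ofFinite K
  haveI : NeZero (Fintype.card K : ℚ) := ⟨by exact_mod_cast Fintype.card_pos.ne'⟩
  obtain ⟨n, Di, d, iD, iA, iF, hd, ⟨e⟩⟩ :=
    IsSemisimpleRing.exists_algEquiv_pi_matrix_divisionRing_finite ℚ (MonoidAlgebra ℚ K)
  let Φ : MonoidAlgebra ℚ K →ₐ[ℚ] Module.End D V := MonoidAlgebra.lift ℚ (Module.End D V) K ρ
  have hΦ : ∀ g : K, Φ (MonoidAlgebra.of ℚ K g) = ρ g := fun g => MonoidAlgebra.lift_of _ _
  let ψ : (Π i, Matrix (Fin (d i)) (Fin (d i)) (Di i)) →ₐ[ℚ] Module.End D V := Φ.comp e.symm.toAlgHom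
  have hψ : ∀ x, ψ (e x) = Φ x := fun x => by
    change Φ (e.symm (e x)) = Φ x
    rw [e.symm_apply_apply]
  let sg : ∀ i, Matrix (Fin (d i)) (Fin (d i)) (Di i) → Module.End D V := fun i X => ψ (Pi.single i X)
  have sg_mul : ∀ i X Y, sg i X * sg i Y = sg i (X * Y) := fun i X Y => by
    change ψ _ * ψ _ = ψ _
    rw [← map_mul, Pi.single_mul]
  have sg_ne : ∀ i j X Y, i ≠ j → sg i X * sg j Y = 0 := fun i j X Y hij => by
    change ψ _ * ψ _ = 0
    rw [← map_mul]
    have : (Pi.single i X * Pi.single j Y : Π i, Matrix (Fin (d i)) (Fin (d i)) (Di i)) = 0 := by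
      funext l
      rw [Pi.mul_apply, Pi.zero_apply]
      by_cases hl : l = i
      · subst hl
        rw [Pi.single_eq_of_ne hij, mul_zero]
      · rw [Pi.single_eq_of_ne hl, zero_mul]
    rw [this, map_zero]
  have sg_sum : ∀ x : (Π i, Matrix (Fin (d i)) (Fin (d i)) (Di i)), ψ x = ∑ i, sg i (x i) := fun x => by
    change _ = ∑ i, ψ _
    rw [← map_sum, Finset.univ_sum_single]
  have sg_zero : ∀ i, sg i 1 = 0 → ∀ X, sg i X = 0 := fun i hi X => by
    rw [← one_mul X, ← sg_mul, hi, zero_mul]
  let I : Finset (Fin n) := Finset.univ.filter fun i => sg i 1 ≠ 0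
  have hI : ∀ i, i ∈ I ↔ sg i 1 ≠ 0 := fun i => by
    simp only [I, Finset.mem_filter, Finset.mem_univ, true_and]
  have hIcard : I.card ≤ 2 := by
    have := card_le_of_idem (D := D) (V := V) (ι := I) (fun i => sg i 1) (fun i => (hI i).1 i.2)
      (fun i => by rw [sg_mul, mul_one]) (fun i j hij => sg_ne _ _ _ _ (fun h => hij (Subtype.ext h)))
    rw [Fintype.card_coe] at this
    exact this.trans hV
  have hdi : ∀ i ∈ I, d i ≤ 2 := by
    intro i hi
    have hne : ∀ j : Fin (d i), sg i (Matrix.single j j 1) ≠ 0 := by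
      intro j h0
      apply (hI i).1 hi
      have h1 : ∀ l : Fin (d i), sg i (Matrix.single l l 1) = 0 := by
        intro l
        have : (Matrix.single l l (1 : Di i)) = Matrix.single l j 1 * Matrix.single j j 1 * Matrix.single j l 1 := by
          rw [Matrix.single_mul_single_same, Matrix.single_mul_single_same, mul_one, mul_one]
        rw [this, ← sg_mul, ← sg_mul, h0, mul_zero, zero_mul]
      have h2 : (1 : Matrix (Fin (d i)) (Fin (d i)) (Di i)) = ∑ l, Matrix.single l l 1 := by
        ext a b
        rw [Matrix.sum_apply, Matrix.one_apply]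
        simp only [Matrix.single_apply]
        by_cases hab : a = b
        · subst hab
          simp
        · rw [if_neg hab]
          symm
          apply Finset.sum_eq_zero
          intro l _
          rw [if_neg]
          rintro ⟨rfl, rfl⟩
          exact hab rfl
      rw [h2]
      change ψ (Pi.single i (∑ l, Matrix.single l l 1)) = 0
      have h3 : (Pi.single i (∑ l, Matrix.single l l (1 : Di i)) :
          Π i, Matrix (Fin (d i)) (Fin (d i)) (Di i)) = ∑ l, Pi.single i (Matrix.single l l (1 : Di i)) := by
        funext m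
        rw [Finset.sum_apply]
        by_cases hm : m = i
        · subst hm
          rw [Pi.single_eq_same]
          exact Finset.sum_congr rfl fun l _ => by rw [Pi.single_eq_same]
        · rw [Pi.single_eq_of_ne hm]
          symm
          exact Finset.sum_eq_zero fun l _ => Pi.single_eq_of_ne hm _
      rw [h3, map_sum]
      exact Finset.sum_eq_zero fun l _ => h1 l
    have := card_le_of_idem (D := D) (V := V) (ι := Fin (d i)) (fun j => sg i (Matrix.single j j 1)) hne
      (fun j => by rw [sg_mul, Matrix.single_mul_single_same, mul_one])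
      (fun j l hjl => by
        rw [sg_mul, Matrix.single_mul_single_of_ne _ _ _ _ hjl]
        change ψ (Pi.single i 0) = 0
        rw [Pi.single_zero, map_zero])
    rw [Fintype.card_fin] at this
    exact this.trans hV
  -- the component representations
  let r : ∀ i, K →* Matrix (Fin (d i)) (Fin (d i)) (Di i) := fun i =>
    ((Pi.evalRingHom (fun i => Matrix (Fin (d i)) (Fin (d i)) (Di i)) i).toMonoidHom.comp
      (e.toAlgHom.toRingHom.toMonoidHom)).comp (MonoidAlgebra.of ℚ K)
  have hr : ∀ i g, r i g = e (MonoidAlgebra.of ℚ K g) i := fun i g => rfl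
  have hker : ∀ g : K, (∀ i ∈ I, r i g = 1) → g = 1 := by
    intro g hg
    apply hρ
    rw [map_one, ← hΦ, ← hψ, sg_sum]
    have h1 : (1 : Module.End D V) = ∑ i, sg i 1 := by
      rw [← map_one ψ, sg_sum]
      rfl
    rw [h1]
    refine Finset.sum_congr rfl fun i _ => ?_
    by_cases hi : i ∈ I
    · rw [← hr, hg i hi]
    · have h0 : sg i 1 = 0 := by
        by_contra h
        exact hi ((hI i).2 h)
      rw [sg_zero i h0, h0]
  -- a component with kernel inside `ker f`
  obtain ⟨i, hiI, hi⟩ : ∃ i ∈ I, (r i).ker ≤ f.ker := by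
    by_contra hcon
    push Not at hcon
    have htop : ∀ i ∈ I, ∀ s : S, ∃ x ∈ (r i).ker, f x = s := by
      intro i hi s
      have h1 : ((r i).ker.map f).Normal := Subgroup.Normal.map (r i).normal_ker f hf
      rcases h1.eq_bot_or_eq_top with h2 | h2
      · exact absurd ((Subgroup.map_eq_bot_iff _).1 h2) (hcon i hi)
      · have : s ∈ (r i).ker.map f := by rw [h2]; exact Subgroup.mem_top s
        exact this
    obtain ⟨a, b, hab⟩ := hna
    rcases Nat.lt_or_ge I.card 1 with h0 | h0
    · have hI0 : I = ∅ := Finset.card_eq_zero.1 (by omega)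
      apply hab
      obtain ⟨x, hx⟩ := hf a
      have : x = 1 := hker x (by rw [hI0]; intro i hi; exact absurd hi (Finset.notMem_empty i))
      rw [← hx, this, map_one, one_mul, mul_one]
    · rcases (by omega : I.card = 1 ∨ I.card = 2) with h1 | h1
      · obtain ⟨i, hi⟩ := Finset.card_eq_one.1 h1
        obtain ⟨x, hx, hxa⟩ := htop i (by rw [hi]; exact Finset.mem_singleton_self i) a
        have : x = 1 := hker x (by
          rw [hi]
          intro j hj
          rw [Finset.mem_singleton] at hj
          subst hj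
          exact hx)
        apply hab
        rw [← hxa, this, map_one, one_mul, mul_one]
      · obtain ⟨i, j, hij, hi⟩ := Finset.card_eq_two.1 h1
        obtain ⟨x, hx, hxa⟩ := htop i (by rw [hi]; exact Finset.mem_insert_self i _) a
        obtain ⟨y, hy, hyb⟩ := htop j (by
          rw [hi]; exact Finset.mem_insert_of_mem (Finset.mem_singleton_self j)) b
        have h3 : x * y * x⁻¹ * y⁻¹ = 1 := by
          apply hker
          rw [hi]
          intro l hl
          rw [Finset.mem_insert, Finset.mem_singleton] at hl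
          rcases hl with rfl | rfl
          · have h4 : r l x = 1 := hx
            have h5 : r l x⁻¹ = 1 := (r l).ker.inv_mem hx
            rw [map_mul, map_mul, map_mul, h4, h5, one_mul, mul_one, ← map_mul, mul_inv_cancel, map_one]
          · have h4 : r l y = 1 := hy
            have h5 : r l y⁻¹ = 1 := (r l).ker.inv_mem hy
            rw [map_mul, map_mul, map_mul, h4, h5, mul_one, mul_one, ← map_mul, mul_inv_cancel, map_one]
        apply hab
        rw [← hxa, ← hyb, ← map_mul, ← map_mul]
        congr 1
        rw [mul_inv_eq_one, mul_inv_eq_iff_eq_mul] at h3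
        exact h3
  have hdi1 : 1 ≤ d i := Nat.one_le_iff_ne_zero.2 (hd i).out
  have hdi2 := hdi i hiI
  let R : K ⧸ (r i).ker →* Matrix (Fin (d i)) (Fin (d i)) (Di i) :=
    QuotientGroup.lift (r i).ker (r i) le_rfl
  have hRmk : ∀ g : K, R (QuotientGroup.mk g) = r i g := fun g => rfl
  have hRinj : Function.Injective R := by
    intro a b hab
    obtain ⟨a, rfl⟩ := QuotientGroup.mk_surjective a
    obtain ⟨b, rfl⟩ := QuotientGroup.mk_surjective b
    rw [hRmk, hRmk] at hab
    rw [QuotientGroup.eq, MonoidHom.mem_ker, map_mul, ← hab, ← map_mul, inv_mul_cancel, map_one]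
  refine ⟨K ⧸ (r i).ker, inferInstance, inferInstance, hasSRep_of_matrix (by omega) R hRinj ?_,
    ⟨QuotientGroup.lift (r i).ker f hi, ?_⟩,
    Nat.card_le_card_of_surjective _ (QuotientGroup.mk'_surjective _)⟩
  · -- spanning
    have h1 : Set.range R = Set.range (r i) := by
      ext x
      constructor
      · rintro ⟨a, rfl⟩
        obtain ⟨a, rfl⟩ := QuotientGroup.mk_surjective a
        exact ⟨a, rfl⟩
      · rintro ⟨a, rfl⟩
        exact ⟨QuotientGroup.mk a, rfl⟩
    let L : MonoidAlgebra ℚ K →ₗ[ℚ] Matrix (Fin (d i)) (Fin (d i)) (Di i) :=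
      (LinearMap.proj i).comp e.toLinearMap
    have hL : Function.Surjective L := by
      intro X
      refine ⟨e.symm (Pi.single i X), ?_⟩
      change e (e.symm (Pi.single i X)) i = X
      rw [e.apply_symm_apply, Pi.single_eq_same]
    have h2 : Submodule.span ℚ (Set.range (MonoidAlgebra.of ℚ K)) = ⊤ := by
      rw [eq_top_iff]
      intro x _
      induction x using MonoidAlgebra.induction_on with
      | of g => exact Submodule.subset_span ⟨g, rfl⟩
      | add a b ha hb => exact Submodule.add_mem _ (ha trivial) (hb trivial)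
      | smul q a ha => exact Submodule.smul_mem _ q (ha trivial)
    have h3 : Set.range (r i) = L '' Set.range (MonoidAlgebra.of ℚ K) := by
      ext x
      constructor
      · rintro ⟨a, rfl⟩
        exact ⟨_, ⟨a, rfl⟩, rfl⟩
      · rintro ⟨_, ⟨a, rfl⟩, rfl⟩
        exact ⟨a, rfl⟩
    rw [h1, h3, ← Submodule.map_span, h2, Submodule.map_top, LinearMap.range_eq_top]
    exact hL
  · intro s
    obtain ⟨x, rfl⟩ := hf s
    exact ⟨QuotientGroup.mk x, rfl⟩

end Cfsg.Agent.H323.DivLin
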