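import Cfsg.Agent.H833.CaseD
import Cfsg.Agent.H833.SixEnd
import Cfsg.Agent.H836.EightMain
import Cfsg.Agent.CoOneNWC.OmFacts
import Cfsg.Agent.CpAut.Base
import Cfsg.Agent.S0144
import Cfsg.Agent.R01.Fi22Facts

/-!
# The outer involutory automorphisms of `Fi22` (helper323)

* `fi13` : `13` does not divide the order of the group of fixed points;
* `fi_sp` : a quasisimple normal subgroup `A` of order `1451520` of the group of fixed points is centralized by an
  involution of `Fi22`.
-/

set_option autoImplicit false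

namespace Cfsg.Agent.H323.FiOut

open Subgroup Cfsg
open Cfsg.Agent.Fischer.Fi22PtsRep (gen gen_sq)
open Cfsg.Agent.H836.EightPts (Cs mem_Cs)
open Cfsg.Agent.H833.SixPts (Ct mem_Ct tt)
open Cfsg.Agent.H833.Flip
open Cfsg.Agent.H836.EightMain (ρ K0 exists_K0)

universe u

/-- the property -/
def Q {Y : Type*} [Group Y] (β : MulAut Y) : Prop :=
  ¬ 13 ∣ Nat.card ↥(fixedSubgroup β) ∧
    ∀ A : Subgroup Y, A ≤ fixedSubgroup β → (∀ g ∈ fixedSubgroup β, ∀ a ∈ A, g * a * g⁻¹ ∈ A) → IsQuasisimple ↥A →
      Nat.card ↥A = 1451520 → 2 ∣ Nat.card ↥(centralizer (A : Set Y))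

theorem Q.of_congr {X Y : Type*} [Group X] [Group Y] (e : X ≃* Y) {α : MulAut X} (h : Q (MulAut.congr e α)) :
    Q α := by
  constructor
  · rw [Nat.card_congr (CpAut.fixEquiv e α).toEquiv]
    exact h.1
  · intro A hA hn hq hc
    have hmap := CpAut.map_fixedSubgroup e α
    have e1 : ↥A ≃* ↥(A.map e.toMonoidHom) := A.equivMapOfInjective e.toMonoidHom e.injective
    have h1 := h.2 (A.map e.toMonoidHom) (by rw [← hmap]; exact map_mono hA) (by
      intro g hg a ha
      rw [← hmap] at hg
      obtain ⟨g, hg, rfl⟩ := hg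
      obtain ⟨a, ha, rfl⟩ := ha
      exact ⟨g * a * g⁻¹, hn g hg a ha, by rw [map_mul, map_mul, map_inv]⟩)
      ((Cfsg.Agent.SignalizersComponents.Components.isQuasisimple_congr e1).1 hq) (by rw [← Nat.card_congr e1.toEquiv, hc])
    have h2 : (centralizer (A : Set X)).map e.toMonoidHom = centralizer ((A.map e.toMonoidHom : Subgroup Y) : Set Y) := by
      ext y
      constructor
      · rintro ⟨x, hx, rfl⟩
        rw [mem_centralizer_iff]
        rintro _ ⟨a, ha, rfl⟩
        have h3 := (mem_centralizer_iff.1 hx) a ha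
        rw [← map_mul, h3, map_mul]
      · intro hy
        refine ⟨e.symm y, ?_, e.apply_symm_apply y⟩
        rw [SetLike.mem_coe, mem_centralizer_iff]
        intro a ha
        have h3 := (mem_centralizer_iff.1 hy) (e a) ⟨a, ha, rfl⟩
        apply e.injective
        rw [map_mul, map_mul, e.apply_symm_apply]
        exact h3
    rw [← h2, card_map_of_injective e.injective] at h1
    exact h1

theorem Q.of_isConj {Y : Type*} [Group Y] {α β : MulAut Y} (h : IsConj α β) (hβ : Q β) : Q α := by
  obtain ⟨γ, rfl⟩ := isConj_iff.1 h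
  exact Q.of_congr γ hβ

theorem finite_Fi22 : Finite Spor.Fi22 := R01.Fi22Facts.finite

/-! ### the flip -/

theorem fix_flip : fixedSubgroup flipA = Cs := by
  ext g
  exact Iff.rfl

theorem simple_K0 : IsSimpleGroup ↥K0 := by
  obtain ⟨e⟩ := exists_K0
  obtain ⟨e'⟩ := Cfsg.Agent.H836.EightO.exists_omega
  have := Cfsg.Agent.CoOneNWC.OmFacts.simple_om8
  exact (e.trans e'.symm).isSimpleGroup

theorem card_K0 : Nat.card ↥K0 = 174182400 := by
  obtain ⟨e⟩ := exists_K0
  rw [Nat.card_congr e.toEquiv, Cfsg.Agent.H836.EightO.card_Om]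

theorem q_flip : Q flipA := by
  have hfin := finite_Fi22
  constructor
  · rw [fix_flip, Cfsg.Agent.H836.EightMain.card_Cs]
    norm_num
  · intro A hA hn hq hc
    exfalso
    rw [fix_flip] at hA hn
    have hp : ⁅A, A⁆ = A := by
      have h1 := congrArg (Subgroup.map A.subtype) hq.1.1
      rw [_root_.commutator_def, map_commutator, ← MonoidHom.range_eq_map, A.range_subtype] at h1
      exact h1
    have hmap : (A.subgroupOf Cs).map Cs.subtype = A := by
      rw [subgroupOf_map_subtype, inf_eq_left.2 hA]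
    have hp' : ⁅A.subgroupOf Cs, A.subgroupOf Cs⁆ = A.subgroupOf Cs := by
      apply map_injective Cs.subtype_injective
      rw [map_commutator, hmap, hp]
    have hK : A.subgroupOf Cs ≤ K0 := by
      have h2 : ⁅(A.subgroupOf Cs).map ρ, (A.subgroupOf Cs).map ρ⁆ = (A.subgroupOf Cs).map ρ := by
        rw [← map_commutator, hp']
      have hs : Group.IsSolvable (Equiv.Perm (Fin 3)) :=
        S0144.result 2 3 1 1 Nat.prime_two Nat.prime_three (by
          rw [Nat.card_eq_fintype_card, Fintype.card_perm, Fintype.card_fin]; rfl)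
      have h3 : (A.subgroupOf Cs).map ρ = ⊥ := by
        by_contra hne
        have h4 : Nontrivial ↥((A.subgroupOf Cs).map ρ) := (nontrivial_iff_ne_bot _).2 hne
        have h5 := Group.IsSolvable.commutator_lt_of_ne_bot (G := Equiv.Perm (Fin 3)) hne
        rw [h2] at h5
        exact lt_irrefl _ h5
      rwa [Subgroup.map_eq_bot_iff] at h3
    have hnor : (A.subgroupOf Cs).Normal := by
      refine ⟨fun a ha g => ?_⟩
      rw [mem_subgroupOf] at ha ⊢
      exact hn g g.2 a ha
    have hs := simple_K0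
    have h1 : ((A.subgroupOf Cs).subgroupOf K0).Normal := hnor.subgroupOf K0
    have hcA : Nat.card ↥((A.subgroupOf Cs).subgroupOf K0) = 1451520 := by
      rw [Nat.card_congr (subgroupOfEquivOfLe hK).toEquiv, Nat.card_congr (subgroupOfEquivOfLe hA).toEquiv, hc]
    rcases hs.eq_bot_or_eq_top_of_normal _ h1 with h | h
    · rw [h, Subgroup.card_bot] at hcA
      omega
    · rw [h, Subgroup.card_top, card_K0] at hcA
      omega

theorem q_d : Q (flipA * MulAut.conj (gen .d)) := by
  have hfin := finite_Fi22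
  have hfix : fixedSubgroup (flipA * MulAut.conj (gen .d)) = Cs ⊓ centralizer ({gen .d} : Set Spor.Fi22) := by
    ext g
    exact Cfsg.Agent.H833.CaseD.fixed_iff g
  constructor
  · obtain ⟨f⟩ := Cfsg.Agent.H833.CaseD.iso
    rw [hfix, Nat.card_congr f.toEquiv, Nat.card_prod, Cfsg.Agent.H833.CaseD.card_PSp]
    simp
  · intro A hA hn hq hc
    have h1 : gen .d ∈ centralizer (A : Set Spor.Fi22) := by
      rw [mem_centralizer_iff]
      intro a ha
      have h2 := hA ha
      rw [hfix, mem_inf, mem_centralizer_singleton_iff] at h2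
      exact h2.2
    have h2 : orderOf (gen Spor.Fi22.Gen.d) = 2 := orderOf_eq_prime (by rw [pow_two, gen_sq]) (gen_ne_one _)
    have h3 := orderOf_dvd_natCard (⟨gen .d, h1⟩ : ↥(centralizer (A : Set Spor.Fi22)))
    rwa [Subgroup.orderOf_mk, h2] at h3

theorem q_tt : Q tt := by
  have hfin := finite_Fi22
  have hfix : fixedSubgroup tt = Ct := by
    ext g
    exact Iff.rfl
  have hc : Nat.card ↥(fixedSubgroup tt) = 3317760 := by rw [hfix, Cfsg.Agent.H833.SixEnd.card_Ct]
  constructor
  · rw [hc]
    norm_num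
  · intro A hA _ _ hcA
    have h1 := card_dvd_of_le hA
    rw [hcA, hc] at h1
    norm_num at h1

theorem q_all {α : MulAut Spor.Fi22} (h2 : α * α = 1) (ho : ¬ ∃ g, α = MulAut.conj g) : Q α := by
  have h3 : α ≠ 1 := by
    rintro rfl
    exact ho ⟨1, by rw [map_one]⟩
  have ho2 : orderOf α = 2 := orderOf_eq_prime (by rw [pow_two, h2]) h3
  rcases Cfsg.Agent.H830.OutInv22.outer_inv α ho2 (fun ⟨g, hg⟩ => ho ⟨g, hg.symm⟩) with h | h | h
  · exact Q.of_isConj h q_flip
  · exact Q.of_isConj h q_d
  · exact Q.of_isConj h q_tt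

theorem q_iso {X : Type u} [Group X] (hX : Spor.IsoFi22 X) {α : MulAut X} (h2 : α * α = 1)
    (ho : ¬ ∃ g, α = MulAut.conj g) : Q α := by
  obtain ⟨e⟩ := hX
  apply Q.of_congr e
  apply q_all
  · rw [← map_mul, h2, map_one]
  · rintro ⟨g, hg⟩
    apply ho
    refine ⟨e.symm g, ?_⟩
    ext b
    have h4 := DFunLike.congr_fun hg (e b)
    change e (α (e.symm (e b))) = g * e b * g⁻¹ at h4
    rw [e.symm_apply_apply] at h4
    apply e.injective
    rw [h4, MulAut.conj_apply, map_mul, map_mul, map_inv, e.apply_symm_apply]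

end Cfsg.Agent.H323.FiOut
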