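import Cfsg.Agent.H287.HNd
import Cfsg.Agent.H732.SelfCent
import Cfsg.Agent.Cit.Nil.Comp.MThreeAbs
import Cfsg.Agent.CpAutSuz.Gen

/-!
# `HN`: no component `Sp₆(2)` in the centralizer of an outer involution (helper323)
-/

set_option autoImplicit false

namespace Cfsg.Agent.H323.HNOut

open Subgroup Cfsg
open Cfsg.Agent.HN Cfsg.Agent.HN.Pres Cfsg.Agent.HN.P1408 Cfsg.Agent.HN.H0Basic Cfsg.Agent.HN.Local
open Cfsg.Agent.HN.Iota
open Cfsg.Agent.HN.HS100 (K K_normal)
open Cfsg.Agent.HN.XWords (W0)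
open Cfsg.Agent.SignalizersComponents.Components
open Cfsg.Agent.H287.OutHN

universe u v

/-- an involution commuting with an element of order 7 -/
theorem sp_seven {S : Type v} [Group S] [Finite S] {F : Type} [Field F] [Fintype F] (hF : Fintype.card F = 2)
    (e : S ≃* PSp 3 F) (hc : Nat.card S = 1451520) {x w : S} (hx : x * x = 1) (hw : orderOf w = 7)
    (h : x * w = w * x) : x = 1 := by
  obtain ⟨R, hR7, hRc⟩ := H732.SelfCent.psp_six_two hF
  have hfin : Finite (PSp 3 F) := Finite.of_equiv S e.toEquiv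
  have : Fact (Nat.Prime 7) := ⟨by norm_num⟩
  -- a generator of `R`
  obtain ⟨r, hr⟩ := exists_prime_orderOf_dvd_card' (G := ↥R) 7 (by rw [hR7])
  have hr1 : orderOf (r : PSp 3 F) = 7 := by rw [Subgroup.orderOf_coe, hr]
  have hcP : Nat.card (PSp 3 F) = 1451520 := by rw [← Nat.card_congr e.toEquiv, hc]
  have hew : orderOf (e w) = 7 := by rw [MulEquiv.orderOf_eq, hw]
  obtain ⟨g, hg⟩ := CpAutSuz.Fix.isConj_zpowers (G := PSp 3 F) (l := 7) (by norm_num) (by rw [hcP]; norm_num)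
    hew hr1
  have hRz : zpowers (r : PSp 3 F) = R := by
    apply Subgroup.eq_of_le_of_card_ge
    · rw [zpowers_le]; exact r.2
    · rw [hR7, Nat.card_zpowers, hr1]
  have h1 : g * e x * g⁻¹ ∈ centralizer (R : Set (PSp 3 F)) := by
    rw [← hRz, ← hg, mem_centralizer_iff]
    intro a ha
    obtain ⟨k, rfl⟩ := mem_zpowers_iff.1 ha
    have h2 : Commute (g * e w * g⁻¹) (g * e x * g⁻¹) := by
      show g * e w * g⁻¹ * (g * e x * g⁻¹) = g * e x * g⁻¹ * (g * e w * g⁻¹)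
      calc g * e w * g⁻¹ * (g * e x * g⁻¹) = g * (e w * e x) * g⁻¹ := by group
        _ = g * (e x * e w) * g⁻¹ := by rw [← map_mul, ← h, map_mul]
        _ = _ := by group
    exact (h2.zpow_left k).eq
  rw [hRc] at h1
  have h3 := orderOf_dvd_natCard (⟨_, h1⟩ : ↥R)
  rw [Subgroup.orderOf_mk, hR7] at h3
  have h4 : (g * e x * g⁻¹) ^ 2 = 1 := by
    calc (g * e x * g⁻¹) ^ 2 = g * e (x * x) * g⁻¹ := by rw [map_mul, pow_two]; group
      _ = 1 := by rw [hx, map_one]; group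
  have h5 := orderOf_dvd_of_pow_eq_one h4
  have h6 := Nat.dvd_gcd h3 h5
  have h7 : orderOf (g * e x * g⁻¹) = 1 := Nat.dvd_one.1 h6
  rw [orderOf_eq_one_iff] at h7
  have h9 : e x = 1 := by
    have h8 : e x = g⁻¹ * (g * e x * g⁻¹) * g := by group
    rw [h8, h7]; group
  exact e.injective (by rw [h9, map_one])

/-- **No normal subgroup `Sp₆(2)`.** -/
theorem no_sp_HN {t : MulAut Cfsg.Spor.HN} (ht : orderOf t = 2) (hout : ¬ ∃ g, t = MulAut.conj g)
    {A : Subgroup ↥(fixedSubgroup t)} (hAn : A.Normal) (hz : center ↥A = ⊥) (hcA : Nat.card ↥A = 1451520)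
    {F : Type} [Field F] [Fintype F] (hF : Fintype.card F = 2) (e : ↥A ≃* PSp 3 F) : False := by
  have hfin : Finite Cfsg.Spor.HN := Cfsg.Agent.KFacts.HN.finite_HN
  obtain ⟨D⟩ := exists_D
  have htt := orderOf_fix ht
  have : Fact (Nat.Prime 7) := ⟨by norm_num⟩
  obtain ⟨w, hw⟩ := exists_prime_orderOf_dvd_card' 7 (show 7 ∣ Nat.card ↥A by rw [hcA]; norm_num)
  have hw1 : orderOf ((w : ↥(fixedSubgroup t)) : Cfsg.Spor.HN) = 7 := by
    rw [Subgroup.orderOf_coe, Subgroup.orderOf_coe, hw]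
  obtain ⟨g, w0, k1, k2, k3, k4, k5⟩ := exists_normal D htt hout (w := ((w : ↥(fixedSubgroup t)) : Cfsg.Spor.HN))
    (w : ↥(fixedSubgroup t)).2 (p := 7) (Or.inl rfl) hw1
  obtain ⟨s, rfl⟩ := comm_gz (w := w0) k2.symm (n := 3) (by
    have h := pow_orderOf_eq_one w0
    rwa [k3] at h)
  have hfx : ∀ y : Cfsg.Spor.HN, (MulAut.conj g * t * (MulAut.conj g)⁻¹) y = y → t (g⁻¹ * y * g) = g⁻¹ * y * g := by
    intro y hy
    rw [conj_apply'] at hy
    nth_rewrite 2 [← hy]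
    group
  let uC : ↥(fixedSubgroup t) := ⟨g⁻¹ * NormalH.ψ τ * g, hfx _ k4⟩
  have huu : uC * uC = 1 := Subtype.ext (by
    change g⁻¹ * NormalH.ψ τ * g * (g⁻¹ * NormalH.ψ τ * g) = 1
    have h1 : NormalH.ψ τ * NormalH.ψ τ = 1 := by rw [← map_mul, τ_mul_τ, map_one]
    calc g⁻¹ * NormalH.ψ τ * g * (g⁻¹ * NormalH.ψ τ * g) = g⁻¹ * (NormalH.ψ τ * NormalH.ψ τ) * g := by group
      _ = 1 := by rw [h1]; group)
  have huw : uC * (w : ↥(fixedSubgroup t)) * uC⁻¹ = w := by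
    rw [mul_inv_eq_iff_eq_mul]
    apply Subtype.ext
    change g⁻¹ * NormalH.ψ τ * g * ((w : ↥(fixedSubgroup t)) : Cfsg.Spor.HN) =
      ((w : ↥(fixedSubgroup t)) : Cfsg.Spor.HN) * (g⁻¹ * NormalH.ψ τ * g)
    rw [k1]
    calc g⁻¹ * NormalH.ψ τ * g * (g⁻¹ * NormalH.ψ (iota s) * g) = g⁻¹ * (NormalH.ψ τ * NormalH.ψ (iota s)) * g := by
          group
      _ = g⁻¹ * (NormalH.ψ (iota s) * NormalH.ψ τ) * g := by rw [← map_mul, ← map_mul, τ_comm]
      _ = _ := by group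
  let α : MulAut ↥A := MulAut.conjNormal uC
  have hαv : ∀ a : ↥A, ((α a : ↥A) : ↥(fixedSubgroup t)) = uC * a * uC⁻¹ := fun a => MulAut.conjNormal_apply uC a
  obtain ⟨x, hx⟩ := Cfsg.Agent.Cit.Nil.Comp.aut_spSix (X := ↥A) ⟨F, inferInstance, inferInstance, hF, ⟨e⟩⟩ α
  have hxw : x * w = w * x := by
    have h1 : α w = w := Subtype.ext (by rw [hαv]; exact huw)
    rw [hx, MulAut.conj_apply] at h1
    exact mul_inv_eq_iff_eq_mul.1 h1
  have hxx : x * x = 1 := by
    have h1 : x * x ∈ center ↥A := by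
      rw [mem_center_iff]
      intro a
      have h2 : α (α a) = a := by
        apply Subtype.ext
        rw [hαv, hαv]
        calc uC * (uC * (a : ↥(fixedSubgroup t)) * uC⁻¹) * uC⁻¹ = (uC * uC) * a * (uC * uC)⁻¹ := by group
          _ = a := by rw [huu]; group
      rw [hx, MulAut.conj_apply, MulAut.conj_apply] at h2
      calc a * (x * x) = (x * (x * a * x⁻¹) * x⁻¹) * (x * x) := by rw [h2]
        _ = x * x * a := by group
    rwa [hz, mem_bot] at h1
  have hx1 := sp_seven hF e hcA hxx hw hxw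
  rw [hx1, map_one] at hx
  have h2 : A.map (fixedSubgroup t).subtype ≤ centralizer ({g⁻¹ * NormalH.ψ τ * g} : Set Cfsg.Spor.HN) := by
    rintro _ ⟨a, ha, rfl⟩
    rw [mem_centralizer_singleton_iff]
    have h3 : uC * a * uC⁻¹ = a := by
      have h4 := hαv ⟨a, ha⟩
      rw [hx] at h4
      exact h4.symm
    have h5 := congrArg (fun b : ↥(fixedSubgroup t) => (b : Cfsg.Spor.HN)) h3
    change (uC : Cfsg.Spor.HN) * (a : Cfsg.Spor.HN) * (uC : Cfsg.Spor.HN)⁻¹ = (a : Cfsg.Spor.HN) at h5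
    exact (mul_inv_eq_iff_eq_mul.1 h5).symm
  have h3 := card_dvd_of_le h2
  have h4 : Nat.card ↥(centralizer ({g⁻¹ * NormalH.ψ τ * g} : Set Cfsg.Spor.HN)) = 177408000 := by
    have h5 := card_centralizer_conj g⁻¹ (NormalH.ψ τ)
    rw [inv_inv] at h5
    rw [h5, card_ψτ]
  rw [h4, card_map_of_injective (fixedSubgroup t).subtype_injective, hcA] at h3
  norm_num at h3

/-- **No normal subgroup `Sp₆(2)` in the group of fixed points of an outer involutory automorphism of `HN`.** -/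
theorem no_sp {X : Type u} [Group X] [Finite X] (h : Spor.IsoHN X) {α : MulAut X} (h2 : α * α = 1)
    (ho : ¬ ∃ g, α = MulAut.conj g) {A : Subgroup X} (hA : A ≤ fixedSubgroup α)
    (hn : ∀ g ∈ fixedSubgroup α, ∀ a ∈ A, g * a * g⁻¹ ∈ A) (hz : center ↥A = ⊥) (hcA : Nat.card ↥A = 1451520)
    {F : Type} [Field F] [Fintype F] (hF : Fintype.card F = 2) (e : ↥A ≃* PSp 3 F) : False := by
  obtain ⟨j⟩ := h
  have h3 : α ≠ 1 := by
    rintro rfl
    exact ho ⟨1, by rw [map_one]⟩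
  have ho2 : orderOf (MulAut.congr j α) = 2 := by
    rw [MulEquiv.orderOf_eq]
    exact orderOf_eq_prime (by rw [pow_two, h2]) h3
  have hout : ¬ ∃ g, MulAut.congr j α = MulAut.conj g := by
    rintro ⟨g, hg⟩
    apply ho
    refine ⟨j.symm g, ?_⟩
    ext b
    have h4 := DFunLike.congr_fun hg (j b)
    change j (α (j.symm (j b))) = g * j b * g⁻¹ at h4
    rw [j.symm_apply_apply] at h4
    apply j.injective
    rw [h4, MulAut.conj_apply, map_mul, map_mul, map_inv, j.apply_symm_apply]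
  have hmap := CpAut.map_fixedSubgroup j α
  have hle : A.map j.toMonoidHom ≤ fixedSubgroup (MulAut.congr j α) := by rw [← hmap]; exact map_mono hA
  have e1 : ↥A ≃* ↥((A.map j.toMonoidHom).subgroupOf (fixedSubgroup (MulAut.congr j α))) :=
    (A.equivMapOfInjective j.toMonoidHom j.injective).trans (subgroupOfEquivOfLe hle).symm
  refine no_sp_HN ho2 hout (A := (A.map j.toMonoidHom).subgroupOf (fixedSubgroup (MulAut.congr j α))) ?_ ?_ ?_ hF
    (e1.symm.trans e)
  · refine ⟨fun a ha g => ?_⟩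
    rw [mem_subgroupOf] at ha ⊢
    obtain ⟨y, hy⟩ := g
    have hy' := hy
    rw [← hmap] at hy'
    obtain ⟨g, hg, rfl⟩ := hy'
    obtain ⟨b, hb, hba⟩ := ha
    refine ⟨g * b * g⁻¹, hn g hg b hb, ?_⟩
    change j (g * b * g⁻¹) = j g * (a : Cfsg.Spor.HN) * (j g)⁻¹
    rw [← hba, map_mul, map_mul, map_inv]
    rfl
  · rw [eq_bot_iff]
    intro z hzz
    have h5 : e1.symm z ∈ center ↥A := by
      rw [mem_center_iff] at hzz ⊢
      intro b
      have h6 := congrArg e1.symm (hzz (e1 b))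
      rwa [map_mul, map_mul, e1.symm_apply_apply] at h6
    rw [hz, mem_bot] at h5
    rw [mem_bot]
    have h6 := congrArg e1 h5
    rwa [e1.apply_symm_apply, map_one] at h6
  · rw [← Nat.card_congr e1.toEquiv, hcA]

end Cfsg.Agent.H323.HNOut
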