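import Cfsg.Agent.H293.Cfg
import Cfsg.Agent.H287.FixInn
import Cfsg.Agent.H287.FixInnB
import Cfsg.Agent.H287.InnTwo
import Cfsg.Agent.H287.InnON
import Cfsg.Agent.H287.OutON
import Cfsg.Agent.H287.OutFi24
import Cfsg.Agent.H283.BRow
import Cfsg.Agent.S2084
import Cfsg.Agent.S0220
import Cfsg.Agent.H287.FixFi22
import Cfsg.Agent.H323.SuzOutB
import Cfsg.Agent.H323.FiOut
import Cfsg.Agent.H323.HNOut

/-!
# No component `G₂(3)` or `Sp₆(2)` in the centralizers of the involutory automorphisms of the sporadic groups (helper323)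

`not_spor` : `X` sporadic or the Tits group, `α` an automorphism of order 2, `A ⊴ C_X(α)` quasisimple,
`C(A) ∩ C_X(α)` with cyclic Sylow 2-subgroups, `|C_X(A)|` odd if `α` is outer: then neither `|A/Z(A)| = |G₂(3)|` nor
`A ≅ Sp₆(2)`.
-/

set_option autoImplicit false

namespace Cfsg.Agent.H323.StdSpor

open Subgroup Cfsg
open Cfsg.Agent.H293 (Cfg)
open Cfsg.Agent.H287 (FixCard OutCard NoC)
open Cfsg.Agent.CTwoTab (CompCard)
open Cfsg.Agent.SignalizersComponents.Components

universe u

variable {X : Type u} [Group X] [Finite X] {α : MulAut X} {A : Subgroup X}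

theorem order_two (h : Cfg α A) : orderOf α = 2 := orderOf_eq_prime (by rw [pow_two]; exact h.sq) h.ne

theorem isComponentOf (h : Cfg α A) : IsComponentOf A (fixedSubgroup α) := by
  refine ⟨h.le, ?_, ?_⟩
  · have hn : (A.subgroupOf (fixedSubgroup α)).Normal := by
      refine ⟨fun a ha g => ?_⟩
      rw [mem_subgroupOf] at ha ⊢
      exact h.nrm g g.2 a ha
    exact hn.isSubnormal
  · exact (isQuasisimple_congr (subgroupOfEquivOfLe h.le)).2 h.qs

/-- two commuting involutions of `C(A) ∩ C(α)` -/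
theorem eq_of_comm (h : Cfg α A) {u d : X} (hu : u ∈ centralizer (A : Set X) ⊓ fixedSubgroup α)
    (hd : d ∈ centralizer (A : Set X) ⊓ fixedSubgroup α) (hu2 : orderOf u = 2) (hd2 : orderOf d = 2)
    (hc : u * d = d * u) : d = u := by
  have : Fact (Nat.Prime 2) := ⟨Nat.prime_two⟩
  let C := centralizer (A : Set X) ⊓ fixedSubgroup α
  let u' : ↥C := ⟨u, hu⟩
  let d' : ↥C := ⟨d, hd⟩
  have hu' : orderOf u' = 2 := by rw [← hu2]; exact Subgroup.orderOf_mk u hu
  have hd' : orderOf d' = 2 := by rw [← hd2]; exact Subgroup.orderOf_mk d hd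
  have huu : u' * u' = 1 := by rw [← pow_two, ← hu', pow_orderOf_eq_one]
  have hdd : d' * d' = 1 := by rw [← pow_two, ← hd', pow_orderOf_eq_one]
  have hc' : u' * d' = d' * u' := Subtype.ext hc
  have hp : IsPGroup 2 ↥(closure ({u', d'} : Set ↥C)) := by
    have hcl : ∀ a ∈ closure ({u', d'} : Set ↥C), a * a = 1 := by
      refine H287.closure_sq ?_ ?_
      · rintro a (rfl | rfl) b (rfl | rfl)
        · rfl
        · exact hc'
        · exact hc'.symm
        · rfl
      · rintro a (rfl | rfl)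
        · exact huu
        · exact hdd
    exact H287.isPGroup_of_sq hcl
  obtain ⟨R, hR⟩ := hp.exists_le_sylow
  have hcyc := h.cyc R
  have huR : u' ∈ R := hR (subset_closure (Set.mem_insert _ _))
  have hdR : d' ∈ R := hR (subset_closure (Set.mem_insert_of_mem _ rfl))
  have h1 : (⟨u', huR⟩ : ↥(R : Subgroup ↥C)) = ⟨d', hdR⟩ := by
    refine S0220.unique_involution ?_ ?_
    · exact (Subgroup.orderOf_mk u' huR).trans hu'
    · exact (Subgroup.orderOf_mk d' hdR).trans hd'
  exact (congrArg (fun x : ↥(R : Subgroup ↥C) => (((x : ↥C) : X))) h1).symm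

/-! ### the hypothesis on `A` -/

/-- `|A / Z(A)| = |G₂(3)|`, or `A ≅ Sp₆(2)` -/
def HA (A : Subgroup X) : Prop :=
  Nat.card (↥A ⧸ center ↥A) = 4245696 ∨ (center ↥A = ⊥ ∧ Nat.card ↥A = 1451520 ∧
    ∃ (F : Type) (_ : Field F) (_ : Fintype F), Fintype.card F = 2 ∧ Nonempty (↥A ≃* PSp 3 F))

theorem HA.cards (hA : HA A) : Nat.card (↥A ⧸ center ↥A) = 4245696 ∨
    (Nat.card ↥A = 1451520 ∧ Nat.card (↥A ⧸ center ↥A) = 1451520) := by
  rcases hA with h | ⟨h1, h2, -⟩
  · exact Or.inl h
  · refine Or.inr ⟨h2, ?_⟩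
    rw [h1, ← h2]
    exact Nat.card_congr QuotientGroup.quotientBot.toEquiv

/-- the order -/
theorem not_order (hA : HA A) {n : ℕ} (hn : Nat.card X = n) (h1 : ¬ 4245696 ∣ n) (h2 : ¬ 1451520 ∣ n) : False := by
  have h3 : Nat.card (↥A ⧸ center ↥A) ∣ Nat.card X := Cfg.card_quot_dvd A
  rw [hn] at h3
  rcases hA.cards with h | ⟨-, h⟩
  · rw [h] at h3; exact h1 h3
  · rw [h] at h3; exact h2 h3

/-- a table of orders -/
theorem not_fix (h : Cfg α A) (hA : HA A) {S : ℕ → ℕ → Prop} (hS : FixCard S X) (h1 : ∀ n, ¬ S n 4245696)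
    (h2 : ¬ S 1451520 1451520) : False := by
  have h3 := hS.comp (order_two h) (isComponentOf h)
  rcases hA.cards with h4 | ⟨h4, h5⟩
  · rw [h4] at h3; exact h1 _ h3
  · rw [h4, h5] at h3; exact h2 h3

theorem not_inn (h : Cfg α A) (hA : HA A) (hc : center X = ⊥) (hi : ∃ g, α = MulAut.conj g) {S : ℕ → ℕ → Prop}
    (hS : CompCard S X) (h1 : ∀ n, ¬ S n 4245696) (h2 : ¬ S 1451520 1451520) : False := by
  obtain ⟨g, rfl⟩ := hi
  have h5 := order_two h
  rw [CpAut.orderOf_conj hc] at h5
  have h6 := isComponentOf h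
  rw [CpAut.fixedSubgroup_conj] at h6
  have h3 := hS g h5 A h6
  rcases hA.cards with h4 | ⟨h4, h5⟩
  · rw [h4] at h3; exact h1 _ h3
  · rw [h4, h5] at h3; exact h2 h3

theorem not_out (h : Cfg α A) (hA : HA A) (ho : ¬ ∃ g, α = MulAut.conj g) {S : ℕ → ℕ → Prop}
    (hS : OutCard S X) (h1 : ∀ n, ¬ S n 4245696) (h2 : ¬ S 1451520 1451520) : False := by
  have h3 := (hS α (order_two h) ho).comp (isComponentOf h)
  rcases hA.cards with h4 | ⟨h4, h5⟩
  · rw [h4] at h3; exact h1 _ h3
  · rw [h4, h5] at h3; exact h2 h3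

theorem dvd_fix (h : Cfg α A) (hA : HA A) :
    Nat.card (↥A ⧸ center ↥A) = 4245696 ∧ 4245696 ∣ Nat.card ↥(fixedSubgroup α) ∨
      Nat.card ↥A = 1451520 ∧ 1451520 ∣ Nat.card ↥(fixedSubgroup α) := by
  have h3 := card_dvd_of_le h.le
  have h4 : Nat.card (↥A ⧸ center ↥A) ∣ Nat.card ↥A := card_quotient_dvd_card _
  rcases hA.cards with h5 | ⟨h5, -⟩
  · left; exact ⟨h5, by rw [← h5]; exact h4.trans h3⟩
  · right; exact ⟨h5, by rw [← h5]; exact h3⟩

/-! ### the rows -/

section rows

variable [IsSimpleGroup X]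

theorem center_bot {n : ℕ} (hn : Nat.card X = n) (h : ¬ n.Prime) : center X = ⊥ :=
  CpAut.TwoInner.center_eq_bot_of_card inferInstance (by rw [hn]; exact h)

theorem co1 (h : Cfg α A) (hA : HA A) (hX : Spor.IsoCo1 X) : False :=
  not_fix h hA (H287.fix_co1 hX) (fun n hn => by omega) (fun hn => by omega)

theorem co2 (h : Cfg α A) (hA : HA A) (hX : Spor.IsoCo2 X) : False :=
  not_fix h hA (H287.fix_co2 hX) (fun n hn => hn) (fun hn => hn)

theorem co3 (h : Cfg α A) (hA : HA A) (hX : Spor.IsoCo3 X) : False :=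
  not_fix h hA (H287.fix_co3 hX) (fun n hn => by omega) (fun hn => by omega)

theorem th (h : Cfg α A) (hA : HA A) (hX : Spor.IsoTh X) : False :=
  not_fix h hA (H287.fix_th hX) (fun n hn => hn) (fun hn => hn)

theorem fi23 (h : Cfg α A) (hA : HA A) (hX : Spor.IsoFi23 X) : False :=
  not_fix h hA (H287.fix_fi23 hX) (fun n hn => by omega) (fun hn => by omega)

theorem m (h : Cfg α A) (hA : HA A) (hX : Spor.IsoM X) : False :=
  not_fix h hA (H287.fix_m hX) (fun n hn => by omega) (fun hn => by omega)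

theorem fi24 (h : Cfg α A) (hA : HA A) (hX : Spor.IsoFi24' X) : False := by
  have hc := NotCT.Orders.fi24 hX
  by_cases hi : ∃ g, α = MulAut.conj g
  · exact not_inn h hA (center_bot hc (by norm_num)) hi (H287.compCard_fi24 hX) (fun n hn => by omega)
      (fun hn => by omega)
  · exact not_out h hA hi (H287.OutFi24.outCard hX) (fun n hn => by omega) (fun hn => by omega)

theorem on (h : Cfg α A) (hA : HA A) (hX : Spor.IsoON X) : False := by
  have hc := NotCT.Orders.on hX
  by_cases hi : ∃ g, α = MulAut.conj g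
  · exact not_inn h hA (center_bot hc (by norm_num)) hi (H287.InnON.compCard hX) (fun n hn => by omega)
      (fun hn => by omega)
  · have h3 := (H287.OutON.outCard hX α (order_two h) hi).comp (isComponentOf h)
    obtain ⟨h4, h5⟩ := h3
    rcases hA.cards with h6 | ⟨h6, -⟩
    · have h7 : 4245696 ∣ 460815505920 := by
        rw [← h6]
        exact (card_quotient_dvd_card _).trans h4
      norm_num at h7
    · rw [h6] at h5
      norm_num at h5

theorem suz (h : Cfg α A) (hA : HA A) (hX : Spor.IsoSuz X) : False := by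
  have hc := NotCT.Orders.suz hX
  by_cases hi : ∃ g, α = MulAut.conj g
  · exact not_inn h hA (center_bot hc (by norm_num)) hi (H287.compCard_suz hX) (fun n hn => by omega)
      (fun hn => by omega)
  · rcases dvd_fix h hA with ⟨-, h1⟩ | ⟨-, h1⟩
    · exact SuzOut.suz13 hX h.sq hi ((show 13 ∣ 4245696 by norm_num).trans h1)
    · exact SuzOut.suz567 hX h.sq hi ((show 567 ∣ 1451520 by norm_num).trans h1)

theorem fi22 (h : Cfg α A) (hA : HA A) (hX : Spor.IsoFi22 X)
    (hodd : (¬ ∃ y, α = MulAut.conj y) → Odd (Nat.card ↥(centralizer (A : Set X)))) : False := by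
  have hc := NotCT.Orders.fi22 hX
  by_cases hi : ∃ g, α = MulAut.conj g
  · exact not_inn h hA (center_bot hc (by norm_num)) hi (H287.compCard_fi22 hX) (fun n hn => by omega)
      (fun hn => by omega)
  · have hq := FiOut.q_iso hX h.sq hi
    rcases dvd_fix h hA with ⟨-, h1⟩ | ⟨h1, -⟩
    · exact hq.1 ((show 13 ∣ 4245696 by norm_num).trans h1)
    · have h2 := hq.2 A h.le h.nrm h.qs h1
      have h3 := hodd hi
      rw [← Nat.not_even_iff_odd] at h3
      exact h3 (even_iff_two_dvd.2 h2)

theorem hn (h : Cfg α A) (hA : HA A) (hX : Spor.IsoHN X) : False := by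
  have hc := NotCT.Orders.hn hX
  by_cases hi : ∃ g, α = MulAut.conj g
  · exact not_inn h hA (center_bot hc (by norm_num)) hi (H287.compCard_hn hX) (fun n hn => by omega)
      (fun hn => by omega)
  · rcases hA with h1 | ⟨h1, h2, F, hF1, hF2, hF, ⟨e⟩⟩
    · have h3 : Nat.card (↥A ⧸ center ↥A) ∣ Nat.card X := Cfg.card_quot_dvd A
      rw [h1, hc] at h3
      norm_num at h3
    · exact HNOut.no_sp hX h.sq hi h.le h.nrm h1 h2 hF e

theorem b (h : Cfg α A) (hA : HA A) (hX : Spor.IsoB X) : False := by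
  have hc := NotCT.Orders.b hX
  obtain ⟨e⟩ := hX
  obtain ⟨g, rfl⟩ := CpAut.TwoInner.inner_congr e (fun α => H287.inner_of_out S2084.result α) α
  have hcen := center_bot hc (by norm_num)
  have hg := order_two h
  rw [CpAut.orderOf_conj hcen] at hg
  have h6 := isComponentOf h
  rw [CpAut.fixedSubgroup_conj] at h6
  have h7 := CTwoTab.isComponentOf_map e h6
  rw [CTwoTab.map_centralizer_singleton] at h7
  have h8 := H283.BRow.pack_model (e g) (by rw [MulEquiv.orderOf_eq, hg]) _ h7
  have e1 := CTwoTab.subMap e A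
  rcases h8 with h8 | ⟨-, -, -, -, -, d, hd2, hdu, hud, hdA⟩
  · rw [← Nat.card_congr (CTwoTab.quoEquiv e1).toEquiv] at h8
    rcases hA.cards with h9 | ⟨-, h9⟩ <;> omega
  · have hgA : g ∈ centralizer (A : Set X) := by
      rw [mem_centralizer_iff]
      intro a ha
      exact mem_centralizer_singleton_iff.1 (h6.1 ha)
    have hgf : g ∈ fixedSubgroup (MulAut.conj g) := by
      rw [CpAut.fixedSubgroup_conj, mem_centralizer_singleton_iff]
    have hdA' : e.symm d ∈ centralizer (A : Set X) := by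
      rw [mem_centralizer_iff]
      intro a ha
      apply e.injective
      rw [map_mul, map_mul, e.apply_symm_apply]
      exact (mem_centralizer_singleton_iff.1 (hdA ⟨a, ha, rfl⟩))
    have hcomm : g * e.symm d = e.symm d * g := by
      apply e.injective
      rw [map_mul, map_mul, e.apply_symm_apply, hud]
    have hdf : e.symm d ∈ fixedSubgroup (MulAut.conj g) := by
      rw [CpAut.fixedSubgroup_conj, mem_centralizer_singleton_iff]
      exact hcomm.symm
    have h9 := eq_of_comm h (mem_inf.2 ⟨hgA, hgf⟩) (mem_inf.2 ⟨hdA', hdf⟩) hg (by rw [MulEquiv.orderOf_eq, hd2]) hcomm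
    apply hdu
    rw [← h9, e.apply_symm_apply]

/-- **No component `G₂(3)` or `Sp₆(2)`.** -/
theorem not_spor (hX : IsSporadicGroup X ∨ Lie.IsoTits X) (h : Cfg α A)
    (hodd : (¬ ∃ y, α = MulAut.conj y) → Odd (Nat.card ↥(centralizer (A : Set X)))) (hA : HA A) : False := by
  rcases hX with (hX | hX | hX | hX | hX | hX | hX | hX | hX | hX | hX | hX | hX | hX | hX | hX | hX | hX | hX | hX | hX |
    hX | hX | hX | hX | hX) | hX
  · exact not_order hA (NotCT.Orders.m11 hX) (by norm_num) (by norm_num)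
  · exact not_order hA (NotCT.Orders.m12 hX) (by norm_num) (by norm_num)
  · exact not_order hA (NotCT.Orders.m22 hX) (by norm_num) (by norm_num)
  · exact not_order hA (NotCT.Orders.m23 hX) (by norm_num) (by norm_num)
  · exact not_order hA (NotCT.Orders.m24 hX) (by norm_num) (by norm_num)
  · exact not_order hA (NotCT.Orders.j1 hX) (by norm_num) (by norm_num)
  · exact not_order hA (NotCT.Orders.j2 hX) (by norm_num) (by norm_num)
  · exact not_order hA (NotCT.Orders.j3 hX) (by norm_num) (by norm_num)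
  · exact not_order hA (NotCT.Orders.j4 hX) (by norm_num) (by norm_num)
  · exact co1 h hA hX
  · exact co2 h hA hX
  · exact co3 h hA hX
  · exact not_order hA (NotCT.Orders.mcl hX) (by norm_num) (by norm_num)
  · exact not_order hA (NotCT.Orders.hs hX) (by norm_num) (by norm_num)
  · exact suz h hA hX
  · exact not_order hA (NotCT.Orders.he hX) (by norm_num) (by norm_num)
  · exact not_order hA (NotCT.Orders.ru hX) (by norm_num) (by norm_num)
  · exact on h hA hX
  · exact not_order hA (NotCT.Orders.ly hX) (by norm_num) (by norm_num)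
  · exact fi22 h hA hX hodd
  · exact fi23 h hA hX
  · exact fi24 h hA hX
  · exact hn h hA hX
  · exact th h hA hX
  · exact b h hA hX
  · exact m h hA hX
  · exact not_order hA (NotCT.Orders.tits hX) (by norm_num) (by norm_num)

end rows

end Cfsg.Agent.H323.StdSpor
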