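import Cfsg.Agent.CpAutSuz.Gen
import Cfsg.Agent.KFacts.SuzInvol
import Cfsg.Agent.OddHalf.Table.OutSuz
import Cfsg.Prelude.Def_EvenType

/-!
# The outer involutory automorphisms of the Suzuki group on the Suzuki graph (helper323)

Every outer involutory automorphism of `Suz` is induced by an involution `P` of the automorphism group of the graph on
1782 points, which either fixes no point and maps exactly 792 points to adjacent points, or fixes exactly 100 points.

* `no13` : it does not fix an element of order 13;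
* `no567` : the order of the group of fixed points is not divisible by `567 = 3⁴ 7`.
-/

set_option autoImplicit false
set_option maxRecDepth 100000
set_option exponentiation.threshold 5000

namespace Cfsg.Agent.H323.SuzOut

open Subgroup Cfsg
open Cfsg.Spor (Suz)
open Cfsg.Agent.Lib Cfsg.Agent.Lib.BitNet Cfsg.Agent.Lib.BitNetSimple
  Cfsg.Agent.SporadicRecognition.SuzOrder Cfsg.Agent.OddHalf.Table.SuzNets Cfsg.Agent.OddHalf.Table.SuzGraph
  Cfsg.Agent.OddHalf.Table.SuzRep Cfsg.Agent.OddHalf.Table.OutSuz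
open Cfsg.Agent.Lib.PermNet (WOk wperm checkEq wperm_eq_of_checkEq wperm_cons wperm_nil)
open Cfsg.Agent.SporRec.SuzCl (cntP cntP_eq Fx)
open Cfsg.Agent.CpAutSuz.Fix (mem_Fx exists_fix card_three_of_fix no_fix card_Fx_seven card_Fx_thirteen
  φ_mul_apply mem_stab_pt)
open Cfsg.Agent.SporadicRecognition.SuzPhi (φ)

abbrev Pm := Equiv.Perm (Fin 1782)

/-! ### permutations as functions on `ℕ` -/

/-- the value -/
def ev (P : Pm) (p : ℕ) : ℕ := if h : p < 1782 then (P ⟨p, h⟩ : ℕ) else p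

theorem ev_lt {P : Pm} {p : ℕ} (h : p < 1782) : ev P p < 1782 := by
  rw [ev, dif_pos h]
  exact (P _).2

theorem ev_fin (P : Pm) (i : Fin 1782) : ev P i = P i := by
  rw [ev, dif_pos i.2]

theorem ev_mul (P Q : Pm) {p : ℕ} (h : p < 1782) : ev (P * Q) p = ev P (ev Q p) := by
  have h1 := ev_fin (P * Q) ⟨p, h⟩
  have h2 := ev_fin Q ⟨p, h⟩
  have h3 := ev_fin P (Q ⟨p, h⟩)
  simp only at h1 h2
  rw [h1, h2, h3, Equiv.Perm.mul_apply]

theorem ev_one {p : ℕ} : ev 1 p = p := by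
  unfold ev
  split_ifs <;> rfl

theorem ev_ψ (g : Suz) {p : ℕ} (h : p < 1782) : ev (ψ g) p = φ g p := by
  rw [ev, dif_pos h]
  exact ψ_val g ⟨p, h⟩

theorem ev_inj {P : Pm} {p q : ℕ} (hp : p < 1782) (hq : q < 1782) (h : ev P p = ev P q) : p = q := by
  rw [ev, ev, dif_pos hp, dif_pos hq] at h
  have h1 := P.injective (Fin.ext h)
  exact congrArg Fin.val h1

/-- the points mapped to adjacent points -/
noncomputable def DA (P : Pm) : Finset ℕ := (Finset.range 1782).filter fun p => (row p).testBit (ev P p) = true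

/-- the fixed points -/
noncomputable def DF (P : Pm) : Finset ℕ := (Finset.range 1782).filter fun p => ev P p = p

theorem mem_DA {P : Pm} {p : ℕ} : p ∈ DA P ↔ p < 1782 ∧ (row p).testBit (ev P p) = true := by
  rw [DA, Finset.mem_filter, Finset.mem_range]

theorem mem_DF {P : Pm} {p : ℕ} : p ∈ DF P ↔ p < 1782 ∧ ev P p = p := by
  rw [DF, Finset.mem_filter, Finset.mem_range]

theorem adj_map {Q : Pm} (hQ : Q ∈ Aut 1782 row) {p q : ℕ} (hp : p < 1782) (hq : q < 1782) :
    (row (ev Q p)).testBit (ev Q q) = (row p).testBit q := by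
  have h := mem_Aut.1 hQ ⟨p, hp⟩ ⟨q, hq⟩
  rw [ev, ev, dif_pos hp, dif_pos hq]
  exact h

/-- conjugation -/
theorem card_DA_conj {P Q : Pm} (hQ : Q ∈ Aut 1782 row) : (DA (Q * P * Q⁻¹)).card = (DA P).card := by
  symm
  refine Finset.card_bij (fun p _ => ev Q p) (fun p hp => ?_) (fun p hp q hq h => ?_) (fun p hp => ?_)
  · rw [mem_DA] at hp ⊢
    refine ⟨ev_lt hp.1, ?_⟩
    rw [← ev_mul _ _ hp.1, show Q * P * Q⁻¹ * Q = Q * P by group, ev_mul _ _ hp.1, adj_map hQ hp.1 (ev_lt hp.1)]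
    exact hp.2
  · exact ev_inj (mem_DA.1 hp).1 (mem_DA.1 hq).1 h
  · rw [mem_DA] at hp
    have h1 : ev Q (ev Q⁻¹ p) = p := by rw [← ev_mul _ _ hp.1, mul_inv_cancel, ev_one]
    refine ⟨ev Q⁻¹ p, ?_, h1⟩
    rw [mem_DA]
    refine ⟨ev_lt hp.1, ?_⟩
    have h2 := hp.2
    rw [show Q * P * Q⁻¹ = Q * (P * Q⁻¹) by group, ev_mul _ _ hp.1, ev_mul _ _ hp.1] at h2
    nth_rewrite 1 [← h1] at h2
    rwa [adj_map hQ (ev_lt hp.1) (ev_lt (ev_lt hp.1))] at h2

theorem card_DF_conj {P Q : Pm} : (DF (Q * P * Q⁻¹)).card = (DF P).card := by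
  symm
  refine Finset.card_bij (fun p _ => ev Q p) (fun p hp => ?_) (fun p hp q hq h => ?_) (fun p hp => ?_)
  · rw [mem_DF] at hp ⊢
    refine ⟨ev_lt hp.1, ?_⟩
    rw [← ev_mul _ _ hp.1, show Q * P * Q⁻¹ * Q = Q * P by group, ev_mul _ _ hp.1, hp.2]
  · exact ev_inj (mem_DF.1 hp).1 (mem_DF.1 hq).1 h
  · rw [mem_DF] at hp
    have h1 : ev Q (ev Q⁻¹ p) = p := by rw [← ev_mul _ _ hp.1, mul_inv_cancel, ev_one]
    refine ⟨ev Q⁻¹ p, ?_, h1⟩
    rw [mem_DF]
    refine ⟨ev_lt hp.1, ?_⟩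
    have h2 := hp.2
    rw [show Q * P * Q⁻¹ = Q * (P * Q⁻¹) by group, ev_mul _ _ hp.1, ev_mul _ _ hp.1] at h2
    have h3 : ev Q (ev P (ev Q⁻¹ p)) = ev Q (ev Q⁻¹ p) := by rw [h2, h1]
    exact ev_inj (ev_lt (ev_lt hp.1)) (ev_lt hp.1) h3

/-! ### kernel counts -/

noncomputable def chA (i : ℕ) : Bool := and (Nat.ble i 1781) (tb (row i) (appF nT i))
noncomputable def chF (i : ℕ) : Bool := and (Nat.ble i 1781) (Nat.beq (appF nT (appF nY i)) i)

theorem cA : Nat.beq (cntP chA 11 0) 792 = true := by decide +kernel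
theorem cF : Nat.beq (cntP chF 11 0) 100 = true := by decide +kernel

theorem ev_perm {l : List (ℕ × ℕ)} (ok : OkNet 1782 l) {p : ℕ} (h : p < 1782) : ev (perm ok) p = appF l p := by
  rw [ev, dif_pos h, appF_eq]
  rfl

theorem card_DA_T : (DA T).card = 792 := by
  rw [← Nat.eq_of_beq_eq_true cA, cntP_eq]
  refine congrArg Finset.card (Finset.ext fun p => ?_)
  rw [mem_DA, Finset.mem_filter, Finset.mem_Ico, chA, Bool.and_eq_true]
  constructor
  · rintro ⟨h1, h2⟩
    refine ⟨⟨Nat.zero_le _, by norm_num; omega⟩, Nat.ble_eq_true_of_le (by omega), ?_⟩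
    rw [tb_eq, ← ev_perm okT h1]
    exact h2
  · rintro ⟨-, h1, h2⟩
    have h3 := Nat.le_of_ble_eq_true h1
    have h4 : p < 1782 := by omega
    refine ⟨h4, ?_⟩
    rw [tb_eq, ← ev_perm okT h4] at h2
    exact h2

theorem card_DF_TY : (DF (T * Y)).card = 100 := by
  rw [← Nat.eq_of_beq_eq_true cF, cntP_eq]
  refine congrArg Finset.card (Finset.ext fun p => ?_)
  rw [mem_DF, Finset.mem_filter, Finset.mem_Ico, chF, Bool.and_eq_true]
  constructor
  · rintro ⟨h1, h2⟩
    refine ⟨⟨Nat.zero_le _, by norm_num; omega⟩, Nat.ble_eq_true_of_le (by omega), ?_⟩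
    rw [ev_mul _ _ h1, show Y = perm okY from rfl, ev_perm okY h1, show T = perm okT from rfl, ev_perm okT] at h2
    · rw [h2]
      exact Nat.beq_refl _
    · rw [← ev_perm okY h1]
      exact ev_lt h1
  · rintro ⟨-, h1, h2⟩
    have h3 := Nat.le_of_ble_eq_true h1
    have h4 : p < 1782 := by omega
    refine ⟨h4, ?_⟩
    rw [ev_mul _ _ h4, show Y = perm okY from rfl, ev_perm okY h4, show T = perm okT from rfl, ev_perm okT]
    · exact Nat.eq_of_beq_eq_true h2
    · rw [← ev_perm okY h4]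
      exact ev_lt h4

theorem DF_T : DF T = ∅ := by
  rw [Finset.eq_empty_iff_forall_notMem]
  intro p hp
  rw [mem_DF] at hp
  refine T_ne ⟨p, hp.1⟩ ?_
  apply Fin.ext
  have h1 := ev_fin T ⟨p, hp.1⟩
  simp only at h1
  rw [← h1]
  exact hp.2

/-! ### the automorphisms induced by `T` and `T Y` -/

/-- an automorphism induced by conjugation in a larger group -/
theorem exists_aut {G P : Type*} [Group G] [Finite G] [Group P] {f : G →* P} (hf : Function.Injective f) (t : P)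
    {S : Set G} (hS : closure S = ⊤) (h : ∀ s ∈ S, ∃ g, f g = t * f s * t⁻¹) :
    ∃ τ : MulAut G, ∀ g, f (τ g) = t * f g * t⁻¹ := by
  have h1 : ∀ g, ∃ k, f k = t * f g * t⁻¹ := by
    have h2 : closure S ≤ (f.range).comap ((MulAut.conj t).toMonoidHom.comp f) := by
      rw [closure_le]
      intro s hs
      obtain ⟨g, hg⟩ := h s hs
      exact ⟨g, hg⟩
    intro g
    have h3 : g ∈ closure S := by rw [hS]; trivial
    exact h2 h3
  choose k hk using h1
  let F : G →* G :=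
    { toFun := k
      map_one' := hf (by rw [hk, map_one]; group)
      map_mul' := fun a b => hf (by rw [hk, map_mul, map_mul, hk, hk]; group) }
  have hF : Function.Injective F := by
    intro a b hab
    apply hf
    have h2 : t * f a * t⁻¹ = t * f b * t⁻¹ := by
      rw [← hk, ← hk]
      exact congrArg f hab
    exact mul_left_cancel (mul_right_cancel h2)
  exact ⟨MulEquiv.ofBijective F (Finite.injective_iff_bijective.1 hF), hk⟩

theorem TW : T * W * T⁻¹ = R ^ 6 * W := by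
  have h : checkEq 11 [pn nT, pn nW] [pn nR, pn nR, pn nR, pn nR, pn nR, pn nR, pn nW, pn nT] = true := by
    decide +kernel
  have h1 := wperm_eq_of_checkEq (WOk.cons oT (WOk.cons oW (WOk.nil _)))
    (WOk.cons oR (WOk.cons oR (WOk.cons oR (WOk.cons oR (WOk.cons oR (WOk.cons oR (WOk.cons oW
      (WOk.cons oT (WOk.nil _))))))))) h
  simp only [wperm_cons, wperm_nil, mul_one] at h1
  rw [mul_inv_eq_iff_eq_mul]
  ext i
  have h2 := congrArg (fun P : Equiv.Perm ℕ => P i) h1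
  simp only [Equiv.Perm.mul_apply] at h2
  rw [pn_perm okT oT, pn_perm okW oW, pn_perm okT oT, pn_perm okW oW, pn_perm okR oR, pn_perm okR oR, pn_perm okR oR,
    pn_perm okR oR, pn_perm okR oR, pn_perm okR oR] at h2
  simp only [pow_succ, pow_zero, one_mul, Equiv.Perm.mul_apply]
  exact h2

theorem TY : T * Y = Y * T := comm_of_check okT okY oT oY (by decide +kernel)

theorem exists_τ : ∃ τ : MulAut Suz, ∀ g, ψ (τ g) = T * ψ g * T⁻¹ := by
  have hfin : Finite Suz := Nat.finite_of_card_ne_zero (by rw [card_Suz]; norm_num)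
  refine exists_aut ψ_injective T (S := insert w {x, f, y}) K_eq_top ?_
  rintro s (rfl | rfl | rfl | rfl)
  · exact ⟨r ^ 6 * w, by rw [map_mul, map_pow, ψ_r, ψ_w, TW]⟩
  · exact ⟨x, by rw [ψ_x, TX]; group⟩
  · exact ⟨f, by rw [ψ_f, TF]; group⟩
  · exact ⟨y, by rw [ψ_y, TY]; group⟩

/-- `α` is induced by `P` -/
structure Ind (α : MulAut Suz) (P : Pm) : Prop where
  sq : P * P = 1
  mem : P ∈ Aut 1782 row
  eq : ∀ g, ψ (α g) = P * ψ g * P⁻¹

theorem Ind.conj {α : MulAut Suz} {P : Pm} (h : Ind α P) (k : Suz) :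
    Ind (MulAut.conj k * α * (MulAut.conj k)⁻¹) (ψ k * P * (ψ k)⁻¹) where
  sq := by
    calc ψ k * P * (ψ k)⁻¹ * (ψ k * P * (ψ k)⁻¹) = ψ k * (P * P) * (ψ k)⁻¹ := by group
      _ = 1 := by rw [h.sq]; group
  mem := mul_mem (mul_mem (ψ_mem k) h.mem) (inv_mem (ψ_mem k))
  eq g := by
    rw [MulAut.mul_apply, MulAut.mul_apply, ← map_inv, MulAut.conj_apply, MulAut.conj_apply, map_mul, map_mul, h.eq,
      map_mul, map_mul, map_inv]
    group

/-- elements fixed by `α` -/
theorem Ind.comm {α : MulAut Suz} {P : Pm} (h : Ind α P) {v : Suz} (hv : α v = v) {p : ℕ} (hp : p < 1782) :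
    φ v (ev P p) = ev P (φ v p) := by
  have h1 := h.eq v
  rw [hv, eq_mul_inv_iff_mul_eq] at h1
  rw [← ev_ψ v (ev_lt hp), ← ev_ψ v hp, ← ev_mul _ _ hp, ← ev_mul _ _ hp, h1]

theorem Ind.map_DF {α : MulAut Suz} {P : Pm} (h : Ind α P) {v : Suz} (hv : α v = v) {p : ℕ} (hp : p ∈ DF P) :
    φ v p ∈ DF P := by
  rw [mem_DF] at hp ⊢
  refine ⟨φ_lt v hp.1, ?_⟩
  rw [← h.comm hv hp.1, hp.2]

theorem Ind.map_DA {α : MulAut Suz} {P : Pm} (h : Ind α P) {v : Suz} (hv : α v = v) {p : ℕ} (hp : p ∈ DA P) :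
    φ v p ∈ DA P := by
  rw [mem_DA] at hp ⊢
  refine ⟨φ_lt v hp.1, ?_⟩
  rw [← h.comm hv hp.1, ← ev_ψ v hp.1, ← ev_ψ v (ev_lt hp.1), adj_map (ψ_mem v) hp.1 (ev_lt hp.1)]
  exact hp.2

theorem finite_Suz : Finite Suz := Nat.finite_of_card_ne_zero (by rw [card_Suz]; norm_num)

/-- an element of prime order acting on an invariant set of points -/
theorem fix_modEq {l : ℕ} (hl : l.Prime) {v : Suz} (hv : orderOf v = l) (X : Finset ℕ)
    (hX : ∀ a ∈ X, φ v a ∈ X) : X.card ≡ (X.filter fun a => φ v a = a).card [MOD l] := by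
  have : Fact l.Prime := ⟨hl⟩
  have hfin := finite_Suz
  have hp : IsPGroup l (zpowers v) := IsPGroup.of_card (n := 1) (by rw [Nat.card_zpowers, hv, pow_one])
  have hX' : ∀ q ∈ zpowers v, ∀ a ∈ X, φ q a ∈ X := by
    intro q hq a ha
    obtain ⟨n, rfl⟩ := (mem_powers_iff_mem_zpowers.2 hq)
    show φ (v ^ n) a ∈ X
    induction n with
    | zero => rw [pow_zero, map_one]; exact ha
    | succ n ih => rw [pow_succ', φ_mul_apply]; exact hX _ (ih (by
        rw [← mem_powers_iff_mem_zpowers]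
        exact ⟨n, rfl⟩))
  let _ : MulAction (zpowers v) X :=
    { smul := fun q a => ⟨φ (q : Suz) a, hX' q q.2 a a.2⟩
      one_smul := fun a => Subtype.ext (by show φ (1 : Suz) (a : ℕ) = a; rw [map_one]; rfl)
      mul_smul := fun q r a => Subtype.ext (by
        show φ ((q : Suz) * r) (a : ℕ) = φ (q : Suz) (φ (r : Suz) a)
        rw [φ_mul_apply]) }
  have h1 := hp.card_modEq_card_fixedPoints (X : Type)
  rw [Nat.card_eq_fintype_card, Fintype.card_coe] at h1
  have h2 : Nat.card ↥(MulAction.fixedPoints (zpowers v) X) = (X.filter fun a => φ v a = a).card := by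
    rw [← Fintype.card_coe, ← Nat.card_eq_fintype_card]
    refine Nat.card_congr
      { toFun := fun a => ⟨((a : X) : ℕ), ?_⟩
        invFun := fun a => ⟨⟨(a : ℕ), (Finset.mem_filter.1 a.2).1⟩, ?_⟩
        left_inv := fun a => rfl
        right_inv := fun a => rfl }
    · rw [Finset.mem_filter]
      exact ⟨(a : X).2, congrArg Subtype.val (a.2 ⟨v, mem_zpowers v⟩)⟩
    · intro q
      apply Subtype.ext
      have h3 : (q : Suz) ∈ zpowers v := q.2
      have h4 : v ∈ (MulAction.stabilizer (Equiv.Perm ℕ) (a : ℕ)).comap φ := (Finset.mem_filter.1 a.2).2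
      have h5 := (zpowers_le.2 h4) h3
      exact h5
  rw [h2] at h1
  exact h1

end Cfsg.Agent.H323.SuzOut
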